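import Cfsg.Agent.Lib.TwoGroup.QuasiDihedral

/-!
Four subgroups and quaternion subgroups of quasi-dihedral groups.
-/

set_option autoImplicit false
set_option linter.unusedSectionVars false

namespace Cfsg.Lib.TwoGroup

open Subgroup

variable {S : Type*} [Group S] [Finite S]

theorem orderOf_le_two_of_isKleinFour {T : Subgroup S} (hT : IsKleinFour T) {s : S} (hs : s ∈ T) :
    s * s = 1 := by
  haveI := hT
  simpa [Subtype.ext_iff] using IsKleinFour.mul_self (⟨s, hs⟩ : T)

theorem mem_centralizer_self_le {H : Subgroup S} (h : centralizer (H : Set S) ≤ H) :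
    centralizer (H : Set S) = (center H).map H.subtype := by
  ext s
  simp only [mem_map, mem_centralizer_iff, mem_center_iff, coe_subtype]
  constructor
  · intro hs
    exact ⟨⟨s, h (mem_centralizer_iff.mpr hs)⟩, fun g => Subtype.ext (hs g g.2), rfl⟩
  · rintro ⟨c, hc, rfl⟩ g hg
    exact congrArg Subtype.val (hc ⟨g, hg⟩)

namespace SD

variable {n : ℕ} (d : SD S n)
include d

theorem four_structure {T : Subgroup S} (hT : IsKleinFour T) :
    d.z ∈ T ∧ ∃ i : ℤ, ∀ s, s ∈ T ↔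
      s = 1 ∨ s = d.z ∨ s = d.x ^ (2 * i) * d.y ∨ s = d.z * (d.x ^ (2 * i) * d.y) := by
  haveI := hT
  have hinv : ∀ s ∈ T, s ≠ 1 → s = d.z ∨ ∃ i : ℤ, s = d.x ^ (2 * i) * d.y := fun s hs h1 =>
    d.involution_cases (Cfsg.Lib.Invol.orderOf_eq_two_of h1 (orderOf_le_two_of_isKleinFour hT hs))
  have h4 : Nat.card T = 4 := IsKleinFour.card_four
  -- an element outside `{1, z}`
  obtain ⟨t, ht, ht'⟩ : ∃ t ∈ T, ¬ (t = 1 ∨ t = d.z) := by
    by_contra hh
    push Not at hh
    have : (T : Set S) ⊆ {1, d.z} := fun s hs => hh s hs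
    have := Set.ncard_le_ncard this
    rw [Set.ncard_pair (Ne.symm d.z_ne_one), ← Nat.card_coe_set_eq] at this
    rw [SetLike.coe_sort_coe, h4] at this
    omega
  obtain ⟨ht1, htz⟩ := not_or.mp ht'
  obtain ⟨i, rfl⟩ := (hinv t ht ht1).resolve_left htz
  have hz : d.z ∈ T := by
    obtain ⟨s, hs, hs'⟩ : ∃ s ∈ T, ¬ (s = 1 ∨ s = d.x ^ (2 * i) * d.y) := by
      by_contra hh
      push Not at hh
      have : (T : Set S) ⊆ {1, d.x ^ (2 * i) * d.y} := fun s hs => hh s hs
      have := Set.ncard_le_ncard this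
      rw [Set.ncard_pair (Ne.symm ht1), ← Nat.card_coe_set_eq, SetLike.coe_sort_coe, h4] at this
      omega
    obtain ⟨hs1, hst⟩ := not_or.mp hs'
    rcases hinv s hs hs1 with rfl | ⟨j, rfl⟩
    · exact hs
    · have hp := mul_mem hs ht
      rcases hinv _ hp (fun e => hst (by
          rw [mul_eq_one_iff_eq_inv, Cfsg.Lib.Invol.inv_eq_self (d.orderOf_even i)] at e
          exact e)) with e | ⟨k, e⟩
      · exact e ▸ hp
      · rw [d.mul_rule] at e
        exact absurd e (d.ne_mul_y _ _)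
  refine ⟨hz, i, ?_⟩
  have hset : ({1, d.z, d.x ^ (2 * i) * d.y, d.z * (d.x ^ (2 * i) * d.y)} : Set S) = (T : Set S) := by
    refine Set.eq_of_subset_of_ncard_le ?_ ?_
    · rintro s (rfl | rfl | rfl | rfl)
      exacts [one_mem _, hz, ht, mul_mem hz ht]
    · rw [← Nat.card_coe_set_eq, SetLike.coe_sort_coe, h4, Set.ncard_insert_of_notMem,
        Set.ncard_insert_of_notMem, Set.ncard_pair]
      · intro e
        exact d.z_ne_one (mul_eq_right.mp e.symm)
      · rintro (e | e)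
        · exact d.ne_mul_y (2 * P n) (2 * i) e
        · exact ht1 (mul_eq_left.mp e.symm)
      · rintro (e | e | e)
        · exact d.z_ne_one e.symm
        · exact ht1 e.symm
        · rw [Set.mem_singleton_iff, eq_comm, mul_eq_one_iff_eq_inv, Cfsg.Lib.Invol.inv_eq_self (d.orderOf_even i)] at e
          exact d.ne_mul_y (2 * P n) (2 * i) e
  intro s
  rw [← SetLike.mem_coe, ← hset]
  simp [Set.mem_insert_iff]

theorem four_conj {T₁ T₂ : Subgroup S} (h₁ : IsKleinFour T₁) (h₂ : IsKleinFour T₂) :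
    ∃ s : S, T₁.map (MulAut.conj s).toMonoidHom = T₂ := by
  obtain ⟨hz1, i, h1⟩ := d.four_structure h₁
  obtain ⟨hz2, j, h2⟩ := d.four_structure h₂
  obtain ⟨l, hl⟩ := d.exists_conj (2 * i) (j - i)
  rw [show 2 * i + 2 * (j - i) = 2 * j by ring] at hl
  refine ⟨d.x ^ l, eq_of_le_of_card_ge ?_ ?_⟩
  · rintro _ ⟨s, hs, rfl⟩
    have hzc : d.x ^ l * d.z * (d.x ^ l)⁻¹ = d.z := by
      rw [(d.z_central _).eq, mul_inv_cancel_right]
    simp only [MulEquiv.coe_toMonoidHom, MulAut.conj_apply]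
    rcases (h1 s).mp hs with rfl | rfl | rfl | rfl
    · rw [mul_one, mul_inv_cancel]; exact one_mem _
    · rwa [hzc]
    · rw [hl]; exact (h2 _).mpr (Or.inr (Or.inr (Or.inl rfl)))
    · rw [← conj_mul, hzc, hl]
      exact (h2 _).mpr (Or.inr (Or.inr (Or.inr rfl)))
  · rw [card_map_of_injective (MulAut.conj _).injective]
    haveI := h₁; haveI := h₂
    rw [IsKleinFour.card_four, IsKleinFour.card_four]

theorem four_centralizer {T : Subgroup S} (hT : IsKleinFour T) :
    centralizer (T : Set S) = T := by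
  obtain ⟨hz, i, h⟩ := d.four_structure hT
  refine le_antisymm (fun s hs => ?_) (fun s hs => ?_)
  · have ht : d.x ^ (2 * i) * d.y ∈ T := (h _).mpr (Or.inr (Or.inr (Or.inl rfl)))
    have hc : Commute (d.x ^ (2 * i) * d.y) s := mem_centralizer_iff.mp hs _ ht
    have key : ∀ l : ℤ, Commute (d.x ^ l) (d.x ^ (2 * i) * d.y) → d.x ^ l ∈ T := fun l hl => by
      rcases d.x_eq_one_or_z (d.commute_y_iff.mp hl) with e | e <;> rw [e]
      exacts [one_mem _, hz]
    obtain ⟨l, rfl | rfl⟩ := d.normal_form s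
    · exact key l hc.symm
    · have e : d.x ^ l * d.y = d.x ^ (l - 2 * i) * (d.x ^ (2 * i) * d.y) := by
        rw [← mul_assoc, ← zpow_add, sub_add_cancel]
      rw [e] at hc ⊢
      refine mul_mem (key _ ?_) ht
      have h2 := (hc.mul_right ((Commute.refl _).inv_right)).symm
      rwa [mul_inv_cancel_right] at h2
  · haveI := hT
    exact mem_centralizer_iff.mpr fun g hg =>
      congrArg Subtype.val (IsKleinFour.isMulCommutative.is_comm.comm (⟨g, hg⟩ : T) ⟨s, hs⟩)

theorem four_relIndex {T : Subgroup S} (hT : IsKleinFour T) :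
    T.relIndex (normalizer (T : Set S)) = 2 := by
  obtain ⟨hz, i, h⟩ := d.four_structure hT
  have ht : d.x ^ (2 * i) * d.y ∈ T := (h _).mpr (Or.inr (Or.inr (Or.inl rfl)))
  -- `x^l` normalises `T` iff `P ∣ l`
  have hN : ∀ l : ℤ, d.x ^ l ∈ normalizer (T : Set S) ↔ P n ∣ l := by
    intro l
    have hzc : d.x ^ l * d.z * (d.x ^ l)⁻¹ = d.z := by
      rw [(d.z_central _).eq, mul_inv_cancel_right]
    constructor
    · intro hl
      have h1 := (h _).mp ((mem_normalizer_iff.mp hl _).mp ht)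
      rw [d.conj_x] at h1
      rcases h1 with e | e | e | e
      · exact absurd ((zpow_zero d.x).trans e.symm) (d.ne_mul_y 0 _)
      · exact absurd e.symm (d.ne_mul_y _ _)
      · rw [mul_left_inj, d.zx] at e
        obtain ⟨r, hr⟩ := e
        refine dvd_of_odd_mul d.one_sub_P_odd ⟨2 * r, ?_⟩
        show _ = P n * _
        linarith
      · rw [z, ← mul_assoc, ← zpow_add, mul_left_inj, d.zx] at e
        obtain ⟨r, hr⟩ := e
        refine dvd_of_odd_mul d.one_sub_P_odd ⟨2 * r + 1, ?_⟩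
        show _ = P n * _
        linarith
    · rintro ⟨r, rfl⟩
      refine mem_normalizer_fintype fun s hs => ?_
      have hc : d.x ^ (P n * r) * (d.x ^ (2 * i) * d.y) * (d.x ^ (P n * r))⁻¹ ∈ T := by
        rw [d.conj_x]
        obtain ⟨p, hp⟩ := d.P_even
        rcases Int.even_or_odd r with ⟨m, hm⟩ | ⟨m, hm⟩
        · convert ht using 2
          rw [d.zx]
          exact ⟨(1 - P n) * m, by rw [hm]; ring⟩
        · convert mul_mem hz ht using 1
          rw [z, ← mul_assoc (d.x ^ (2 * P n)), ← zpow_add, mul_left_inj, d.zx]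
          exact ⟨m - P n * m - p, by rw [hm]; linear_combination (-2 * P n) * hp⟩
      rcases (h s).mp hs with rfl | rfl | rfl | rfl
      · rw [mul_one, mul_inv_cancel]; exact one_mem _
      · rwa [hzc]
      · exact hc
      · rw [← conj_mul, hzc]; exact mul_mem hz hc
  have haT : d.x ^ P n ∉ T := by
    intro hh
    rcases (h _).mp hh with e | e | e | e
    · rw [d.zx_one] at e
      have := Int.le_of_dvd d.P_pos e
      linarith [d.P_pos]
    · rw [z, d.zx] at e
      rw [show P n - 2 * P n = -P n by ring, dvd_neg] at e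
      have := Int.le_of_dvd d.P_pos e
      linarith [d.P_pos]
    · exact d.ne_mul_y _ _ e
    · rw [z, ← mul_assoc, ← zpow_add] at e
      exact d.ne_mul_y _ _ e
  rw [relIndex_eq_two_iff_exists_notMem_and']
  refine ⟨d.x ^ P n, (hN _).mpr dvd_rfl, haT, fun b hb => ?_⟩
  -- the part of `b` in `⟨x⟩`
  obtain ⟨l, c, hc, rfl⟩ : ∃ l : ℤ, ∃ c ∈ T, b = d.x ^ l * c := by
    obtain ⟨l, rfl | rfl⟩ := d.normal_form b
    · exact ⟨l, 1, one_mem _, (mul_one _).symm⟩
    · exact ⟨l - 2 * i, _, ht, by rw [← mul_assoc, ← zpow_add, sub_add_cancel]⟩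
  have hl : P n ∣ l := (hN l).mp <| by
    have := mul_mem hb (inv_mem (le_normalizer hc))
    rwa [mul_inv_cancel_right] at this
  obtain ⟨r, rfl⟩ := hl
  have key : ∀ m : ℤ, d.x ^ (P n * (2 * m)) ∈ T := fun m => by
    rw [show P n * (2 * m) = 2 * P n * m by ring, zpow_mul]
    exact zpow_mem hz m
  rcases Int.even_or_odd' r with ⟨m, rfl | rfl⟩
  · exact Or.inr (mul_mem (key m) hc)
  · left
    rw [← mul_assoc, ← zpow_add, show P n + P n * (2 * m + 1) = P n * (2 * (m + 1)) by ring]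
    exact mul_mem (key _) hc

theorem quat_structure {Q : Subgroup S} (hQ : Nonempty (Q ≃* QuaternionGroup 2)) :
    ∃ i : ℤ, ∀ s, s ∈ Q ↔ ∃ j : ℤ, s = d.x ^ (P n * j) ∨
      s = d.x ^ (P n * j) * (d.x ^ (2 * i + 1) * d.y) := by
  obtain ⟨e⟩ := hQ
  have f1 : ∀ g : QuaternionGroup 2, g * g = 1 ∨ (g * g) * (g * g) = 1 := by decide
  have f2 : ∀ g h : QuaternionGroup 2, g * g = 1 → h * h = 1 → g ≠ 1 → h ≠ 1 → g = h := by decide
  have f3 : ∃ g : QuaternionGroup 2, g * g ≠ 1 := by decide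
  have h8 : Nat.card Q = 8 := by rw [Nat.card_congr e.toEquiv, Nat.card_eq_fintype_card]; rfl
  have up : ∀ {a b : Q}, e a = e b → (a : S) = b := fun h => congrArg Subtype.val (e.injective h)
  have hfour : ∀ q ∈ Q, q * q ≠ 1 → orderOf q = 4 := fun q hq h => by
    have h2 : (q * q) * (q * q) = 1 := by
      rcases f1 (e ⟨q, hq⟩) with h' | h'
      · exact absurd (up (a := ⟨q, hq⟩ * ⟨q, hq⟩) (b := 1) (by rw [map_mul, h', map_one])) h
      · exact up (a := (⟨q, hq⟩ * ⟨q, hq⟩) * (⟨q, hq⟩ * ⟨q, hq⟩)) (b := 1)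
          (by simp only [map_mul]; rw [h', map_one])
    haveI : Fact (Nat.Prime 2) := ⟨Nat.prime_two⟩
    refine orderOf_eq_prime_pow (p := 2) (n := 1) (by rwa [pow_one, pow_two]) ?_
    rw [show (2 : ℕ) ^ (1 + 1) = 2 * 2 by norm_num, pow_mul, pow_two q, pow_two, h2]
  have hsq : ∀ q : S, orderOf q = 4 → q * q = d.z := fun q h => by
    rcases d.order_four_cases h with rfl | rfl | ⟨i, rfl⟩
    · rw [← zpow_add, z]; congr 1; ring
    · rw [← zpow_add, z, d.zx]; exact ⟨-1, by ring⟩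
    · exact d.sq_odd i
  have hz : d.z ∈ Q := by
    obtain ⟨g, hg⟩ := f3
    obtain ⟨⟨q, hq⟩, rfl⟩ := e.surjective g
    have h : q * q ≠ 1 := fun h => hg (by rw [← map_mul, show (⟨q, hq⟩ * ⟨q, hq⟩ : Q) = 1 from Subtype.ext h, map_one])
    exact hsq q (hfour q hq h) ▸ mul_mem hq hq
  have hcases : ∀ q ∈ Q, q = 1 ∨ q = d.z ∨ q = d.x ^ P n ∨ q = d.x ^ (-P n) ∨
      ∃ i : ℤ, q = d.x ^ (2 * i + 1) * d.y := fun q hq => by
    by_cases h : q * q = 1
    · by_cases h1 : q = 1
      · exact Or.inl h1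
      · refine Or.inr (Or.inl (up (a := ⟨q, hq⟩) (b := ⟨d.z, hz⟩) (f2 _ _ ?_ ?_ ?_ ?_)))
        · rw [← map_mul, ← map_one e]; exact congrArg e (Subtype.ext h)
        · rw [← map_mul, ← map_one e]
          exact congrArg e (Subtype.ext (Cfsg.Lib.Invol.inv_mul_self d.orderOf_z))
        · rw [← map_one e]; exact fun h' => h1 (up h')
        · rw [← map_one e]; exact fun h' => d.z_ne_one (up h')
    · exact Or.inr (Or.inr (d.order_four_cases (hfour q hq h)))
  -- an element outside `⟨x⟩`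
  obtain ⟨i, hb⟩ : ∃ i : ℤ, d.x ^ (2 * i + 1) * d.y ∈ Q := by
    by_contra hh
    push Not at hh
    have : (Q : Set S) ⊆ {1, d.z, d.x ^ P n, d.x ^ (-P n)} := fun q hq => by
      rcases hcases q hq with h | h | h | h | ⟨i, rfl⟩
      · exact Or.inl h
      · exact Or.inr (Or.inl h)
      · exact Or.inr (Or.inr (Or.inl h))
      · exact Or.inr (Or.inr (Or.inr h))
      · exact absurd hq (hh i)
    have h4 : ({1, d.z, d.x ^ P n, d.x ^ (-P n)} : Set S).ncard ≤ 4 := by
      grw [Set.ncard_insert_le, Set.ncard_insert_le, Set.ncard_insert_le, Set.ncard_singleton]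
    have := Set.ncard_le_ncard this
    rw [← Nat.card_coe_set_eq, SetLike.coe_sort_coe, h8] at this
    omega
  set b := d.x ^ (2 * i + 1) * d.y with hbdef
  have hzP : d.z = d.x ^ (P n * 2) := by rw [z, mul_comm]
  have hin : ∀ q ∈ Q, q ∈ zpowers d.x → ∃ j : ℤ, q = d.x ^ (P n * j) := fun q hq hx => by
    rcases hcases q hq with rfl | rfl | rfl | rfl | ⟨i, rfl⟩
    · exact ⟨0, by rw [mul_zero, zpow_zero]⟩
    · exact ⟨2, hzP⟩
    · exact ⟨1, by rw [mul_one]⟩
    · exact ⟨-1, by rw [mul_neg_one]⟩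
    · exact absurd hx (d.mul_y_notMem _)
  have hdec : ∀ q ∈ Q, ∃ j : ℤ, q = d.x ^ (P n * j) ∨ q = d.x ^ (P n * j) * b := fun q hq => by
    by_cases hx : q ∈ zpowers d.x
    · obtain ⟨j, hj⟩ := hin q hq hx
      exact ⟨j, Or.inl hj⟩
    · obtain ⟨j, hj⟩ := hin (q * b⁻¹) (mul_mem hq (inv_mem hb))
        ((mul_mem_iff_of_index_two d.index_x).mpr
          (iff_of_false hx fun h => d.mul_y_notMem _ (inv_mem_iff.mp h)))
      exact ⟨j, Or.inr (by rw [← hj, inv_mul_cancel_right])⟩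
  have hP : d.x ^ P n ∈ Q := by
    by_contra hP
    have hj : ∀ j : ℤ, d.x ^ (P n * j) ∈ Q → d.x ^ (P n * j) = 1 ∨ d.x ^ (P n * j) = d.z := by
      intro j hj
      rcases Int.even_or_odd' j with ⟨m, rfl | rfl⟩
      · exact d.x_eq_one_or_z ⟨m, by ring⟩
      · exfalso
        apply hP
        have hm : d.x ^ (P n * (2 * m)) ∈ Q := by
          rw [← mul_assoc, zpow_mul, ← hzP]; exact zpow_mem hz m
        have := mul_mem hj (inv_mem hm)
        rwa [← zpow_neg, ← zpow_add,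
          show P n * (2 * m + 1) + -(P n * (2 * m)) = P n by ring] at this
    have : (Q : Set S) ⊆ {1, d.z, b, d.z * b} := fun q hq => by
      obtain ⟨j, rfl | rfl⟩ := hdec q hq
      · rcases hj j hq with h | h <;> simp [h]
      · rcases hj j ((Q.mul_mem_cancel_right hb).mp hq) with h | h <;> simp [h]
    have h4 : ({1, d.z, b, d.z * b} : Set S).ncard ≤ 4 := by
      grw [Set.ncard_insert_le, Set.ncard_insert_le, Set.ncard_insert_le, Set.ncard_singleton]
    have := Set.ncard_le_ncard this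
    rw [← Nat.card_coe_set_eq, SetLike.coe_sort_coe, h8] at this
    omega
  refine ⟨i, fun q => ⟨fun hq => hdec q hq, ?_⟩⟩
  rintro ⟨j, rfl | rfl⟩
  · rw [zpow_mul]; exact zpow_mem hP j
  · exact mul_mem (by rw [zpow_mul]; exact zpow_mem hP j) hb

theorem quat_conj {Q₁ Q₂ : Subgroup S} (h₁ : Nonempty (Q₁ ≃* QuaternionGroup 2))
    (h₂ : Nonempty (Q₂ ≃* QuaternionGroup 2)) :
    ∃ s : S, Q₁.map (MulAut.conj s).toMonoidHom = Q₂ := by
  obtain ⟨i, h1⟩ := d.quat_structure h₁
  obtain ⟨j, h2⟩ := d.quat_structure h₂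
  obtain ⟨l, hl⟩ := d.exists_conj (2 * i + 1) (j - i)
  rw [show 2 * i + 1 + 2 * (j - i) = 2 * j + 1 by ring] at hl
  refine ⟨d.x ^ l, eq_of_le_of_card_ge ?_ ?_⟩
  · rintro _ ⟨s, hs, rfl⟩
    obtain ⟨m, rfl | rfl⟩ := (h1 s).mp hs
    · refine (h2 _).mpr ⟨m, Or.inl ?_⟩
      simp only [MulEquiv.coe_toMonoidHom, MulAut.conj_apply]; group
    · refine (h2 _).mpr ⟨m, Or.inr ?_⟩
      simp only [MulEquiv.coe_toMonoidHom, MulAut.conj_apply]
      rw [← conj_mul, hl]; congr 1; group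
  · obtain ⟨e₁⟩ := h₁; obtain ⟨e₂⟩ := h₂
    rw [card_map_of_injective (MulAut.conj _).injective, Nat.card_congr e₁.toEquiv,
      Nat.card_congr e₂.toEquiv]

theorem quat_centralizer {Q : Subgroup S} (hQ : Nonempty (Q ≃* QuaternionGroup 2)) :
    centralizer (Q : Set S) = (center Q).map Q.subtype := by
  obtain ⟨i, h⟩ := d.quat_structure hQ
  refine mem_centralizer_self_le fun s hs => ?_
  have hP : d.x ^ P n ∈ Q := (h _).mpr ⟨1, Or.inl (by rw [mul_one])⟩
  have hb : d.x ^ (2 * i + 1) * d.y ∈ Q :=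
    (h _).mpr ⟨0, Or.inr (by rw [mul_zero, zpow_zero, one_mul])⟩
  have hcP : Commute (d.x ^ P n) s := mem_centralizer_iff.mp hs _ hP
  obtain ⟨l, rfl | rfl⟩ := d.normal_form s
  · have hl := d.commute_y_iff.mp (mem_centralizer_iff.mp hs _ hb).symm
    obtain ⟨t, ht⟩ := hl
    exact (h _).mpr ⟨2 * t, Or.inl (by rw [ht]; congr 1; ring)⟩
  · exfalso
    have := Int.le_of_dvd d.P_pos (d.commute_y_iff.mp hcP)
    linarith [d.P_pos]

theorem quat_relIndex {Q : Subgroup S} (hQ : Nonempty (Q ≃* QuaternionGroup 2)) :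
    Q.relIndex (normalizer (Q : Set S)) = 2 := by
  obtain ⟨i, h⟩ := d.quat_structure hQ
  have hb : d.x ^ (2 * i + 1) * d.y ∈ Q :=
    (h _).mpr ⟨0, Or.inr (by rw [mul_zero, zpow_zero, one_mul])⟩
  obtain ⟨H, hH⟩ : ∃ H : ℤ, P n = 2 * H := ⟨2 ^ (n - 3), d.two_pow.2.2⟩
  have hodd := d.one_sub_P_odd
  have hN : ∀ l : ℤ, d.x ^ l ∈ normalizer (Q : Set S) ↔ H ∣ l := by
    intro l
    constructor
    · intro hl
      obtain ⟨j, e | e⟩ := (h _).mp ((mem_normalizer_iff.mp hl _).mp hb)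
      · rw [d.conj_x] at e
        exact absurd e.symm (d.ne_mul_y _ _)
      · rw [d.conj_x, ← mul_assoc, ← zpow_add, mul_left_inj, d.zx] at e
        obtain ⟨r, hr⟩ := e
        have h1 : P n ∣ 2 * l := by
          refine dvd_of_odd_mul hodd ⟨j + 4 * r, ?_⟩
          show _ = P n * _
          linarith
        obtain ⟨u, hu⟩ := h1
        exact ⟨u, by rw [hH] at hu; linarith⟩
    · rintro ⟨r, rfl⟩
      refine mem_normalizer_fintype fun s hs => ?_
      obtain ⟨j, rfl | rfl⟩ := (h s).mp hs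
      · exact (h _).mpr ⟨j, Or.inl (by group)⟩
      · refine (h _).mpr ⟨j + (1 - P n) * r, Or.inr ?_⟩
        rw [← conj_mul, d.conj_x,
          show d.x ^ (H * r) * d.x ^ (P n * j) * (d.x ^ (H * r))⁻¹ = d.x ^ (P n * j) by group,
          ← mul_assoc (d.x ^ (P n * j)), ← zpow_add,
          ← mul_assoc (d.x ^ (P n * (j + (1 - P n) * r))), ← zpow_add]
        congr 2
        rw [hH]; ring
  have haQ : d.x ^ H ∉ Q := by
    intro hh
    obtain ⟨j, e | e⟩ := (h _).mp hh
    · rw [d.zx] at e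
      obtain ⟨r, hr⟩ := e
      have h2 : P n ∣ H := ⟨j + 4 * r, by linarith⟩
      have hp := d.P_pos
      have := Int.le_of_dvd (by omega) h2
      omega
    · rw [← mul_assoc, ← zpow_add] at e
      exact d.ne_mul_y _ _ e
  rw [relIndex_eq_two_iff_exists_notMem_and']
  refine ⟨d.x ^ H, (hN _).mpr dvd_rfl, haQ, fun b hb' => ?_⟩
  obtain ⟨l, c, hc, rfl⟩ : ∃ l : ℤ, ∃ c ∈ Q, b = d.x ^ l * c := by
    obtain ⟨l, rfl | rfl⟩ := d.normal_form b
    · exact ⟨l, 1, one_mem _, (mul_one _).symm⟩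
    · exact ⟨l - (2 * i + 1), _, hb, by rw [← mul_assoc, ← zpow_add, sub_add_cancel]⟩
  have hl : H ∣ l := (hN l).mp <| by
    have := mul_mem hb' (inv_mem (le_normalizer hc))
    rwa [mul_inv_cancel_right] at this
  obtain ⟨r, rfl⟩ := hl
  have key : ∀ m : ℤ, d.x ^ (H * (2 * m)) ∈ Q := fun m =>
    (h _).mpr ⟨m, Or.inl (by rw [hH]; congr 1; ring)⟩
  rcases Int.even_or_odd' r with ⟨m, rfl | rfl⟩
  · exact Or.inr (mul_mem (key m) hc)
  · left
    rw [← mul_assoc, ← zpow_add, show H + H * (2 * m + 1) = H * (2 * (m + 1)) by ring]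
    exact mul_mem (key _) hc

theorem normal_cases {N : Subgroup S} [N.Normal] (hN : N ≠ ⊤) :
    IsCoatom N ∨ (IsCyclic N ∧ N ≤ commutator S) := by
  by_cases hle : N ≤ zpowers d.x
  · by_cases h : N ≤ zpowers (d.x ^ (2 : ℤ))
    · haveI := Subgroup.isCyclic_of_le hle
      exact Or.inr ⟨inferInstance, d.commutator_eq ▸ h⟩
    · left
      obtain ⟨s, hs, hs'⟩ := SetLike.not_le_iff_exists.mp h
      have : N = zpowers d.x := by
        obtain ⟨k, rfl⟩ := mem_zpowers_iff.mp (hle hs)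
        obtain ⟨i, rfl⟩ : Odd k := by
          rw [← Int.not_even_iff_odd]
          rintro ⟨i, rfl⟩
          exact hs' (mem_zpowers_iff.mpr ⟨i, by rw [← zpow_mul]; congr 1; ring⟩)
        refine le_antisymm hle (zpowers_le.mpr ?_)
        -- an odd power of `x` generates
        obtain ⟨u, v, huv⟩ : IsCoprime (2 * i + 1) (4 * P n) := by
          rw [← d.two_pow.1]
          exact IsCoprime.pow_right ⟨1, -i, by ring⟩
        have h1 : d.x ^ (1 : ℤ) = (d.x ^ (2 * i + 1)) ^ u := by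
          rw [← zpow_mul, d.zx]; exact ⟨v, by linarith⟩
        rw [← zpow_one d.x, h1]
        exact zpow_mem hs u
      exact this ▸ isCoatom_of_index d.index_x
  · left
    obtain ⟨s, hs, hs'⟩ := SetLike.not_le_iff_exists.mp hle
    obtain ⟨k, rfl | rfl⟩ := d.normal_form s
    · exact absurd (zpow_mem (mem_zpowers _) k) hs'
    obtain ⟨l, hl⟩ := d.exists_conj k 1
    have h2 : d.x ^ (2 : ℤ) ∈ N := by
      have := mul_mem (Normal.conj_mem ‹N.Normal› _ hs (d.x ^ l)) (inv_mem hs)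
      rw [hl, mul_inv_rev, ← zpow_neg, mul_assoc, mul_inv_cancel_left, ← zpow_add,
        show k + 2 * 1 + -k = 2 by ring] at this
      exact this
    have h3 : ∀ j : ℤ, d.x ^ (k + 2 * j) * d.y ∈ N := fun j => by
      rw [add_comm, zpow_add, mul_assoc, zpow_mul]
      exact mul_mem (zpow_mem h2 j) hs
    rcases Int.even_or_odd' k with ⟨i, rfl | rfl⟩
    · have hy : d.y ∈ N := by simpa [← two_mul] using h3 (-i)
      have : d.M₃ ≤ N := (closure_le _).mpr (Set.insert_subset h2 (Set.singleton_subset_iff.mpr hy))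
      rcases (isCoatom_of_index d.index_M₃).le_iff.mp this with h | h
      · exact absurd h hN
      · exact h ▸ isCoatom_of_index d.index_M₃
    · have hy : d.x * d.y ∈ N := by
        have := h3 (-i)
        rwa [show 2 * i + 1 + 2 * -i = 1 by ring, zpow_one] at this
      have : d.M₂ ≤ N := (closure_le _).mpr (Set.insert_subset h2 (Set.singleton_subset_iff.mpr hy))
      rcases (isCoatom_of_index d.index_M₂).le_iff.mp this with h | h
      · exact absurd h hN
      · exact h ▸ isCoatom_of_index d.index_M₂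

end SD

end Cfsg.Lib.TwoGroup
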