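import Mathlib

/-!
A criterion for the automorphism group of a finite group with a big abelian subgroup to be a 2-group.
-/

set_option autoImplicit false

namespace Cfsg.Lib.TwoGroup

open Subgroup

theorem odd_pow_sub_one {u : ℤ} (hu : Odd u) (m : ℕ) : (2 : ℤ) ^ m ∣ u ^ (2 ^ m) - 1 := by
  induction m with
  | zero => simp
  | succ m ih =>
    have h2 : (2 : ℤ) ∣ u ^ (2 ^ m) + 1 := even_iff_two_dvd.mp (hu.pow.add_odd odd_one)
    rw [pow_succ, pow_succ, pow_mul,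
      show (u ^ 2 ^ m) ^ 2 - 1 = (u ^ 2 ^ m - 1) * (u ^ 2 ^ m + 1) by ring]
    exact mul_dvd_mul ih h2

variable {X : Type*} [Group X]

/-- An odd power determines a 2-element modulo any subgroup. -/
theorem mem_of_odd_zpow_mem {C : Subgroup X} {g : X} {m : ℕ} (hg : g ^ (2 ^ m) = 1) {a : ℤ}
    (ha : Odd a) (h : g ^ a ∈ C) : g ∈ C := by
  obtain ⟨i, rfl⟩ := ha
  obtain ⟨u, v, huv⟩ : IsCoprime (2 * i + 1) ((2 : ℤ) ^ m) :=
    IsCoprime.pow_right ⟨1, -i, by ring⟩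
  have h1 : (g ^ (2 * i + 1)) ^ u = g := by
    rw [← zpow_mul, show (2 * i + 1) * u = 1 + ((2 ^ m : ℕ) : ℤ) * (-v) by push_cast; linarith,
      zpow_add, zpow_one, zpow_mul, zpow_natCast, hg, one_zpow, mul_one]
  exact h1 ▸ zpow_mem h u

theorem zpow_congr_two {g : X} {m : ℕ} (hg : g ^ (2 ^ m) = 1) {a b : ℤ}
    (h : (2 : ℤ) ^ m ∣ a - b) : g ^ a = g ^ b := by
  obtain ⟨t, ht⟩ := h
  rw [show a = b + ((2 ^ m : ℕ) : ℤ) * t by push_cast; linarith, zpow_add, zpow_mul, zpow_natCast,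
    hg, one_zpow, mul_one]

theorem isPGroup_aut {B : Subgroup X} (hBi : B.index = 2)
    (hBinv : ∀ (φ : MulAut X), ∀ b ∈ B, φ b ∈ B) {g c : X} (hg : g ∈ B) (hc : c ∈ B) {m : ℕ}
    (hexp : ∀ b ∈ B, b ^ (2 ^ m) = 1) (hcomm : Commute g c)
    (hdec : ∀ b ∈ B, ∃ i j : ℤ, b = g ^ i * c ^ j)
    (hcinv : ∀ φ : MulAut X, φ c ∈ zpowers c) : IsPGroup 2 (MulAut X) := by
  intro φ
  set C := zpowers c with hC
  have hCinv : ∀ ψ : MulAut X, ∀ k ∈ C, ψ k ∈ C := fun ψ k hk => by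
    obtain ⟨i, rfl⟩ := mem_zpowers_iff.mp hk
    rw [map_zpow]; exact zpow_mem (hcinv ψ) i
  -- action on `C`
  obtain ⟨u, hu, huc⟩ : ∃ u : ℤ, Odd u ∧ φ c = c ^ u := by
    obtain ⟨u, hu⟩ := mem_zpowers_iff.mp (hcinv φ)
    obtain ⟨v, hv⟩ := mem_zpowers_iff.mp (hcinv φ⁻¹)
    rcases Int.even_or_odd u with he | ho
    · have h1 : c ^ (1 - v * u) = 1 := by
        have h2 : φ⁻¹ (φ c) = c := φ.symm_apply_apply c
        rw [← hu, map_zpow, ← hv, ← zpow_mul] at h2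
        rw [zpow_sub, zpow_one, h2, mul_inv_cancel]
      have hc1 : c ∈ (⊥ : Subgroup X) := mem_of_odd_zpow_mem (hexp c hc)
        (odd_one.sub_even (he.mul_left v)) (mem_bot.mpr h1)
      rw [mem_bot] at hc1
      exact ⟨1, odd_one, by rw [hc1, map_one, one_zpow]⟩
    · exact ⟨u, ho, hu.symm⟩
  -- action on `B / C`
  obtain ⟨w, hw, k, hk, hgk⟩ : ∃ w : ℤ, Odd w ∧ ∃ k ∈ C, φ g = g ^ w * k := by
    obtain ⟨w, j, hw⟩ := hdec _ (hBinv φ g hg)
    obtain ⟨v, l, hv⟩ := hdec _ (hBinv φ⁻¹ g hg)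
    rcases Int.even_or_odd w with he | ho
    · have hgC : g ∈ C := by
        have h2 : φ⁻¹ (φ g) = g := φ.symm_apply_apply g
        rw [hw, map_mul, map_zpow, hv, (hcomm.zpow_zpow v l).mul_zpow, ← zpow_mul, mul_assoc] at h2
        refine mem_of_odd_zpow_mem (hexp g hg) (a := 1 - v * w) (odd_one.sub_even (he.mul_left v)) ?_
        have h3 : (c ^ l) ^ w * φ⁻¹ (c ^ j) ∈ C :=
          mul_mem (zpow_mem (zpow_mem (mem_zpowers c) l) w) (hCinv _ _ (zpow_mem (mem_zpowers c) j))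
        have h4 : g ^ (1 - v * w) = (g ^ (v * w))⁻¹ * g := by group
        have h5 : (g ^ (v * w))⁻¹ * g = (c ^ l) ^ w * φ⁻¹ (c ^ j) := by
          rw [inv_mul_eq_iff_eq_mul]; exact h2.symm
        rw [h4, h5]; exact h3
      exact ⟨1, odd_one, g⁻¹ * φ g, mul_mem (inv_mem hgC) (hCinv φ g hgC), by group⟩
    · exact ⟨w, ho, c ^ j, zpow_mem (mem_zpowers c) j, hw⟩
  set K := 2 ^ m with hK
  have hci : ∀ i : ℕ, (φ ^ i) c = c ^ (u ^ i) := fun i => by
    induction i with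
    | zero => simp
    | succ i ih => rw [pow_succ', MulAut.mul_apply, ih, map_zpow, huc, ← zpow_mul, ← pow_succ']
  have hgi : ∀ i : ℕ, ∃ k' ∈ C, (φ ^ i) g = g ^ (w ^ i) * k' := fun i => by
    induction i with
    | zero => exact ⟨1, one_mem C, by simp⟩
    | succ i ih =>
      obtain ⟨k', hk', he⟩ := ih
      obtain ⟨l, rfl⟩ := mem_zpowers_iff.mp hk
      refine ⟨(c ^ l) ^ (w ^ i) * φ k', mul_mem (zpow_mem hk _) (hCinv φ k' hk'), ?_⟩
      rw [pow_succ', MulAut.mul_apply, he, map_mul, map_zpow, hgk, (hcomm.zpow_zpow w l).mul_zpow,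
        ← zpow_mul, ← pow_succ', mul_assoc]
  set ψ := φ ^ K with hψ
  have hψc : ψ c = c := by
    rw [hψ, hci, zpow_congr_two (hexp c hc) (b := 1) (odd_pow_sub_one hu m), zpow_one]
  obtain ⟨k₁, hk₁, hψg⟩ : ∃ k' ∈ C, ψ g = g * k' := by
    obtain ⟨k', hk', he⟩ := hgi K
    refine ⟨k', hk', ?_⟩
    rw [hψ, he, zpow_congr_two (hexp g hg) (b := 1) (odd_pow_sub_one hw m), zpow_one]
  have hψC : ∀ k' ∈ C, ψ k' = k' := fun k' hk' => by
    obtain ⟨i, rfl⟩ := mem_zpowers_iff.mp hk'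
    rw [map_zpow, hψc]
  have hψgi : ∀ i : ℕ, (ψ ^ i) g = g * k₁ ^ i := fun i => by
    induction i with
    | zero => simp
    | succ i ih =>
      rw [pow_succ', MulAut.mul_apply, ih, map_mul, map_pow, hψC k₁ hk₁, hψg, mul_assoc, ← pow_succ']
  have hψci : ∀ i : ℕ, (ψ ^ i) c = c := fun i => by
    induction i with
    | zero => simp
    | succ i ih => rw [pow_succ', MulAut.mul_apply, ih, hψc]
  set χ := ψ ^ K with hχ
  have hCB : C ≤ B := zpowers_le.mpr hc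
  have hχB : ∀ b ∈ B, χ b = b := fun b hb => by
    obtain ⟨i, j, rfl⟩ := hdec b hb
    have h1 : χ g = g := by rw [hχ, hψgi, hexp _ (hCB hk₁), mul_one]
    have h2 : χ c = c := by rw [hχ, hψci]
    rw [map_mul, map_zpow, map_zpow, h1, h2]
  obtain ⟨t, ht⟩ : ∃ t, t ∉ B := by
    by_contra hh
    push Not at hh
    rw [(eq_top_iff' B).mpr hh, index_top] at hBi
    omega
  have hχt : χ t ∉ B := fun h => ht (by simpa using hBinv χ⁻¹ _ h)
  have htb : t⁻¹ * χ t ∈ B := (mul_mem_iff_of_index_two hBi).mpr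
    (iff_of_false (fun h => ht (inv_mem_iff.mp h)) hχt)
  have hti : ∀ i : ℕ, (χ ^ i) t = t * (t⁻¹ * χ t) ^ i := fun i => by
    induction i with
    | zero => simp
    | succ i ih =>
      rw [pow_succ', MulAut.mul_apply, ih, map_mul, map_pow, hχB _ htb, pow_succ' (t⁻¹ * χ t),
        ← mul_assoc t, mul_inv_cancel_left]
  refine ⟨3 * m, ?_⟩
  rw [show 2 ^ (3 * m) = K * K * K by rw [hK]; ring, pow_mul, pow_mul, ← hψ, ← hχ]
  ext x
  have hfix : ∀ i : ℕ, ∀ b ∈ B, (χ ^ i) b = b := fun i b hb => by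
    induction i with
    | zero => simp
    | succ i ih => rw [pow_succ', MulAut.mul_apply, ih, hχB b hb]
  rw [MulAut.one_apply]
  by_cases hx : x ∈ B
  · exact hfix K x hx
  · have hxb : t⁻¹ * x ∈ B := (mul_mem_iff_of_index_two hBi).mpr
      (iff_of_false (fun h => ht (inv_mem_iff.mp h)) hx)
    have := congrArg₂ (· * ·) (hti K) (hfix K _ hxb)
    simp only [← map_mul, mul_inv_cancel_left, hexp _ htb, mul_one] at this
    exact this

end Cfsg.Lib.TwoGroup
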