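import Cfsg.Agent.Lib.TwoGroup.Models
import Cfsg.Agent.Lib.PGroup.AbelianIndexP
import Cfsg.Agent.Lib.PGroup.Basic
import Cfsg.Agent.Lib.Solv.Nilpotent
import Cfsg.Agent.Lib.Core.Basic
import Cfsg.Agent.Lib.Fusion.Alperin

/-!
# 2-groups of maximal class and 2-groups with a cyclic subgroup of index two
-/

set_option autoImplicit false
set_option linter.style.haveILetI false

namespace Cfsg.Lib.TwoGroup.MaximalClass

open Subgroup
open scoped commutatorElement

universe u

theorem dvd_sub_or_dvd_add {m : ℕ} {r : ℤ} (h : (2 : ℤ) ^ (m + 1) ∣ (r - 1) * (r + 1)) :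
    (2 : ℤ) ^ m ∣ r - 1 ∨ (2 : ℤ) ^ m ∣ r + 1 := by
  rcases m with _ | m
  · exact Or.inl (by simp)
  rcases Int.even_or_odd r with ⟨k, rfl⟩ | ⟨k, rfl⟩
  · exfalso
    have h1 : (2 : ℤ) ∣ (k + k - 1) * (k + k + 1) := (dvd_pow_self 2 (by omega)).trans h
    rcases Int.prime_two.dvd_mul.1 h1 with h2 | h2 <;> omega
  have h1 : (2 : ℤ) ^ m ∣ k * (k + 1) := by
    have e : (2 * k + 1 - 1) * (2 * k + 1 + 1) = 4 * (k * (k + 1)) := by ring
    rw [e, show (2 : ℤ) ^ (m + 1 + 1) = 4 * 2 ^ m by ring] at h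
    exact (mul_dvd_mul_iff_left (by norm_num : (4 : ℤ) ≠ 0)).1 h
  rcases Int.even_or_odd k with ⟨j, hj⟩ | ⟨j, hj⟩
  · left
    have h2 : IsCoprime ((2 : ℤ) ^ m) (k + 1) :=
      IsCoprime.pow_left ⟨-j, 1, by rw [hj]; ring⟩
    rw [show 2 * k + 1 - 1 = 2 * k by ring, pow_succ, mul_comm ((2 : ℤ) ^ m)]
    exact mul_dvd_mul_left 2 (h2.dvd_of_dvd_mul_right h1)
  · right
    have h2 : IsCoprime ((2 : ℤ) ^ m) k :=
      IsCoprime.pow_left ⟨-j, 1, by rw [hj]; ring⟩
    rw [show 2 * k + 1 + 1 = 2 * (k + 1) by ring, pow_succ, mul_comm ((2 : ℤ) ^ m)]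
    exact mul_dvd_mul_left 2 (h2.dvd_of_dvd_mul_left h1)

variable {X : Type u} [Group X] [Finite X]

/-- The classification of non-abelian 2-groups with a cyclic subgroup of index two. -/
theorem exists_generators {n : ℕ} (hn : 3 ≤ n) (hX : Nat.card X = 2 ^ n) (C : Subgroup X)
    (hC : IsCyclic C) (hCi : C.index = 2) (hna : ¬ IsMulCommutative X) :
    ∃ a b : X, orderOf a = 2 ^ (n - 1) ∧ b ∉ zpowers a ∧
      ((b ^ 2 = 1 ∧ b * a * b⁻¹ = a⁻¹) ∨ (b ^ 2 = a ^ (2 ^ (n - 2)) ∧ b * a * b⁻¹ = a⁻¹) ∨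
        (4 ≤ n ∧ b ^ 2 = 1 ∧ b * a * b⁻¹ = a ^ (1 + 2 ^ (n - 2))) ∨
        (4 ≤ n ∧ b ^ 2 = 1 ∧ b * a * b⁻¹ = a ^ (2 ^ (n - 2) - 1))) := by
  obtain ⟨q, rfl⟩ : ∃ q, n = q + 3 := ⟨n - 3, by omega⟩
  obtain ⟨a, rfl⟩ := (Subgroup.isCyclic_iff_exists_zpowers_eq_top C).1 hC
  have ha : orderOf a = 2 ^ (q + 2) := by
    have h := card_mul_index (zpowers a)
    rw [Nat.card_zpowers, hCi, hX] at h
    exact Nat.eq_of_mul_eq_mul_right two_pos (h.trans (pow_succ 2 (q + 2)))
  have haint : (orderOf a : ℤ) = 2 ^ (q + 2) := by rw [ha]; norm_num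
  have hone : ∀ x : ℤ, a ^ x = 1 ↔ (2 : ℤ) ^ (q + 2) ∣ x := fun x => by
    rw [← haint, orderOf_dvd_iff_zpow_eq_one]
  have heq : ∀ x y : ℤ, a ^ x = a ^ y ↔ (2 : ℤ) ^ (q + 2) ∣ x - y := fun x y => by
    rw [← haint, Cfsg.Lib.TwoGroup.zpow_eq_iff_dvd]
  obtain ⟨b, hb⟩ : ∃ b, b ∉ zpowers a := by
    by_contra h
    push Not at h
    rw [(eq_top_iff' _).2 h, index_top] at hCi
    omega
  haveI hCn : (zpowers a).Normal := normal_of_index_eq_two hCi
  obtain ⟨r, hr⟩ := mem_zpowers_iff.1 (hCn.conj_mem a (mem_zpowers a) b)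
  obtain ⟨s, hs⟩ := mem_zpowers_iff.1 (show b ^ 2 ∈ zpowers a from
    Subgroup.sq_mem_of_index_two hCi b)
  have hconj : ∀ x : ℤ, b * a ^ x * b⁻¹ = a ^ (r * x) := fun x => by
    rw [zpow_mul, hr, ← conj_zpow]
  have hsr : (2 : ℤ) ^ (q + 2) ∣ r * s - s := by
    rw [← heq, ← hconj, hs, sq]; group
  have hrr : (2 : ℤ) ^ (q + 2) ∣ r * r - 1 := by
    rw [← heq, zpow_one, ← hconj, hr]
    calc b * (b * a * b⁻¹) * b⁻¹ = b ^ 2 * a * (b ^ 2)⁻¹ := by rw [sq]; group
      _ = a := by
        rw [← hs]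
        rw [((Commute.refl a).zpow_left s).eq, mul_inv_cancel_right]
  have hr1 : ¬ (2 : ℤ) ^ (q + 2) ∣ r - 1 := by
    intro h
    apply hna
    have hba : b * a * b⁻¹ = a := by rw [← hr, (heq r 1).2 h, zpow_one]
    have hcomm : Commute b a := mul_inv_eq_iff_eq_mul.1 hba
    have htop := Cfsg.Lib.PGroup.sup_zpowers_eq_top_of_index (p := 2) hCi hb
    have hall : ∀ x : X, Commute x a ∧ Commute x b := by
      intro x
      have h1 : zpowers a ⊔ zpowers b ≤ centralizer ({a} : Set X) := sup_le
        (zpowers_le.2 (mem_centralizer_singleton_iff.2 rfl))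
        (zpowers_le.2 (mem_centralizer_singleton_iff.2 hcomm.eq))
      have h2 : zpowers a ⊔ zpowers b ≤ centralizer ({b} : Set X) := sup_le
        (zpowers_le.2 (mem_centralizer_singleton_iff.2 hcomm.symm.eq))
        (zpowers_le.2 (mem_centralizer_singleton_iff.2 rfl))
      rw [htop] at h1 h2
      exact ⟨mem_centralizer_singleton_iff.1 (h1 (mem_top x)), mem_centralizer_singleton_iff.1 (h2 (mem_top x))⟩
    refine ⟨⟨fun x y => ?_⟩⟩
    have h3 : zpowers a ⊔ zpowers b ≤ centralizer ({x} : Set X) := sup_le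
      (zpowers_le.2 (mem_centralizer_singleton_iff.2 (hall x).1.symm.eq))
      (zpowers_le.2 (mem_centralizer_singleton_iff.2 (hall x).2.symm.eq))
    rw [htop] at h3
    exact (mem_centralizer_singleton_iff.1 (h3 (mem_top y))).symm
  -- changing b within its coset
  have hnew : ∀ i : ℤ, (b * a ^ i) ∉ zpowers a ∧ (b * a ^ i) * a * (b * a ^ i)⁻¹ = a ^ r ∧
      (b * a ^ i) ^ 2 = a ^ (r * i + s + i) := fun i => by
    refine ⟨fun h => hb ?_, ?_, ?_⟩
    · simpa using mul_mem h (inv_mem (zpow_mem (mem_zpowers a) i))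
    · rw [hr, mul_inv_rev, mul_assoc b, ((Commute.refl a).zpow_left i).eq]; group
    · rw [zpow_add, zpow_add, ← hconj, hs, sq, sq]; group
  have hord : orderOf a = 2 ^ (q + 3 - 1) := ha
  have e2 : q + 3 - 2 = q + 1 := rfl
  rw [e2]
  set M : ℤ := 2 ^ (q + 1) with hM
  have hM2 : (2 : ℤ) ^ (q + 2) = 2 * M := by rw [hM, pow_succ']
  rw [hM2] at hsr hrr hr1 hone heq
  rcases em ((2 : ℤ) * M ∣ r + 1) with hneg | hneg
  · have hinv : b * a * b⁻¹ = a⁻¹ := by
      rw [← hr, ← zpow_neg_one]
      exact (heq _ _).2 (by simpa using hneg)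
    have h2s : 2 * M ∣ 2 * s := by
      have := dvd_sub (hneg.mul_right s) hsr
      rwa [show (r + 1) * s - (r * s - s) = 2 * s by ring] at this
    obtain ⟨c, hc⟩ := (mul_dvd_mul_iff_left (two_ne_zero' ℤ)).1 h2s
    rcases Int.even_or_odd c with ⟨d, rfl⟩ | ⟨d, rfl⟩
    · refine ⟨a, b, hord, hb, Or.inl ⟨?_, hinv⟩⟩
      rw [← hs, hone]
      exact ⟨d, by rw [hc]; ring⟩
    · refine ⟨a, b, hord, hb, Or.inr (Or.inl ⟨?_, hinv⟩)⟩
      rw [← hs, ← zpow_natCast, heq]
      exact ⟨d, by rw [hc, hM]; push_cast; ring⟩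
  · have hodd := dvd_sub_or_dvd_add (m := q + 1) (r := r) (by
      rw [hM2, show (r - 1) * (r + 1) = r * r - 1 by ring]; exact hrr)
    rw [← hM] at hodd
    -- here q ≠ 0
    obtain ⟨c, hq, hc⟩ : ∃ c : ℤ, q ≠ 0 ∧ (r = 1 + M + 2 * M * c ∨ r = -1 + M + 2 * M * c) := by
      rcases hodd with ⟨c, hc⟩ | ⟨c, hc⟩ <;> rcases Int.even_or_odd c with ⟨d, rfl⟩ | ⟨d, rfl⟩
      · exact absurd ⟨d, by rw [hc]; ring⟩ hr1
      · refine ⟨d, fun h => hneg ?_, Or.inl (by linarith [hc, (by ring : M * (2 * d + 1) = M + 2 * M * d)])⟩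
        subst h
        refine ⟨d + 1, ?_⟩
        have h2 : M = 2 := by rw [hM]; norm_num
        rw [h2] at hc ⊢
        linarith
      · exact absurd ⟨d, by rw [hc]; ring⟩ hneg
      · refine ⟨d, fun h => hr1 ?_, Or.inr (by linarith [hc, (by ring : M * (2 * d + 1) = M + 2 * M * d)])⟩
        subst h
        refine ⟨d, ?_⟩
        have h2 : M = 2 := by rw [hM]; norm_num
        rw [h2] at hc ⊢
        linarith
    obtain ⟨w, rfl⟩ : ∃ w, q = w + 1 := ⟨q - 1, by omega⟩
    set N : ℤ := 2 ^ (w + 1) with hN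
    have hMN : M = 2 * N := by rw [hM, hN, pow_succ']
    rcases hc with hc | hc
    · -- the modular group
      obtain ⟨t, ht⟩ : Even s := by
        rcases Int.even_or_odd s with h | ⟨j, hj⟩
        · exact h
        · exfalso
          obtain ⟨e, he⟩ := hsr
          rw [hc, hj] at he
          have h2 : M * (2 * j + 1) = 2 * M * (e - c * (2 * j + 1)) := by linarith [he, (by ring :
            (1 + M + 2 * M * c) * (2 * j + 1) - (2 * j + 1) = M * (2 * j + 1) + 2 * M * (c * (2 * j + 1))),
            (by ring : 2 * M * (e - c * (2 * j + 1)) = 2 * M * e - 2 * M * (c * (2 * j + 1)))]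
          have h3 : 2 * j + 1 = 2 * (e - c * (2 * j + 1)) :=
            mul_left_cancel₀ (by rw [hM]; positivity : M ≠ 0) (h2.trans (by ring))
          omega
      obtain ⟨x, y, hxy⟩ : IsCoprime (1 + N * (1 + 2 * c)) M := by
        rw [hM]
        refine IsCoprime.pow_right ?_
        refine ⟨1, -(2 ^ w * (1 + 2 * c)), ?_⟩
        rw [hN, pow_succ']; ring
      obtain ⟨h1, h2, h3⟩ := hnew (-x * t)
      refine ⟨a, b * a ^ (-x * t), hord, h1, Or.inr (Or.inr (Or.inl ⟨by omega, ?_, ?_⟩))⟩
      · rw [h3, hone]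
        refine ⟨t * y, ?_⟩
        rw [hc, ht, hMN]
        have : x * (1 + N * (1 + 2 * c)) + y * (2 * N) = 1 := by rw [← hMN]; exact hxy
        linear_combination (-2 * t) * this
      · rw [h2, ← zpow_natCast, heq]
        exact ⟨c, by rw [hc, hM]; push_cast; ring⟩
    · -- the semidihedral group
      obtain ⟨e, he⟩ := hsr
      have h2 : M ∣ s * (N - 1) := ⟨e - c * s, by
        have : 2 * (s * (N - 1)) = 2 * (M * (e - c * s)) := by
          rw [hc, hMN] at he; rw [hMN]; linarith [he, (by ring : (-1 + 2 * N + 2 * (2 * N) * c) * s - s = 2 * (s * (N - 1)) + 2 * (2 * N) * (c * s)), (by ring : 2 * (2 * N * (e - c * s)) = 2 * (2 * N) * e - 2 * (2 * N) * (c * s))]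
        exact mul_left_cancel₀ two_ne_zero this⟩
      have hco : IsCoprime M (N - 1) := by
        rw [hM]
        refine IsCoprime.pow_left ⟨2 ^ w, -1, ?_⟩
        rw [hN, pow_succ']; ring
      obtain ⟨d, hd⟩ := hco.dvd_of_dvd_mul_right h2
      have hrr' : a ^ r = a ^ (2 ^ (w + 1 + 1) - 1) := by
        rw [← zpow_natCast, heq]
        refine ⟨c, ?_⟩
        rw [Nat.cast_sub Nat.one_le_two_pow, hc, hM]
        push_cast
        ring
      rcases Int.even_or_odd d with ⟨f, rfl⟩ | ⟨f, rfl⟩
      · refine ⟨a, b, hord, hb, Or.inr (Or.inr (Or.inr ⟨by omega, ?_, by rw [← hr, hrr']⟩))⟩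
        rw [← hs, hone]
        exact ⟨f, by rw [hd]; ring⟩
      · obtain ⟨h1, h3, h4⟩ := hnew 1
        refine ⟨a, b * a ^ (1 : ℤ), hord, h1, Or.inr (Or.inr (Or.inr ⟨by omega, ?_, by rw [h3, hrr']⟩))⟩
        rw [h4, hone]
        exact ⟨1 + c + f, by rw [hc, hd]; ring⟩

theorem not_isMulCommutative_of_class {n : ℕ} (hn : 3 ≤ n) (hc : Group.nilpotencyClass X = n - 1) :
    ¬ IsMulCommutative X := by
  intro h
  have h2 : center X = ⊤ := by
    rw [eq_top_iff]
    exact fun x _ => mem_center_iff.2 fun g => h.is_comm.comm g x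
  by_cases hnil : Group.IsNilpotent X
  · rcases subsingleton_or_nontrivial X with hs | hs
    · rw [Group.nilpotencyClass_zero_iff_subsingleton.2 hs] at hc; omega
    · haveI : Subsingleton (X ⧸ center X) := QuotientGroup.subsingleton_iff.2 h2
      rw [Group.nilpotencyClass_eq_quotient_center_plus_one,
        Group.nilpotencyClass_zero_iff_subsingleton.2 this] at hc
      omega
  · rw [Group.nilpotencyClass_of_not_nilpotent hnil] at hc; omega

theorem card_center_eq_two {n : ℕ} (hn : 3 ≤ n) (hX : Nat.card X = 2 ^ n)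
    (hc : Group.nilpotencyClass X = n - 1) :
    Nat.card (center X) = 2 ∧ Nat.card (X ⧸ center X) = 2 ^ (n - 1) ∧
      Group.nilpotencyClass (X ⧸ center X) = n - 2 := by
  have hXp : IsPGroup 2 X := IsPGroup.of_card hX
  haveI := hXp.isNilpotent
  haveI : Fact (Nat.Prime 2) := ⟨Nat.prime_two⟩
  haveI : Nontrivial X := Finite.one_lt_card_iff_nontrivial.1 (hX ▸ Nat.one_lt_two_pow (by omega))
  have hq : Group.nilpotencyClass (X ⧸ center X) = n - 2 := by
    rw [Group.nilpotencyClass_quotient_center, hc]; omega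
  obtain ⟨i, hi, hic⟩ := (Nat.dvd_prime_pow Nat.prime_two).1 (hX ▸ (center X).card_subgroup_dvd_card)
  have hquot : Nat.card (X ⧸ center X) = 2 ^ (n - i) := by
    refine Nat.eq_of_mul_eq_mul_right (Nat.card_pos (α := center X)) ?_
    rw [← card_eq_card_quotient_mul_card_subgroup, hX, hic, ← pow_add]
    congr 1
    omega
  have hi1 : 1 ≤ i := by
    by_contra h
    rw [show i = 0 by omega, pow_zero] at hic
    exact (nontrivial_iff_ne_bot _).1 hXp.center_nontrivial (card_eq_one.1 hic)
  have hi2 : i ≤ 1 := by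
    by_contra h
    push Not at h
    rcases Nat.lt_or_ge 1 (n - i) with h2 | h2
    · have := Cfsg.Lib.Solv.nilpotencyClass_le_of_card_eq_pow (n - i) hquot h2
      omega
    · -- a quotient of order at most two
      apply not_isMulCommutative_of_class hn hc
      have hcyc : IsCyclic (X ⧸ center X) := by
        rcases Nat.eq_zero_or_pos (n - i) with h3 | h3
        · rw [h3, pow_zero] at hquot
          haveI : Subsingleton (X ⧸ center X) := (Nat.card_eq_one_iff_unique.1 hquot).1
          exact isCyclic_of_subsingleton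
        · rw [show n - i = 1 by omega, pow_one] at hquot
          exact isCyclic_of_prime_card hquot
      exact ⟨⟨commutative_of_cyclic_center_quotient (QuotientGroup.mk' (center X)) (by simp)⟩⟩
  rw [show i = 1 by omega] at hic hquot
  exact ⟨by simpa using hic, hquot, hq⟩

/-- An abelian subgroup of index two above a cyclic subgroup of the central quotient. -/
theorem exists_abelian_preimage (hna : ¬ IsMulCommutative X) (C : Subgroup (X ⧸ center X))
    (hC : IsCyclic C) (hCi : C.index = 2) :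
    ∃ A : Subgroup X, IsMulCommutative A ∧ A.index = 2 ∧ center X ≤ A ∧
      A.map (QuotientGroup.mk' (center X)) = C := by
  set π := QuotientGroup.mk' (center X)
  refine ⟨C.comap π, ?_, ?_, ?_, map_comap_eq_self_of_surjective (QuotientGroup.mk'_surjective _) C⟩
  · obtain ⟨c, rfl⟩ := (Subgroup.isCyclic_iff_exists_zpowers_eq_top C).1 hC
    obtain ⟨a, rfl⟩ := QuotientGroup.mk'_surjective (center X) c
    refine ⟨⟨fun x y => Subtype.ext ?_⟩⟩
    obtain ⟨i, hi⟩ := mem_zpowers_iff.1 (x.2 : π x ∈ zpowers (π a))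
    obtain ⟨j, hj⟩ := mem_zpowers_iff.1 (y.2 : π y ∈ zpowers (π a))
    rw [← map_zpow] at hi hj
    have hx : (a ^ i)⁻¹ * x ∈ center X := QuotientGroup.eq.1 hi
    have hy : (a ^ j)⁻¹ * y ∈ center X := QuotientGroup.eq.1 hj
    set z := (a ^ i)⁻¹ * (x : X)
    set w := (a ^ j)⁻¹ * (y : X)
    have ex : (x : X) = a ^ i * z := (mul_inv_cancel_left _ _).symm
    have ey : (y : X) = a ^ j * w := (mul_inv_cancel_left _ _).symm
    show (x : X) * y = y * x
    rw [ex, ey]
    have hzc : ∀ g, Commute g z := mem_center_iff.1 hx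
    have hwc : ∀ g, Commute g w := mem_center_iff.1 hy
    exact (((Commute.zpow_zpow (Commute.refl a) i j).mul_right (hwc _)).mul_left
      ((hzc _).symm.mul_right (hwc z))).eq
  · rw [index_comap_of_surjective _ (QuotientGroup.mk'_surjective _), hCi]
  · intro z hz
    rw [mem_comap, show π z = 1 from (QuotientGroup.eq_one_iff z).2 hz]
    exact one_mem C

/-- A 2-group of maximal class has a cyclic subgroup of index two. -/
theorem exists_cyclic_index_two : ∀ n : ℕ, 3 ≤ n → ∀ (X : Type u) [Group X] [Finite X],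
    Nat.card X = 2 ^ n → Group.nilpotencyClass X = n - 1 → ∃ C : Subgroup X, IsCyclic C ∧ C.index = 2 := by
  intro n
  induction n using Nat.strong_induction_on with
  | _ n ih =>
    intro hn X _ _ hX hc
    haveI : Fact (Nat.Prime 2) := ⟨Nat.prime_two⟩
    have hXp : IsPGroup 2 X := IsPGroup.of_card hX
    have hna := not_isMulCommutative_of_class hn hc
    rcases eq_or_lt_of_le hn with hn3 | hn4
    · obtain ⟨x, hx⟩ : ∃ x : X, x ^ 2 ≠ 1 := by
        by_contra h
        push Not at h
        have hinv : ∀ x : X, x⁻¹ = x := fun x => inv_eq_of_mul_eq_one_left (by rw [← sq]; exact h x)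
        exact hna ⟨⟨fun x y => by rw [← hinv (x * y), mul_inv_rev, hinv, hinv]⟩⟩
      obtain ⟨k, hk, hkx⟩ := (Nat.dvd_prime_pow Nat.prime_two).1 (hX ▸ orderOf_dvd_natCard x)
      refine ⟨zpowers x, inferInstance, ?_⟩
      have hk2 : k = 2 := by
        rcases Nat.lt_or_ge k 2 with h | h
        · exfalso
          apply hx
          rw [← orderOf_dvd_iff_pow_eq_one, hkx]
          interval_cases k <;> norm_num
        · by_contra hne
          apply hna
          have : zpowers x = ⊤ := card_eq_iff_eq_top _ |>.1 (by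
            rw [Nat.card_zpowers, hkx, hX]; congr 1; omega)
          haveI : IsCyclic X := (isCyclic_iff_exists_zpowers_eq_top).2 ⟨x, this⟩
          exact ⟨⟨fun a b => IsCyclic.commGroup.mul_comm a b⟩⟩
      have h := card_mul_index (zpowers x)
      rw [Nat.card_zpowers, hkx, hk2, hX, ← hn3] at h
      norm_num at h
      omega
    · obtain ⟨hZ, hQ, hQc⟩ := card_center_eq_two hn hX hc
      obtain ⟨C, hC, hCi⟩ := ih (n - 1) (by omega) (by omega) (X ⧸ center X) hQ (by rw [hQc]; omega)
      obtain ⟨A, hA, hAi, hZA, hAC⟩ := exists_abelian_preimage hna C hC hCi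
      refine ⟨A, ?_, hAi⟩
      haveI := hA
      obtain ⟨c, hc'⟩ := (Subgroup.isCyclic_iff_exists_zpowers_eq_top C).1 hC
      have hcC : c ∈ C := hc' ▸ mem_zpowers c
      rw [← hAC] at hcC
      obtain ⟨a, ha, rfl⟩ := hcC
      rw [Subgroup.isCyclic_iff_exists_zpowers_eq_top]
      refine ⟨a, le_antisymm (zpowers_le.2 ha) ?_⟩
      have hcov : A ≤ zpowers a ⊔ center X := by
        intro x hx
        have h1 : QuotientGroup.mk' (center X) x ∈ (zpowers a).map (QuotientGroup.mk' (center X)) := by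
          rw [MonoidHom.map_zpowers, hc', ← hAC]
          exact mem_map_of_mem _ hx
        have h2 : x ∈ ((zpowers a).map (QuotientGroup.mk' (center X))).comap (QuotientGroup.mk' (center X)) := h1
        rwa [comap_map_eq, QuotientGroup.ker_mk'] at h2
      refine hcov.trans (sup_le le_rfl ?_)
      by_contra hnot
      -- then a normal cyclic subgroup avoids the centre
      have hdis : zpowers a ⊓ center X = ⊥ := by
        rcases (Nat.dvd_prime Nat.prime_two).1 (hZ ▸ card_dvd_of_le (inf_le_right : zpowers a ⊓ center X ≤ _)) with h | h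
        · exact card_eq_one.1 h
        · exact absurd (inf_eq_right.1 (eq_of_le_of_card_ge inf_le_right (by rw [h, hZ]))) hnot
      set L := zpowers (a ^ 2) with hL
      have hLn : L.Normal := ⟨fun l hl g => by
        obtain ⟨i, rfl⟩ := mem_zpowers_iff.1 hl
        rw [← conj_zpow]
        refine zpow_mem ?_ _
        have hgA : g * a * g⁻¹ ∈ A := (normal_of_index_eq_two hAi).conj_mem a ha g
        obtain ⟨u, hu, z, hz, huz⟩ := Subgroup.mem_sup_of_normal_right.1 (hcov hgA)
        obtain ⟨j, rfl⟩ := mem_zpowers_iff.1 hu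
        rw [← conj_pow, ← huz]
        have hcz : Commute (a ^ j) z := mem_center_iff.1 hz _
        have hz2 : z ^ 2 = 1 := by
          rw [← orderOf_dvd_iff_pow_eq_one]
          exact hZ ▸ Subgroup.orderOf_dvd_natCard _ hz
        rw [hcz.mul_pow, hz2, mul_one, ← zpow_natCast, zpow_comm, zpow_natCast]
        exact zpow_mem (mem_zpowers _) _⟩
      haveI := hLn
      haveI := hXp.isNilpotent
      have hLne : L ≠ ⊥ := by
        intro h
        have ha2 : a ^ 2 = 1 := by
          have := mem_zpowers (a ^ 2)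
          rwa [← hL, h, mem_bot] at this
        have h1 : Nat.card A ≤ 4 := by
          have h2 := card_le_of_le hcov
          have h3 : Nat.card ↥(zpowers a ⊔ center X) ∣ Nat.card (zpowers a) * Nat.card (center X) :=
            Cfsg.Lib.Core.card_sup_dvd_mul _ _
          have h4 := Nat.le_of_dvd (Nat.mul_pos Nat.card_pos Nat.card_pos) h3
          rw [Nat.card_zpowers, hZ] at h4
          have h5 := orderOf_le_of_pow_eq_one two_pos ha2
          omega
        have h6 := card_mul_index A
        rw [hAi, hX] at h6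
        have : 2 ^ 4 ≤ 2 ^ n := Nat.pow_le_pow_right two_pos (by omega)
        omega
      obtain ⟨z, hz, hz1⟩ := (L ⊓ center X).bot_or_exists_ne_one.resolve_left
        (Cfsg.Lib.Solv.inf_center_ne_bot_of_isNilpotent hLne)
      have : z ∈ zpowers a ⊓ center X := ⟨zpowers_le.2 (pow_mem (mem_zpowers a) 2) hz.1, hz.2⟩
      rw [hdis, mem_bot] at this
      exact hz1 this

/-- The derived group of a 2-group of maximal class has index four with elementary quotient. -/
theorem index_commutator_of_class {n : ℕ} (hn : 3 ≤ n) (hX : Nat.card X = 2 ^ n)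
    (hc : Group.nilpotencyClass X = n - 1) :
    (commutator X).index = 4 ∧ ∀ x : X, x ^ 2 ∈ commutator X := by
  haveI : Fact (Nat.Prime 2) := ⟨Nat.prime_two⟩
  have hXp : IsPGroup 2 X := IsPGroup.of_card hX
  haveI := hXp.isNilpotent
  have hna := not_isMulCommutative_of_class hn hc
  have hgen : ∀ x : X, zpowers x ⊔ commutator X ≠ ⊤ := by
    intro x h
    apply hna
    have h2 : zpowers x ⊔ frattini X = ⊤ :=
      top_le_iff.1 (h.ge.trans (sup_le_sup_left (Cfsg.Lib.PGroup.commutator_le_frattini hXp) _))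
    haveI : IsCyclic X := (isCyclic_iff_exists_zpowers_eq_top).2 ⟨x, frattini_nongenerating h2⟩
    exact ⟨⟨fun a b => IsCyclic.commGroup.mul_comm a b⟩⟩
  -- the lower central series descends strictly
  have hbig : ∀ j, j ≤ n - 2 → 2 ^ (j + 1) ≤ Nat.card ((⊤ : Subgroup X).lowerCentralSeries (n - 2 - j)) := by
    intro j
    induction j with
    | zero =>
      intro _
      rw [Nat.sub_zero, zero_add, pow_one]
      by_contra h
      have h1 : Nat.card ((⊤ : Subgroup X).lowerCentralSeries (n - 2)) = 1 := by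
        have := Nat.card_pos (α := (⊤ : Subgroup X).lowerCentralSeries (n - 2))
        omega
      have := Subgroup.lowerCentralSeries_eq_bot_iff_nilpotencyClass_le.1 (card_eq_one.1 h1)
      omega
    | succ j ih =>
      intro hj
      have h1 := ih (by omega)
      set D := (⊤ : Subgroup X).lowerCentralSeries (n - 2 - (j + 1)) with hD
      have hnext : (⊤ : Subgroup X).lowerCentralSeries (n - 2 - j) = ⁅D, (⊤ : Subgroup X)⁆ := by
        rw [hD, ← Subgroup.lowerCentralSeries_succ]
        congr 1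
        omega
      have hDne : D ≠ ⊥ := by
        intro h
        rw [hnext, h, commutator_bot_left, card_bot] at h1
        have := Nat.one_lt_two_pow (n := j + 1) (by omega)
        omega
      haveI : D.Normal := by rw [hD]; infer_instance
      have hlt : ⁅D, (⊤ : Subgroup X)⁆ < D := Cfsg.Lib.PGroup.commutator_lt_of_isPGroup (hXp.to_subgroup D) (hXp.to_subgroup ⊤)
        (by rw [normalizer_eq_top_iff.2 inferInstance]) hDne
      rw [hnext] at h1
      obtain ⟨u, -, hu⟩ := (Nat.dvd_prime_pow Nat.prime_two).1 (hX ▸ D.card_subgroup_dvd_card)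
      have h2 := Cfsg.Lib.Fusion.card_lt_card_of_lt hlt
      rw [hu] at h2 ⊢
      have : j + 1 < u := (Nat.pow_lt_pow_iff_right Nat.one_lt_two).1 (lt_of_le_of_lt h1 h2)
      exact Nat.pow_le_pow_right two_pos (by omega)
  have hlow := hbig (n - 3) (by omega)
  rw [show n - 2 - (n - 3) = 1 by omega, Subgroup.top_lowerCentralSeries_one, show n - 3 + 1 = n - 2 by omega] at hlow
  obtain ⟨i, hi, hic⟩ := (Nat.dvd_prime_pow Nat.prime_two).1 (hX ▸ (commutator X).index_dvd_card)
  have hmul := card_mul_index (commutator X)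
  rw [hic, hX] at hmul
  have hi2 : i ≤ 2 := by
    by_contra h
    have h3 : 2 ^ (n - 2) * 2 ^ 3 ≤ Nat.card (commutator X) * 2 ^ i :=
      Nat.mul_le_mul hlow (Nat.pow_le_pow_right two_pos (by omega))
    rw [hmul, ← pow_add] at h3
    have := (Nat.pow_le_pow_iff_right Nat.one_lt_two).1 h3
    omega
  have hi' : i = 2 := by
    by_contra h
    by_cases htop : commutator X = ⊤
    · exact hgen 1 (by rw [htop, sup_top_eq])
    obtain ⟨x, hx⟩ := SetLike.exists_of_lt (lt_top_iff_ne_top.2 htop)
    refine hgen x ?_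
    have h1 : i = 1 := by
      rcases Nat.eq_zero_or_pos i with h0 | h0
      · rw [h0, pow_zero, index_eq_one] at hic
        exact absurd hic htop
      · omega
    rw [h1, pow_one] at hic
    rw [sup_comm]
    exact Cfsg.Lib.PGroup.sup_zpowers_eq_top_of_index (p := 2) hic hx.2
  rw [hi'] at hic
  refine ⟨hic, fun x => ?_⟩
  by_contra hx
  refine hgen x ?_
  set π := QuotientGroup.mk' (commutator X)
  have hq4 : Nat.card (X ⧸ commutator X) = 4 := by rw [← index_eq_card]; exact hic
  have hd : orderOf (π x) ∣ 4 := hq4 ▸ orderOf_dvd_natCard _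
  have hne : ¬ orderOf (π x) ∣ 2 := by
    rw [orderOf_dvd_iff_pow_eq_one, ← map_pow]
    exact fun h => hx ((QuotientGroup.eq_one_iff _).1 h)
  have h4 : orderOf (π x) = 4 := by
    have := Nat.le_of_dvd (by norm_num) hd
    interval_cases h : orderOf (π x) <;> simp_all (config := { decide := true })
  have htop : zpowers (π x) = ⊤ := card_eq_iff_eq_top _ |>.1 (by rw [Nat.card_zpowers, h4, hq4])
  rw [eq_top_iff]
  intro y _
  have h2 : y ∈ ((zpowers x).map π).comap π := by
    rw [mem_comap, MonoidHom.map_zpowers, htop]; trivial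
  rwa [comap_map_eq, QuotientGroup.ker_mk'] at h2

/-- Taussky: derived index four forces maximal class. -/
theorem class_of_index_four : ∀ n : ℕ, 3 ≤ n → ∀ (X : Type u) [Group X] [Finite X],
    Nat.card X = 2 ^ n → (commutator X).index = 4 → Group.nilpotencyClass X = n - 1 := by
  intro n
  induction n using Nat.strong_induction_on with
  | _ n ih =>
    intro hn X _ _ hX hidx
    haveI : Fact (Nat.Prime 2) := ⟨Nat.prime_two⟩
    have hXp : IsPGroup 2 X := IsPGroup.of_card hX
    haveI := hXp.isNilpotent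
    haveI : Nontrivial X := Finite.one_lt_card_iff_nontrivial.1 (hX ▸ Nat.one_lt_two_pow (by omega))
    have hna : ¬ IsMulCommutative X := by
      intro h
      have : commutator X = ⊥ := by
        rw [_root_.commutator_def, Subgroup.commutator_eq_bot_iff_le_centralizer]
        exact fun x _ => mem_centralizer_iff.2 fun y _ => h.is_comm.comm y x
      rw [this, index_bot, hX] at hidx
      have : 2 ^ 3 ≤ 2 ^ n := Nat.pow_le_pow_right two_pos hn
      omega
    have hup := Cfsg.Lib.Solv.nilpotencyClass_le_of_card_eq_pow n hX (by omega)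
    rcases eq_or_lt_of_le hn with hn3 | hn4
    · refine le_antisymm hup ?_
      by_contra h
      have h1 : Group.nilpotencyClass X ≤ 1 := by omega
      have h2 := Subgroup.lowerCentralSeries_eq_bot_iff_nilpotencyClass_le.2 h1
      rw [Subgroup.top_lowerCentralSeries_one] at h2
      rw [h2, index_bot, hX, ← hn3] at hidx
      omega
    -- factor out a central involution in the derived group
    have hD : commutator X ≠ ⊥ := by
      intro h
      rw [h, index_bot, hX] at hidx
      have : 2 ^ 3 ≤ 2 ^ n := Nat.pow_le_pow_right two_pos hn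
      omega
    obtain ⟨z, hz, hzo⟩ : ∃ z ∈ commutator X ⊓ center X, orderOf z = 2 := by
      have hne := Cfsg.Lib.Solv.inf_center_ne_bot_of_isNilpotent (N := commutator X) hD
      obtain ⟨k, hk⟩ := IsPGroup.iff_card.1 (hXp.to_subgroup (commutator X ⊓ center X))
      have hd : 2 ∣ Nat.card ↥(commutator X ⊓ center X) := by
        rw [hk]
        refine dvd_pow_self 2 ?_
        rintro rfl
        rw [pow_zero] at hk
        exact hne (card_eq_one.1 hk)
      obtain ⟨z, hz⟩ := exists_prime_orderOf_dvd_card' 2 hd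
      exact ⟨z, z.2, by rw [orderOf_coe, hz]⟩
    set Z := zpowers z with hZ
    have hZle : Z ≤ center X := zpowers_le.2 hz.2
    haveI : Z.Normal := ⟨fun x hx g => by rwa [mem_center_iff.1 (hZle hx) g, mul_inv_cancel_right]⟩
    set π := QuotientGroup.mk' Z with hπ
    have hQ : Nat.card (X ⧸ Z) = 2 ^ (n - 1) := by
      refine Nat.eq_of_mul_eq_mul_right (Nat.card_pos (α := Z)) ?_
      rw [← card_eq_card_quotient_mul_card_subgroup, hX, hZ, Nat.card_zpowers, hzo, ← pow_succ]
      congr 1
      omega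
    have hQi : (commutator (X ⧸ Z)).index = 4 := by
      have hmap : (commutator X).map π = commutator (X ⧸ Z) := by
        rw [_root_.commutator_def, _root_.commutator_def, map_commutator,
          map_top_of_surjective π (QuotientGroup.mk'_surjective Z)]
      rw [← hmap, index_map_eq (commutator X) (QuotientGroup.mk'_surjective Z) ?_, hidx]
      rw [QuotientGroup.ker_mk']
      exact zpowers_le.2 hz.1
    have hcls := ih (n - 1) (by omega) (by omega) (X ⧸ Z) hQ hQi
    obtain ⟨C, hC, hCi⟩ := exists_cyclic_index_two (n - 1) (by omega) (X ⧸ Z) hQ hcls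
    -- the preimage is abelian of index two
    set A := C.comap π
    haveI hA : IsMulCommutative A := by
      haveI := hC
      have hker : ((π.comp A.subtype).codRestrict C fun x => x.2).ker ≤ center A := by
        intro x hx
        have h1 : π (x : X) = 1 := congrArg Subtype.val (MonoidHom.mem_ker.1 hx)
        rw [mem_center_iff]
        intro g
        exact Subtype.ext (mem_center_iff.1 (hZle ((QuotientGroup.eq_one_iff _).1 h1)) g)
      exact ⟨⟨commutative_of_cyclic_center_quotient _ hker⟩⟩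
    have hAi : A.index = 2 := by
      rw [index_comap_of_surjective _ (QuotientGroup.mk'_surjective _), hCi]
    have hform := Cfsg.Lib.PGroup.index_center_of_abelian_index hXp hna hAi
    have hDc : Nat.card (commutator X) = 2 ^ (n - 2) := by
      refine Nat.eq_of_mul_eq_mul_right (show 0 < 4 by norm_num) ?_
      rw [← hidx, card_mul_index, hX, hidx, show (4 : ℕ) = 2 ^ 2 by norm_num, ← pow_add]
      congr 1
      omega
    have hZc : Nat.card (center X) = 2 := by
      refine Nat.eq_of_mul_eq_mul_right (show 0 < 2 ^ (n - 1) from Nat.two_pow_pos _) ?_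
      have h := card_mul_index (center X)
      rw [hform, hDc, hX, show 2 * 2 ^ (n - 2) = 2 ^ (n - 1) by rw [← pow_succ']; congr 1; omega] at h
      rw [h, ← pow_succ']
      congr 1
      omega
    have hZeq : Z = center X := eq_of_le_of_card_ge hZle (by rw [hZc, hZ, Nat.card_zpowers, hzo])
    have hcong : Group.nilpotencyClass (X ⧸ center X) = n - 2 := by
      have e := QuotientGroup.quotientMulEquivOfEq hZeq.symm
      refine le_antisymm ?_ ?_
      · have := Group.nilpotencyClass_le_of_surjective e.symm.toMonoidHom e.symm.surjective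
        omega
      · have := Group.nilpotencyClass_le_of_surjective e.toMonoidHom e.surjective
        omega
    rw [Group.nilpotencyClass_eq_quotient_center_plus_one, hcong]
    omega

/-- The generators of a 2-group of maximal class. -/
theorem exists_generators_of_class {n : ℕ} (hn : 3 ≤ n) (hX : Nat.card X = 2 ^ n)
    (hc : Group.nilpotencyClass X = n - 1) :
    ∃ a b : X, orderOf a = 2 ^ (n - 1) ∧ b ∉ zpowers a ∧ closure ({a, b} : Set X) = ⊤ ∧
      ((b ^ 2 = 1 ∧ b * a * b⁻¹ = a⁻¹) ∨ (b ^ 2 = a ^ (2 ^ (n - 2)) ∧ b * a * b⁻¹ = a⁻¹) ∨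
        (4 ≤ n ∧ b ^ 2 = 1 ∧ b * a * b⁻¹ = a ^ (2 ^ (n - 2) - 1))) := by
  haveI : Fact (Nat.Prime 2) := ⟨Nat.prime_two⟩
  obtain ⟨C, hC, hCi⟩ := exists_cyclic_index_two n hn X hX hc
  obtain ⟨a, b, ha, hb, hrel⟩ := exists_generators hn hX C hC hCi (not_isMulCommutative_of_class hn hc)
  have hai : (zpowers a).index = 2 := by
    refine Nat.eq_of_mul_eq_mul_left (Nat.card_pos (α := zpowers a)) ?_
    rw [card_mul_index, hX, Nat.card_zpowers, ha, ← pow_succ]
    congr 1
    omega
  have htop : closure ({a, b} : Set X) = ⊤ := by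
    rw [eq_top_iff, ← Cfsg.Lib.PGroup.sup_zpowers_eq_top_of_index (p := 2) hai hb]
    exact sup_le (zpowers_le.2 (subset_closure (by simp))) (zpowers_le.2 (subset_closure (by simp)))
  refine ⟨a, b, ha, hb, htop, ?_⟩
  rcases hrel with h | h | ⟨hn4, hb2, hconj⟩ | h
  · exact Or.inl h
  · exact Or.inr (Or.inl h)
  · -- the modular group has a large centre
    exfalso
    obtain ⟨w, rfl⟩ : ∃ w, n = w + 4 := ⟨n - 4, by omega⟩
    obtain ⟨hZ, -, -⟩ := card_center_eq_two hn hX hc
    have hcen : a ^ 2 ∈ center X := by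
      rw [mem_center_iff]
      intro g
      have hle : closure ({a, b} : Set X) ≤ centralizer ({a ^ 2} : Set X) := by
        refine (closure_le _).2 ?_
        rintro x (rfl | rfl)
        · exact mem_centralizer_singleton_iff.2 ((Commute.refl _).pow_right 2).eq
        · refine mem_centralizer_singleton_iff.2 (mul_inv_eq_iff_eq_mul.1 ?_)
          rw [← conj_pow, hconj, ← pow_mul, show w + 4 - 2 = w + 2 from rfl, add_mul, one_mul, pow_add,
            ← pow_succ, show (w + 2 + 1) = w + 4 - 1 from rfl, ← ha, pow_orderOf_eq_one, mul_one]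
      rw [htop] at hle
      exact mem_centralizer_singleton_iff.1 (hle (mem_top g))
    have h1 := Subgroup.orderOf_dvd_natCard _ hcen
    rw [hZ] at h1
    rw [orderOf_pow, ha, show w + 4 - 1 = (w + 2) + 1 from rfl] at h1
    rw [show Nat.gcd (2 ^ (w + 2 + 1)) 2 = 2 from Nat.gcd_eq_right (dvd_pow_self 2 (by omega)),
      pow_succ, Nat.mul_div_cancel _ two_pos] at h1
    have := Nat.le_of_dvd two_pos h1
    have : 2 ^ 2 ≤ 2 ^ (w + 2) := Nat.pow_le_pow_right two_pos (by omega)
    omega
  · exact Or.inr (Or.inr h)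

/-- The central quotient of a 2-group of maximal class is dihedral. -/
theorem quotient_center_dihedral {n : ℕ} (hn : 3 ≤ n) (hX : Nat.card X = 2 ^ n)
    (hc : Group.nilpotencyClass X = n - 1) :
    Nonempty (X ⧸ center X ≃* DihedralGroup (2 ^ (n - 2))) := by
  haveI : Fact (Nat.Prime 2) := ⟨Nat.prime_two⟩
  obtain ⟨hZ, hQ, hQc⟩ := card_center_eq_two hn hX hc
  obtain ⟨a, b, ha, hb, htop, hrel⟩ := exists_generators_of_class hn hX hc
  obtain ⟨w, rfl⟩ : ∃ w, n = w + 3 := ⟨n - 3, by omega⟩
  rw [show w + 3 - 2 = w + 1 from rfl] at hrel ⊢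
  rw [show w + 3 - 1 = w + 2 from rfl] at ha
  set π := QuotientGroup.mk' (center X)
  set z := a ^ 2 ^ (w + 1) with hzdef
  have hz2 : z * z = 1 := by rw [hzdef, ← pow_add, ← two_mul, ← pow_succ', ← ha, pow_orderOf_eq_one]
  -- z is central
  have hzc : z ∈ center X := by
    rw [mem_center_iff]
    intro g
    have hle : closure ({a, b} : Set X) ≤ centralizer ({z} : Set X) := by
      refine (closure_le _).2 ?_
      rintro x (rfl | rfl)
      · exact mem_centralizer_singleton_iff.2 ((Commute.refl _).pow_right _).eq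
      · refine mem_centralizer_singleton_iff.2 (mul_inv_eq_iff_eq_mul.1 ?_)
        rw [hzdef, ← conj_pow]
        rcases hrel with ⟨-, h⟩ | ⟨-, h⟩ | ⟨-, -, h⟩
        · rw [h, inv_pow]; exact inv_eq_of_mul_eq_one_left hz2
        · rw [h, inv_pow]; exact inv_eq_of_mul_eq_one_left hz2
        · rw [h, ← pow_mul, mul_comm, pow_mul]
          show z ^ (2 ^ (w + 1) - 1) = z
          obtain ⟨m, hm⟩ : ∃ m, 2 ^ (w + 1) - 1 = 2 * m + 1 := ⟨2 ^ w - 1, by
            have := Nat.two_pow_pos w
            rw [pow_succ]; omega⟩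
          rw [hm, pow_succ, pow_mul, sq, hz2, one_pow, one_mul]
    rw [htop] at hle
    exact mem_centralizer_singleton_iff.1 (hle (mem_top g))
  have hbi : π b ∉ zpowers (π a) := by
    intro h
    obtain ⟨i, hi⟩ := mem_zpowers_iff.1 h
    rw [← map_zpow] at hi
    have hmem : (a ^ i)⁻¹ * b ∈ center X := QuotientGroup.eq.1 hi
    have hab : Commute a b := by
      have h1 : Commute a ((a ^ i)⁻¹ * b) := mem_center_iff.1 hmem a
      have h2 : Commute a (a ^ i) := (Commute.refl a).zpow_right i
      have h3 := h2.mul_right h1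
      rwa [mul_inv_cancel_left] at h3
    refine not_isMulCommutative_of_class hn hc ⟨⟨fun x y => ?_⟩⟩
    have hle : closure ({a, b} : Set X) ≤ centralizer (closure ({a, b} : Set X) : Set X) := by
      rw [closure_le, centralizer_closure]
      rintro x (rfl | rfl) <;> simp only [SetLike.mem_coe, mem_centralizer_iff] <;> rintro y (rfl | rfl)
      exacts [rfl, hab.symm.eq, hab.eq, rfl]
    rw [htop] at hle
    exact mem_centralizer_iff.1 (hle (mem_top y)) x (mem_top x)
  have hord : orderOf (π a) = 2 ^ (w + 1) := by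
    refine Nat.dvd_antisymm (orderOf_dvd_of_pow_eq_one (by rw [← map_pow]; exact (QuotientGroup.eq_one_iff _).2 hzc)) ?_
    have h1 : (a ^ orderOf (π a)) ^ 2 = 1 := by
      rw [← orderOf_dvd_iff_pow_eq_one]
      refine hZ ▸ Subgroup.orderOf_dvd_natCard _ ((QuotientGroup.eq_one_iff _).1 ?_)
      show π (a ^ orderOf (π a)) = 1
      rw [map_pow, pow_orderOf_eq_one]
    rw [← pow_mul] at h1
    have h2 := orderOf_dvd_of_pow_eq_one h1
    rw [ha, pow_succ] at h2
    exact Nat.dvd_of_mul_dvd_mul_right two_pos h2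
  have hπz : π z = 1 := (QuotientGroup.eq_one_iff _).2 hzc
  have hb2 : π b * π b = 1 := by
    rw [← map_mul, ← sq]
    rcases hrel with ⟨h, -⟩ | ⟨h, -⟩ | ⟨-, h, -⟩ <;> rw [h]
    · exact map_one π
    · exact hπz
    · exact map_one π
  have hinv : π b * π a * (π b)⁻¹ = (π a)⁻¹ := by
    rw [← map_mul, ← map_inv, ← map_mul]
    rcases hrel with ⟨-, h⟩ | ⟨-, h⟩ | ⟨-, -, h⟩ <;> rw [h]
    · exact map_inv π a
    · exact map_inv π a
    · refine eq_inv_of_mul_eq_one_left ?_
      rw [← map_mul, ← pow_succ, Nat.sub_add_cancel Nat.one_le_two_pow]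
      exact hπz
  obtain ⟨e⟩ := Cfsg.Lib.TwoGroup.equiv_dihedral hb2 hinv hbi
  have htop' : closure ({π a, π b} : Set (X ⧸ center X)) = ⊤ := by
    rw [show ({π a, π b} : Set (X ⧸ center X)) = π '' {a, b} by rw [Set.image_pair],
      ← MonoidHom.map_closure, htop, map_top_of_surjective π (QuotientGroup.mk'_surjective _)]
  rw [hord] at e
  exact ⟨(Subgroup.topEquiv.symm.trans (MulEquiv.subgroupCongr htop'.symm)).trans e⟩

end Cfsg.Lib.TwoGroup.MaximalClass
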