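import Mathlib
import Cfsg.Agent.Lib.Invol.Basic

/-!
Recognition of dihedral and quaternion groups from generators.
-/

set_option autoImplicit false

namespace Cfsg.Lib.TwoGroup

open Subgroup

variable {G : Type*} [Group G]

theorem zpow_eq_iff_dvd {r : G} {a b : ℤ} : r ^ a = r ^ b ↔ (orderOf r : ℤ) ∣ a - b := by
  rw [orderOf_dvd_iff_zpow_eq_one, zpow_sub, mul_inv_eq_one]

theorem mem_closure_left (r t : G) : r ∈ closure ({r, t} : Set G) :=
  Subgroup.subset_closure (Set.mem_insert r _)

theorem mem_closure_right (r t : G) : t ∈ closure ({r, t} : Set G) :=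
  Subgroup.subset_closure (Set.mem_insert_of_mem r (Set.mem_singleton t))

/-- A dihedral subgroup from generators. -/
theorem equiv_dihedral {r t : G} (ht : t * t = 1) (hinv : t * r * t⁻¹ = r⁻¹) (hm : t ∉ zpowers r) :
    Nonempty (↥(closure ({r, t} : Set G)) ≃* DihedralGroup (orderOf r)) := by
  set f := Cfsg.Lib.Invol.dihedralHom (orderOf r) (pow_orderOf_eq_one r) ht hinv
  have hr : f.range = closure ({r, t} : Set G) := by
    refine le_antisymm ?_ ((closure_le _).mpr ?_)
    · rintro d ⟨(i | i), rfl⟩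
      · exact zpow_mem (mem_closure_left _ _) _
      · exact mul_mem (mem_closure_right _ _) (zpow_mem (mem_closure_left _ _) _)
    · rintro d (rfl | hd)
      · refine ⟨DihedralGroup.r ((1 : ℤ) : ZMod _), ?_⟩
        rw [Cfsg.Lib.Invol.dihedralHom_r]
        conv_rhs => rw [← zpow_one d]
        rw [zpow_eq_zpow_iff_modEq, ← ZMod.intCast_eq_intCast_iff, ZMod.intCast_zmod_cast]
      · rw [Set.mem_singleton_iff] at hd
        subst hd
        refine ⟨DihedralGroup.sr 0, ?_⟩
        rw [Cfsg.Lib.Invol.dihedralHom_sr, ZMod.cast_zero, zpow_zero, mul_one]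
  exact ⟨((MonoidHom.ofInjective (Cfsg.Lib.Invol.dihedralHom_injective ht hinv hm)).trans
    (MulEquiv.subgroupCongr hr)).symm⟩

/-- The homomorphism out of a generalized quaternion group. -/
noncomputable def quaternionHom {a b : G} (m : ℕ) (ha : a ^ (2 * m) = 1) (hb : b * b = a ^ m)
    (hinv : b * a * b⁻¹ = a⁻¹) : QuaternionGroup m →* G where
  toFun
    | QuaternionGroup.a i => a ^ (i.cast : ℤ)
    | QuaternionGroup.xa i => b * a ^ (i.cast : ℤ)
  map_one' := by
    change a ^ (((0 : ZMod (2 * m))).cast : ℤ) = 1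
    rw [ZMod.cast_zero, zpow_zero]
  map_mul' := by
    have key : ∀ i j : ℤ, (i : ZMod (2 * m)) = (j : ZMod (2 * m)) → a ^ i = a ^ j := by
      intro i j hij
      rw [zpow_eq_zpow_iff_modEq]
      exact Int.ModEq.of_dvd (Int.natCast_dvd_natCast.mpr (orderOf_dvd_of_pow_eq_one ha))
        ((ZMod.intCast_eq_intCast_iff i j (2 * m)).mp hij)
    have hcomm : ∀ k : ℤ, a ^ k * b = b * a ^ (-k) := by
      intro k
      have h := conj_zpow (i := -k) (a := b) (b := a)
      rw [hinv, inv_zpow, zpow_neg, inv_inv] at h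
      rw [h, inv_mul_cancel_right, zpow_neg]
    rintro (i | i) (j | j)
    · change a ^ (((i + j : ZMod (2 * m))).cast : ℤ) = a ^ (i.cast : ℤ) * a ^ (j.cast : ℤ)
      rw [← zpow_add]; apply key; simp
    · change b * a ^ (((j - i : ZMod (2 * m))).cast : ℤ) = a ^ (i.cast : ℤ) * (b * a ^ (j.cast : ℤ))
      rw [← mul_assoc, hcomm, mul_assoc, ← zpow_add]
      congr 1
      apply key; simp; ring
    · change b * a ^ (((i + j : ZMod (2 * m))).cast : ℤ) = b * a ^ (i.cast : ℤ) * a ^ (j.cast : ℤ)
      rw [mul_assoc, ← zpow_add]; congr 1; apply key; simp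
    · change a ^ ((((m : ZMod (2 * m)) + j - i)).cast : ℤ) = b * a ^ (i.cast : ℤ) * (b * a ^ (j.cast : ℤ))
      rw [show b * a ^ (i.cast : ℤ) * (b * a ^ (j.cast : ℤ)) = b * (a ^ (i.cast : ℤ) * b) * a ^ (j.cast : ℤ) by
        group, hcomm, ← mul_assoc b b, hb, ← zpow_natCast, ← zpow_add, ← zpow_add]
      apply key; simp; ring

/-- A generalized quaternion subgroup from generators. -/
theorem equiv_quaternion {a b : G} {m : ℕ} (ha : orderOf a = 2 * m) (hb : b * b = a ^ m)
    (hinv : b * a * b⁻¹ = a⁻¹) (hm : b ∉ zpowers a) :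
    Nonempty (↥(closure ({a, b} : Set G)) ≃* QuaternionGroup m) := by
  have ha' : a ^ (2 * m) = 1 := by rw [← ha, pow_orderOf_eq_one]
  set f := quaternionHom m ha' hb hinv with hf
  have hinj : Function.Injective f := by
    rw [injective_iff_map_eq_one]
    rintro (i | i) hi
    · replace hi : a ^ (i.cast : ℤ) = 1 := hi
      rw [← zpow_zero a, zpow_eq_zpow_iff_modEq, ha, ← ZMod.intCast_eq_intCast_iff,
        ZMod.intCast_zmod_cast, Int.cast_zero] at hi
      rw [hi]; rfl
    · replace hi : b * a ^ (i.cast : ℤ) = 1 := hi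
      exact absurd (eq_inv_of_mul_eq_one_left hi ▸
        inv_mem (zpow_mem (mem_zpowers a) _)) hm
  have hr : f.range = closure ({a, b} : Set G) := by
    refine le_antisymm ?_ ((closure_le _).mpr ?_)
    · rintro d ⟨(i | i), rfl⟩
      · exact zpow_mem (mem_closure_left _ _) _
      · exact mul_mem (mem_closure_right _ _) (zpow_mem (mem_closure_left _ _) _)
    · rintro d (rfl | hd)
      · refine ⟨QuaternionGroup.a ((1 : ℤ) : ZMod _), ?_⟩
        show d ^ ((((1 : ℤ) : ZMod (2 * m))).cast : ℤ) = d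
        conv_rhs => rw [← zpow_one d]
        rw [zpow_eq_zpow_iff_modEq, ha, ← ZMod.intCast_eq_intCast_iff, ZMod.intCast_zmod_cast]
      · rw [Set.mem_singleton_iff] at hd
        subst hd
        refine ⟨QuaternionGroup.xa 0, ?_⟩
        show d * a ^ (((0 : ZMod (2 * m))).cast : ℤ) = d
        rw [ZMod.cast_zero, zpow_zero, mul_one]
  exact ⟨((MonoidHom.ofInjective hinj).trans (MulEquiv.subgroupCongr hr)).symm⟩

/-- The orders of these groups. -/
theorem card_quaternion {m : ℕ} (hm : m ≠ 0) : Nat.card (QuaternionGroup m) = 4 * m := by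
  haveI : NeZero m := ⟨hm⟩
  rw [Nat.card_eq_fintype_card, QuaternionGroup.card]

end Cfsg.Lib.TwoGroup
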