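import Mathlib
import Cfsg.Prelude.Def_CaseTheorems
import Cfsg.Agent.Lib.TwoGroup.Models
import Cfsg.Agent.Lib.PGroup.Basic

/-!
Quasi-dihedral groups.
-/

set_option autoImplicit false
set_option linter.unusedSectionVars false

namespace Cfsg.Lib.TwoGroup

open Subgroup
open scoped commutatorElement

/-- `2^j` dividing an odd multiple. -/
theorem dvd_of_odd_mul {j : ℕ} {u k : ℤ} (hu : Odd u) (h : (2 : ℤ) ^ j ∣ u * k) :
    (2 : ℤ) ^ j ∣ k := by
  obtain ⟨t, rfl⟩ := hu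
  exact (IsCoprime.pow_left (m := j) ⟨-t, 1, by ring⟩).dvd_of_dvd_mul_left h

/-- Generators of a quasi-dihedral group of order `2^(n+1)`. -/
structure SD (S : Type*) [Group S] (n : ℕ) where
  x : S
  y : S
  three_le : 3 ≤ n
  card : Nat.card S = 2 ^ (n + 1)
  hx : orderOf x = 2 ^ n
  hy : orderOf y = 2
  conj : y * x * y⁻¹ = x ^ (2 ^ (n - 1) - 1)

variable {S : Type*} [Group S] [Finite S]

theorem exists_sd (h : Cfsg.IsQuasiDihedral S) : ∃ n, Nonempty (SD S n) := by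
  obtain ⟨n, h3, hc, x, y, hx, hy, hconj⟩ := h
  exact ⟨n, ⟨⟨x, y, h3, hc, hx, hy, hconj⟩⟩⟩

theorem sd_of_card {n : ℕ} (h : Cfsg.IsQuasiDihedral S) (hn : Nat.card S = 2 ^ (n + 1)) :
    Nonempty (SD S n) := by
  obtain ⟨m, ⟨d⟩⟩ := exists_sd h
  have : m = n := by
    have := Nat.pow_right_injective le_rfl (d.card.symm.trans hn)
    omega
  exact this ▸ ⟨d⟩

namespace SD

variable {n : ℕ} (d : SD S n)

/-- A quarter of the order of `x`. -/
def P (n : ℕ) : ℤ := 2 ^ (n - 2)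

theorem two_pow (d : SD S n) : (2 : ℤ) ^ n = 4 * P n ∧ (2 : ℤ) ^ (n - 1) = 2 * P n ∧
    P n = 2 * 2 ^ (n - 3) := by
  obtain ⟨m, rfl⟩ : ∃ m, n = m + 3 := ⟨n - 3, (Nat.sub_add_cancel d.three_le).symm⟩
  simp only [P, show m + 3 - 1 = m + 2 by omega, show m + 3 - 2 = m + 1 by omega, Nat.add_sub_cancel,
    pow_succ]
  exact ⟨by ring, by ring, by ring⟩

include d in
theorem P_even : Even (P n) := ⟨2 ^ (n - 3), by rw [d.two_pow.2.2]; ring⟩

include d in
theorem P_pos : 0 < P n := by unfold P; positivity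

include d in
theorem one_sub_P_odd : Odd (1 - P n) := (odd_one).sub_even d.P_even

theorem zx {a b : ℤ} : d.x ^ a = d.x ^ b ↔ 4 * P n ∣ a - b := by
  rw [zpow_eq_iff_dvd, d.hx, ← d.two_pow.1]
  push_cast
  rfl

theorem zx_one {a : ℤ} : d.x ^ a = 1 ↔ 4 * P n ∣ a := by
  rw [← zpow_zero d.x, d.zx, sub_zero]

theorem conj_zpow (k : ℤ) : d.y * d.x ^ k * d.y⁻¹ = d.x ^ ((2 * P n - 1) * k) := by
  have h : ((2 ^ (n - 1) - 1 : ℕ) : ℤ) = 2 * P n - 1 := by
    rw [← d.two_pow.2.1, Nat.cast_sub Nat.one_le_two_pow]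
    push_cast
    rfl
  rw [← _root_.conj_zpow, d.conj, ← zpow_natCast, ← zpow_mul, h]

theorem y_mul (k : ℤ) : d.y * d.x ^ k = d.x ^ ((2 * P n - 1) * k) * d.y := by
  rw [← d.conj_zpow, inv_mul_cancel_right]

theorem yy : d.y * d.y = 1 := Cfsg.Lib.Invol.inv_mul_self d.hy

theorem mul_rule (k l : ℤ) :
    d.x ^ k * d.y * (d.x ^ l * d.y) = d.x ^ (k + (2 * P n - 1) * l) := by
  rw [show d.x ^ k * d.y * (d.x ^ l * d.y) = d.x ^ k * (d.y * d.x ^ l) * d.y by group, d.y_mul,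
    zpow_add, mul_assoc, mul_assoc, d.yy, mul_one]

theorem sq (k : ℤ) : d.x ^ k * d.y * (d.x ^ k * d.y) = d.x ^ (2 * P n * k) := by
  rw [d.mul_rule]; congr 1; ring

theorem conj_x (l k : ℤ) : d.x ^ l * (d.x ^ k * d.y) * (d.x ^ l)⁻¹ =
    d.x ^ (k + 2 * (1 - P n) * l) * d.y := by
  rw [show d.x ^ l * (d.x ^ k * d.y) * (d.x ^ l)⁻¹ = d.x ^ (l + k) * (d.y * d.x ^ (-l)) by group,
    d.y_mul, ← mul_assoc, ← zpow_add]
  congr 2
  ring

theorem y_notMem : d.y ∉ zpowers d.x := by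
  intro h
  obtain ⟨k, hk⟩ := mem_zpowers_iff.mp h
  have h1 : d.x ^ ((2 * P n - 1) * 1) = d.x ^ (1 : ℤ) := by
    rw [← d.conj_zpow, ← hk]; group
  rw [d.zx] at h1
  obtain ⟨t, ht⟩ := h1
  obtain ⟨r, hr⟩ := d.P_even
  rw [hr] at ht
  exact absurd ⟨r - 2 * r * (t : ℤ), by linarith⟩ (show ¬ (2 : ℤ) ∣ 1 by norm_num)

theorem mul_y_notMem (k : ℤ) : d.x ^ k * d.y ∉ zpowers d.x := fun h =>
  d.y_notMem (((zpowers d.x).mul_mem_cancel_left (zpow_mem (mem_zpowers _) k)).mp h)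

theorem ne_mul_y (a b : ℤ) : d.x ^ a ≠ d.x ^ b * d.y := fun e =>
  d.mul_y_notMem b (e ▸ zpow_mem (mem_zpowers _) a)

theorem index_x : (zpowers d.x).index = 2 := by
  have h := card_mul_index (zpowers d.x)
  rw [Nat.card_zpowers, d.hx, d.card, pow_succ] at h
  exact Nat.eq_of_mul_eq_mul_left (by positivity) h

theorem normal_form (s : S) : ∃ k : ℤ, s = d.x ^ k ∨ s = d.x ^ k * d.y := by
  by_cases h : s ∈ zpowers d.x
  · obtain ⟨k, rfl⟩ := mem_zpowers_iff.mp h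
    exact ⟨k, Or.inl rfl⟩
  · have h2 : s * d.y ∈ zpowers d.x :=
      (mul_mem_iff_of_index_two d.index_x).mpr (iff_of_false h d.y_notMem)
    obtain ⟨k, hk⟩ := mem_zpowers_iff.mp h2
    refine ⟨k, Or.inr ?_⟩
    rw [hk, mul_assoc, d.yy, mul_one]

theorem forall_iff {p : S → Prop} : (∀ s, p s) ↔ ∀ k : ℤ, p (d.x ^ k) ∧ p (d.x ^ k * d.y) := by
  refine ⟨fun h k => ⟨h _, h _⟩, fun h s => ?_⟩
  obtain ⟨k, rfl | rfl⟩ := d.normal_form s
  · exact (h k).1
  · exact (h k).2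

/-- The central involution. -/
def z : S := d.x ^ (2 * P n)

theorem z_central (s : S) : Commute s d.z := by
  obtain ⟨k, rfl | rfl⟩ := d.normal_form s
  · exact (Commute.zpow_zpow_self d.x k _)
  · refine Commute.mul_left (Commute.zpow_zpow_self d.x k _) ?_
    show d.y * d.x ^ (2 * P n) = d.x ^ (2 * P n) * d.y
    rw [d.y_mul]
    congr 1
    rw [d.zx]
    obtain ⟨r, hr⟩ := d.P_even
    exact ⟨P n - 1, by ring⟩

theorem z_ne_one : d.z ≠ 1 := by
  rw [z, Ne, d.zx_one]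
  intro h
  have := Int.le_of_dvd (by linarith [d.P_pos]) h
  linarith [d.P_pos]

theorem orderOf_z : orderOf d.z = 2 := by
  refine Cfsg.Lib.Invol.orderOf_eq_two_of d.z_ne_one ?_
  rw [z, ← zpow_add, d.zx_one]
  exact ⟨1, by ring⟩

theorem eq_z_of_sq {k : ℤ} (h1 : d.x ^ k ≠ 1) (h2 : d.x ^ k * d.x ^ k = 1) : d.x ^ k = d.z := by
  rw [← zpow_add, d.zx_one] at h2
  obtain ⟨t, ht⟩ := h2
  have hk : k = 2 * P n * t := by linarith
  rcases Int.even_or_odd t with ⟨r, hr⟩ | ⟨r, hr⟩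
  · exact absurd (d.zx_one.mpr ⟨r, by rw [hk, hr]; ring⟩) h1
  · rw [z, d.zx]
    exact ⟨r, by rw [hk, hr]; ring⟩

theorem orderOf_even (i : ℤ) : orderOf (d.x ^ (2 * i) * d.y) = 2 := by
  refine Cfsg.Lib.Invol.orderOf_eq_two_of (fun e => d.ne_mul_y 0 (2 * i) (by rw [zpow_zero, e])) ?_
  rw [d.sq, d.zx_one]
  exact ⟨i, by ring⟩

theorem sq_odd (i : ℤ) : d.x ^ (2 * i + 1) * d.y * (d.x ^ (2 * i + 1) * d.y) = d.z := by
  rw [d.sq, z, d.zx]
  exact ⟨i, by ring⟩

theorem orderOf_odd (i : ℤ) : orderOf (d.x ^ (2 * i + 1) * d.y) = 4 := by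
  haveI : Fact (Nat.Prime 2) := ⟨Nat.prime_two⟩
  refine orderOf_eq_prime_pow (p := 2) (n := 1) ?_ ?_
  · rw [pow_one, pow_two, d.sq_odd]; exact d.z_ne_one
  · rw [show (2 : ℕ) ^ (1 + 1) = 2 * 2 by norm_num, pow_mul, pow_two (d.x ^ (2 * i + 1) * d.y),
      d.sq_odd, ← d.orderOf_z, pow_orderOf_eq_one]

theorem involution_cases {t : S} (ht : orderOf t = 2) :
    t = d.z ∨ ∃ i : ℤ, t = d.x ^ (2 * i) * d.y := by
  obtain ⟨k, rfl | rfl⟩ := d.normal_form t
  · exact Or.inl (d.eq_z_of_sq (Cfsg.Lib.Invol.ne_one ht) (Cfsg.Lib.Invol.inv_mul_self ht))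
  · rcases Int.even_or_odd' k with ⟨i, rfl | rfl⟩
    · exact Or.inr ⟨i, rfl⟩
    · rw [d.orderOf_odd] at ht; omega

theorem order_four_cases {t : S} (ht : orderOf t = 4) :
    t = d.x ^ P n ∨ t = d.x ^ (-P n) ∨ ∃ i : ℤ, t = d.x ^ (2 * i + 1) * d.y := by
  obtain ⟨k, rfl | rfl⟩ := d.normal_form t
  · have h1 : d.x ^ k * d.x ^ k = d.z := by
      rw [← zpow_add]
      refine d.eq_z_of_sq ?_ ?_
      · intro e
        have : orderOf (d.x ^ k) ∣ 2 := orderOf_dvd_of_pow_eq_one (by rw [pow_two, ← zpow_add]; exact e)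
        rw [ht] at this
        omega
      · rw [← zpow_add]
        have := pow_orderOf_eq_one (d.x ^ k)
        rw [ht, ← zpow_natCast, ← zpow_mul] at this
        rw [← this]
        congr 1
        push_cast; ring
    rw [← zpow_add, z, d.zx] at h1
    obtain ⟨t', ht'⟩ := h1
    have hk : k = P n * (2 * t' + 1) := by linarith
    rcases Int.even_or_odd t' with ⟨r, hr⟩ | ⟨r, hr⟩
    · exact Or.inl (d.zx.mpr ⟨r, by rw [hk, hr]; ring⟩)
    · exact Or.inr (Or.inl (d.zx.mpr ⟨r + 1, by rw [hk, hr]; ring⟩))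
  · rcases Int.even_or_odd' k with ⟨i, rfl | rfl⟩
    · rw [d.orderOf_even] at ht; omega
    · exact Or.inr (Or.inr ⟨i, rfl⟩)

/-- Elements outside `⟨x⟩` of the same parity are conjugate. -/
theorem exists_conj (k i : ℤ) : ∃ l : ℤ,
    d.x ^ l * (d.x ^ k * d.y) * (d.x ^ l)⁻¹ = d.x ^ (k + 2 * i) * d.y := by
  obtain ⟨u, v, huv⟩ : IsCoprime (1 - P n) (2 * P n) := by
    obtain ⟨r, hr⟩ := d.one_sub_P_odd
    have h2 : IsCoprime (1 - P n) 2 := ⟨1, -r, by linarith⟩
    exact h2.mul_right ⟨1, 1, by ring⟩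
  refine ⟨u * i, ?_⟩
  rw [d.conj_x, mul_left_inj, d.zx]
  exact ⟨-(v * i), by linear_combination (2 * i) * huv⟩

theorem commute_y_iff {k l : ℤ} : Commute (d.x ^ l) (d.x ^ k * d.y) ↔ 2 * P n ∣ l := by
  rw [show Commute (d.x ^ l) (d.x ^ k * d.y) ↔
      d.x ^ l * (d.x ^ k * d.y) * (d.x ^ l)⁻¹ = d.x ^ k * d.y by
    rw [mul_inv_eq_iff_eq_mul]; rfl, d.conj_x, mul_left_inj, d.zx]
  constructor
  · intro h
    have h1 : (2 : ℤ) ^ (n - 1) ∣ (1 - P n) * l := by
      rw [d.two_pow.2.1]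
      obtain ⟨t, ht⟩ := h
      exact ⟨t, by linarith⟩
    rw [← d.two_pow.2.1]
    exact dvd_of_odd_mul d.one_sub_P_odd h1
  · rintro ⟨t, rfl⟩
    exact ⟨(1 - P n) * t, by ring⟩

theorem x_eq_one_or_z {l : ℤ} (h : 2 * P n ∣ l) : d.x ^ l = 1 ∨ d.x ^ l = d.z := by
  by_cases h1 : d.x ^ l = 1
  · exact Or.inl h1
  · refine Or.inr (d.eq_z_of_sq h1 ?_)
    obtain ⟨t, rfl⟩ := h
    rw [← zpow_add, d.zx_one]
    exact ⟨t, by ring⟩

theorem center_eq : center S = zpowers d.z := by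
  refine le_antisymm (fun s hs => ?_) (zpowers_le.mpr (mem_center_iff.mpr fun g => d.z_central g))
  rw [mem_center_iff] at hs
  obtain ⟨k, rfl | rfl⟩ := d.normal_form s
  · have h : Commute (d.x ^ k) (d.x ^ (0 : ℤ) * d.y) := (hs _).symm
    rcases d.x_eq_one_or_z (d.commute_y_iff.mp h) with e | e <;> rw [e]
    · exact one_mem _
    · exact mem_zpowers _
  · exfalso
    have h : Commute (d.x ^ (1 : ℤ)) (d.x ^ k * d.y) := hs _
    have := Int.le_of_dvd one_pos (d.commute_y_iff.mp h)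
    linarith [d.P_pos]

include d in
theorem card_center : Nat.card (center S) = 2 := by
  rw [d.center_eq, Nat.card_zpowers, d.orderOf_z]

theorem orderOf_sq_x : orderOf (d.x ^ (2 : ℤ)) = 2 ^ (n - 1) := by
  have h := d.three_le
  rw [show (2 : ℤ) = ((2 : ℕ) : ℤ) from rfl, zpow_natCast, orderOf_pow, d.hx,
    Nat.gcd_eq_right (dvd_pow_self 2 (by omega)), show n = n - 1 + 1 by omega, pow_succ,
    Nat.mul_div_cancel _ two_pos, Nat.add_sub_cancel]

/-- The dihedral maximal subgroup. -/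
def M₃ : Subgroup S := closure {d.x ^ (2 : ℤ), d.y}

/-- The quaternion maximal subgroup. -/
def M₂ : Subgroup S := closure {d.x ^ (2 : ℤ), d.x * d.y}

theorem sq_x_notMem (k : ℤ) : d.x ^ k * d.y ∉ zpowers (d.x ^ (2 : ℤ)) := fun h =>
  d.mul_y_notMem k ((zpowers_le.mpr (zpow_mem (mem_zpowers _) 2)) h)

theorem M₃_equiv : Nonempty (↥d.M₃ ≃* DihedralGroup (2 ^ (n - 1))) := by
  rw [← d.orderOf_sq_x]
  refine equiv_dihedral d.yy ?_ ?_
  · rw [d.conj_zpow, ← zpow_neg, d.zx]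
    exact ⟨1, by ring⟩
  · simpa using d.sq_x_notMem 0

theorem M₂_equiv : Nonempty (↥d.M₂ ≃* QuaternionGroup (2 ^ (n - 2))) := by
  have h := d.three_le
  refine equiv_quaternion ?_ ?_ ?_ ?_
  · rw [d.orderOf_sq_x, ← pow_succ', show n - 2 + 1 = n - 1 by omega]
  · have := d.sq 1
    rw [zpow_one] at this
    rw [this, ← zpow_natCast (d.x ^ (2 : ℤ)), ← zpow_mul]
    congr 1
    simp only [P, mul_one]
    push_cast
    rfl
  · rw [mul_inv_rev, show d.x * d.y * d.x ^ (2 : ℤ) * (d.y⁻¹ * d.x⁻¹) =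
        d.x * (d.y * d.x ^ (2 : ℤ) * d.y⁻¹) * d.x⁻¹ by group, d.conj_zpow, ← zpow_one_add,
      ← zpow_sub_one, ← zpow_neg, d.zx]
    exact ⟨1, by ring⟩
  · simpa using d.sq_x_notMem 1

theorem index_M₂ : d.M₂.index = 2 := by
  obtain ⟨e⟩ := d.M₂_equiv
  have h := card_mul_index d.M₂
  rw [Nat.card_congr e.toEquiv, card_quaternion (by positivity), d.card,
    show n + 1 = (n - 2) + 3 by have := d.three_le; omega, pow_add] at h
  have := Nat.two_pow_pos (n - 2)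
  nlinarith

theorem index_M₃ : d.M₃.index = 2 := by
  obtain ⟨e⟩ := d.M₃_equiv
  have h := card_mul_index d.M₃
  rw [Nat.card_congr e.toEquiv, DihedralGroup.nat_card, d.card,
    show n + 1 = (n - 1) + 2 by have := d.three_le; omega, pow_add] at h
  have := Nat.two_pow_pos (n - 1)
  nlinarith

include d in
theorem isPGroup : IsPGroup 2 S := IsPGroup.of_card d.card

theorem isCoatom_of_index {M : Subgroup S} (h : M.index = 2) : IsCoatom M := by
  refine ⟨fun e => by rw [e, index_top] at h; omega, fun L hL => index_eq_one.mp ?_⟩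
  rcases (Nat.dvd_prime Nat.prime_two).mp (h ▸ index_dvd_of_le hL.le) with e | e
  · exact e
  · exfalso
    have := relIndex_mul_index hL.le
    rw [e, h] at this
    exact hL.not_ge (relIndex_eq_one.mp (by omega))

include d in
theorem index_of_isCoatom {M : Subgroup S} (h : IsCoatom M) : M.index = 2 := by
  haveI : Fact (Nat.Prime 2) := ⟨Nat.prime_two⟩
  haveI := d.isPGroup.isNilpotent
  haveI : M.Normal := NormalizerCondition.normal_of_coatom _
    Group.normalizerCondition_of_isNilpotent h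
  obtain ⟨j, hj⟩ := d.isPGroup.index M
  rcases j with _ | _ | j
  · exact absurd (index_eq_one.mp hj) h.1
  · simpa using hj
  · exfalso
    have h1 := card_mul_index M
    rw [hj, d.card] at h1
    have h3 : j + 2 ≤ n + 1 := (Nat.pow_dvd_pow_iff_le_right (le_refl 2)).mp ⟨_, by rw [← h1]; ring⟩
    obtain ⟨m, hm⟩ : ∃ m, n + 1 = m + (j + 2) := ⟨n + 1 - (j + 2), by omega⟩
    rw [show j + 1 + 1 = j + 2 from rfl, hm, pow_add 2 m] at h1
    have hM : Nat.card M = 2 ^ m := Nat.eq_of_mul_eq_mul_right (Nat.two_pow_pos _) h1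
    obtain ⟨L, hL, hML⟩ := Sylow.exists_subgroup_card_pow_succ
      (p := 2) (n := m) (G := S) (H := M)
      (by rw [d.card, hm]; exact pow_dvd_pow 2 (by omega)) hM
    have hne : M < L := lt_of_le_of_ne hML fun e => by
      rw [e, hL] at hM
      have := Nat.pow_right_injective le_rfl hM
      omega
    rw [h.2 L hne, card_top, d.card] at hL
    have := Nat.pow_right_injective le_rfl hL
    omega

include d in
theorem sq_x_mem {M : Subgroup S} (h : M.index = 2) : d.x ^ (2 : ℤ) ∈ M := by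
  rw [zpow_two]; exact mul_self_mem_of_index_two h d.x

theorem coatom_cases {M : Subgroup S} (h : IsCoatom M) :
    M = zpowers d.x ∨ M = d.M₂ ∨ M = d.M₃ := by
  have h2 := d.index_of_isCoatom h
  have hsq := d.sq_x_mem h2
  by_cases hx : d.x ∈ M
  · exact Or.inl (((isCoatom_of_index d.index_x).le_iff.mp (zpowers_le.mpr hx)).resolve_left h.1)
  by_cases hy : d.y ∈ M
  · refine Or.inr (Or.inr (((isCoatom_of_index d.index_M₃).le_iff.mp ?_).resolve_left h.1))
    exact (closure_le _).mpr (Set.insert_subset hsq (Set.singleton_subset_iff.mpr hy))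
  · refine Or.inr (Or.inl (((isCoatom_of_index d.index_M₂).le_iff.mp ?_).resolve_left h.1))
    exact (closure_le _).mpr (Set.insert_subset hsq (Set.singleton_subset_iff.mpr
      ((mul_mem_iff_of_index_two h2).mpr (iff_of_false hx hy))))

theorem M₃_mem_iff (k : ℤ) : d.x ^ k * d.y ∈ d.M₃ ↔ Even k := by
  constructor
  · intro h
    rw [← Int.not_odd_iff_even]
    rintro ⟨i, rfl⟩
    have h2 : d.x ^ (2 * i + 1) ∈ d.M₃ :=
      (d.M₃.mul_mem_cancel_right (mem_closure_right _ _)).mp h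
    have h1 : d.x ^ (1 : ℤ) ∈ d.M₃ := by
      have := mul_mem (zpow_mem (mem_closure_left (d.x ^ (2 : ℤ)) d.y) (-i)) h2
      rw [← zpow_mul, ← zpow_add, show 2 * -i + (2 * i + 1) = (1 : ℤ) by ring] at this
      exact this
    rw [zpow_one] at h1
    have htop : d.M₃ = ⊤ := eq_top_iff.mpr fun s _ => by
      obtain ⟨k, rfl | rfl⟩ := d.normal_form s
      · exact zpow_mem h1 k
      · exact mul_mem (zpow_mem h1 k) (mem_closure_right _ _)
    exact (isCoatom_of_index d.index_M₃).1 htop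
  · rintro ⟨i, rfl⟩
    rw [← two_mul, zpow_mul]
    exact mul_mem (zpow_mem (mem_closure_left _ _) i) (mem_closure_right _ _)

theorem x_notMem_M₃ : d.x ∉ d.M₃ := fun h => by
  have h1 : d.x ^ (1 : ℤ) * d.y ∈ d.M₃ := by
    rw [zpow_one]; exact mul_mem h (mem_closure_right _ _)
  exact Int.not_even_one ((d.M₃_mem_iff 1).mp h1)

theorem x_notMem_M₂ : d.x ∉ d.M₂ := fun h => (isCoatom_of_index d.index_M₂).1 <| eq_top_iff.mpr
  fun s _ => by
    have hy : d.y ∈ d.M₂ := (d.M₂.mul_mem_cancel_left h).mp (mem_closure_right _ _)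
    obtain ⟨k, rfl | rfl⟩ := d.normal_form s
    · exact zpow_mem h k
    · exact mul_mem (zpow_mem h k) hy

theorem M₂_ne_M₃ : d.M₂ ≠ d.M₃ := fun e => by
  have h : d.x * d.y ∈ d.M₃ := e ▸ mem_closure_right _ _
  exact d.x_notMem_M₃ ((d.M₃.mul_mem_cancel_right (mem_closure_right _ _)).mp h)

theorem closure_involutions : closure {s : S | orderOf s = 2} = d.M₃ := by
  refine le_antisymm ((closure_le _).mpr fun t ht => ?_) ((closure_le _).mpr ?_)
  · rcases d.involution_cases ht with rfl | ⟨i, rfl⟩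
    · rw [z, SetLike.mem_coe, zpow_mul]
      exact zpow_mem (mem_closure_left _ _) _
    · exact (d.M₃_mem_iff _).mpr (even_two_mul i)
  · have h1 := d.orderOf_even 0
    have h2 := d.orderOf_even 1
    rw [mul_zero, zpow_zero, one_mul] at h1
    rw [mul_one] at h2
    refine Set.insert_subset ?_ (Set.singleton_subset_iff.mpr (Subgroup.subset_closure h1))
    have := mul_mem (Subgroup.subset_closure h2 : _ ∈ closure {s : S | orderOf s = 2})
      (Subgroup.subset_closure h1)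
    rwa [mul_assoc, d.yy, mul_one] at this

theorem mem_sq_x {s : S} (h1 : s ∈ zpowers d.x) (h3 : s ∈ d.M₃) :
    s ∈ zpowers (d.x ^ (2 : ℤ)) := by
  obtain ⟨k, rfl⟩ := mem_zpowers_iff.mp h1
  obtain ⟨i, rfl⟩ := (d.M₃_mem_iff k).mp (mul_mem h3 (mem_closure_right _ _))
  exact mem_zpowers_iff.mpr ⟨i, by rw [← zpow_mul]; congr 1; ring⟩

theorem frattini_eq : frattini S = zpowers (d.x ^ (2 : ℤ)) := by
  refine le_antisymm (fun s hs => d.mem_sq_x
    (frattini_le_coatom (isCoatom_of_index d.index_x) hs)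
    (frattini_le_coatom (isCoatom_of_index d.index_M₃) hs)) ?_
  refine le_iInf₂ fun M hM => zpowers_le.mpr ?_
  exact d.sq_x_mem (d.index_of_isCoatom hM)

theorem commutator_eq : commutator S = zpowers (d.x ^ (2 : ℤ)) := by
  refine le_antisymm ?_ (zpowers_le.mpr ?_)
  · rw [← d.frattini_eq]
    haveI : Fact (Nat.Prime 2) := ⟨Nat.prime_two⟩
    exact Cfsg.Lib.PGroup.commutator_le_frattini d.isPGroup
  · obtain ⟨l, hl⟩ := d.exists_conj 0 1
    have h : ⁅d.x ^ l, d.x ^ (0 : ℤ) * d.y⁆ ∈ commutator S :=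
      commutator_mem_commutator (mem_top _) (mem_top _)
    rw [commutatorElement_def, hl] at h
    rw [zero_add, mul_one, mul_inv_rev, zpow_zero, inv_one, mul_one, mul_inv_cancel_right] at h
    exact h

end SD

end Cfsg.Lib.TwoGroup
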