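import Mathlib
import Cfsg.Prelude.Def_CaseTheorems
import Cfsg.Agent.Lib.TwoGroup.Models

/-!
Wreathed 2-groups.
-/

set_option autoImplicit false
set_option linter.unusedSectionVars false

namespace Cfsg.Lib.TwoGroup

open Subgroup
open scoped commutatorElement

/-- Generators of a wreathed group of order `2^(2n+1)`. -/
structure W (S : Type*) [Group S] (n : ℕ) where
  x : S
  y : S
  z : S
  two_le : 2 ≤ n
  card : Nat.card S = 2 ^ (2 * n + 1)
  hx : orderOf x = 2 ^ n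
  comm : Commute x y
  disj : zpowers x ⊓ zpowers y = ⊥
  hz : orderOf z = 2
  conj : z * x * z⁻¹ = y

variable {S : Type*} [Group S] [Finite S]

theorem exists_w (h : Cfsg.IsWreathed S) : ∃ n, Nonempty (W S n) := by
  obtain ⟨n, h2, hc, x, y, z, hx, hxy, hd, hz, hconj⟩ := h
  exact ⟨n, ⟨⟨x, y, z, h2, hc, hx, hxy, hd, hz, hconj⟩⟩⟩

theorem w_of_card {n : ℕ} (h : Cfsg.IsWreathed S) (hn : Nat.card S = 2 ^ (2 * n + 1)) :
    Nonempty (W S n) := by
  obtain ⟨m, ⟨d⟩⟩ := exists_w h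
  have : m = n := by
    have := Nat.pow_right_injective le_rfl (d.card.symm.trans hn)
    omega
  exact this ▸ ⟨d⟩

/-- Two commuting involutions generate a four group. -/
theorem isKleinFour_closure {G : Type*} [Group G] {w t : G} (hw : orderOf w = 2) (ht : t * t = 1)
    (hc : Commute t w) (hm : t ∉ zpowers w) : IsKleinFour (closure ({w, t} : Set G) : Subgroup G) := by
  obtain ⟨f⟩ := equiv_dihedral ht
    (by rw [hc.eq, mul_inv_cancel_right, Cfsg.Lib.Invol.inv_eq_self hw]) hm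
  rw [hw] at f
  exact ⟨(Nat.card_congr f.toEquiv).trans IsKleinFour.card_four,
    f.toMonoidHom |> fun _ => (Monoid.exponent_eq_of_mulEquiv f).trans IsKleinFour.exponent_two⟩

namespace W

variable {n : ℕ} (d : W S n)
include d

/-- The order of `x`. -/
def N (n : ℕ) : ℤ := 2 ^ n
/-- Half the order of `x`. -/
def H (n : ℕ) : ℤ := 2 ^ (n - 1)
/-- A quarter of the order of `x`. -/
def Q (n : ℕ) : ℤ := 2 ^ (n - 2)

theorem pow_facts : N n = 2 * H n ∧ H n = 2 * Q n ∧ 0 < Q n := by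
  obtain ⟨m, rfl⟩ : ∃ m, n = m + 2 := ⟨n - 2, (Nat.sub_add_cancel d.two_le).symm⟩
  simp only [N, H, Q, show m + 2 - 1 = m + 1 by omega, Nat.add_sub_cancel, pow_succ]
  exact ⟨by ring, by ring, by positivity⟩

theorem H_pos : 0 < H n := by obtain ⟨_, h, h'⟩ := d.pow_facts; linarith

theorem not_N_dvd_H : ¬ N n ∣ H n := fun h => by
  have := Int.le_of_dvd d.H_pos h
  have := d.H_pos
  rw [d.pow_facts.1] at *
  linarith

/-- Elements of order two in the integers modulo `N`. -/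
theorem half {a : ℤ} (h : N n ∣ 2 * a) : N n ∣ a ∨ N n ∣ a - H n := by
  obtain ⟨t, ht⟩ := h
  rw [d.pow_facts.1] at ht ⊢
  rcases Int.even_or_odd' t with ⟨r, rfl | rfl⟩
  · exact Or.inl ⟨r, by linarith⟩
  · exact Or.inr ⟨r, by linarith⟩

theorem hy : orderOf d.y = 2 ^ n := by
  rw [← d.conj, Cfsg.Lib.Invol.orderOf_conj_eq, d.hx]

/-- The element `x^a y^b`. -/
def e (a b : ℤ) : S := d.x ^ a * d.y ^ b

theorem e_mul (a b c c' : ℤ) : d.e a b * d.e c c' = d.e (a + c) (b + c') := by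
  have h : d.y ^ b * d.x ^ c = d.x ^ c * d.y ^ b := (d.comm.zpow_zpow c b).symm.eq
  rw [e, e, e, zpow_add, zpow_add,
    show d.x ^ a * d.y ^ b * (d.x ^ c * d.y ^ c') = d.x ^ a * (d.y ^ b * d.x ^ c) * d.y ^ c' by group,
    h]
  group

theorem e_zero : d.e 0 0 = 1 := by rw [e, zpow_zero, zpow_zero, mul_one]

theorem e_x (a : ℤ) : d.e a 0 = d.x ^ a := by rw [e, zpow_zero, mul_one]

theorem e_inv (a b : ℤ) : (d.e a b)⁻¹ = d.e (-a) (-b) :=
  inv_eq_of_mul_eq_one_right (by rw [d.e_mul, add_neg_cancel, add_neg_cancel, d.e_zero])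

theorem e_comm (a b c c' : ℤ) : Commute (d.e a b) (d.e c c') := by
  show _ * _ = _ * _
  rw [d.e_mul, d.e_mul, add_comm a, add_comm b]

theorem e_zpow (a b k : ℤ) : d.e a b ^ k = d.e (k * a) (k * b) := by
  rw [e, e, (d.comm.zpow_zpow a b).mul_zpow, ← zpow_mul, ← zpow_mul, mul_comm a, mul_comm b]

theorem e_eq_one {a b : ℤ} : d.e a b = 1 ↔ N n ∣ a ∧ N n ∣ b := by
  have key : ∀ {g : S}, orderOf g = 2 ^ n → ∀ k : ℤ, g ^ k = 1 ↔ N n ∣ k := fun hg k => by
    rw [← orderOf_dvd_iff_zpow_eq_one, hg, N]; push_cast; rfl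
  constructor
  · intro h
    rw [e, mul_eq_one_iff_eq_inv] at h
    have h1 : d.x ^ a ∈ zpowers d.x ⊓ zpowers d.y :=
      mem_inf.mpr ⟨zpow_mem (mem_zpowers _) a,
        h ▸ (zpowers d.y).inv_mem (zpow_mem (mem_zpowers _) b)⟩
    rw [d.disj, mem_bot] at h1
    rw [h1, eq_comm, inv_eq_one] at h
    exact ⟨(key d.hx a).mp h1, (key d.hy b).mp h⟩
  · rintro ⟨ha, hb⟩
    rw [e, (key d.hx a).mpr ha, (key d.hy b).mpr hb, mul_one]

theorem e_eq {a b c c' : ℤ} : d.e a b = d.e c c' ↔ N n ∣ a - c ∧ N n ∣ b - c' := by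
  rw [← mul_inv_eq_one, d.e_inv, d.e_mul, d.e_eq_one, ← sub_eq_add_neg, ← sub_eq_add_neg]

theorem conj_y : d.z * d.y * d.z⁻¹ = d.x := by
  have h := Cfsg.Lib.Invol.inv_mul_self d.hz
  rw [← d.conj, Cfsg.Lib.Invol.inv_eq_self d.hz]
  rw [show d.z * (d.z * d.x * d.z) * d.z = (d.z * d.z) * d.x * (d.z * d.z) by group, h, one_mul,
    mul_one]

theorem zz : d.z * d.z = 1 := Cfsg.Lib.Invol.inv_mul_self d.hz

theorem z_e (a b : ℤ) : d.z * d.e a b = d.e b a * d.z := by
  rw [← mul_inv_eq_iff_eq_mul, e, e, ← conj_mul, ← conj_zpow, ← conj_zpow, d.conj, d.conj_y,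
    (d.comm.zpow_zpow b a).symm.eq]

theorem e_ez (a b c c' : ℤ) : d.e a b * (d.e c c' * d.z) = d.e (a + c) (b + c') * d.z := by
  rw [← mul_assoc, d.e_mul]

theorem ez_e (a b c c' : ℤ) : d.e a b * d.z * d.e c c' = d.e (a + c') (b + c) * d.z := by
  rw [mul_assoc, d.z_e, ← mul_assoc, d.e_mul]

theorem ez_ez (a b c c' : ℤ) : d.e a b * d.z * (d.e c c' * d.z) = d.e (a + c') (b + c) := by
  rw [← mul_assoc, d.ez_e, mul_assoc, d.zz, mul_one]

theorem ez_inv (a b : ℤ) : (d.e a b * d.z)⁻¹ = d.e (-b) (-a) * d.z :=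
  inv_eq_of_mul_eq_one_right (by rw [d.ez_ez, add_neg_cancel, add_neg_cancel, d.e_zero])

theorem conj_e_ez (c c' a b : ℤ) : d.e c c' * (d.e a b * d.z) * (d.e c c')⁻¹ =
    d.e (a + c - c') (b + c' - c) * d.z := by
  rw [d.e_ez, d.e_inv, d.ez_e]
  congr 2 <;> ring

theorem conj_ez_e (c c' a b : ℤ) : d.e c c' * d.z * d.e a b * (d.e c c' * d.z)⁻¹ = d.e b a := by
  rw [d.ez_e, d.ez_inv, d.ez_ez]
  congr 1 <;> ring

theorem conj_e_e (c c' a b : ℤ) : d.e c c' * d.e a b * (d.e c c')⁻¹ = d.e a b := by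
  rw [(d.e_comm c c' a b).eq, mul_inv_cancel_right]

theorem x_ne_y : d.x ≠ d.y := fun h => by
  have h1 : d.x ∈ zpowers d.x ⊓ zpowers d.y := ⟨mem_zpowers _, h ▸ mem_zpowers _⟩
  rw [d.disj, mem_bot] at h1
  have := d.hx
  rw [h1, orderOf_one] at this
  have := Nat.one_lt_two_pow (n := n) (by have := d.two_le; omega)
  omega

theorem z_ne_e (a b : ℤ) : d.z ≠ d.e a b := fun h => d.x_ne_y (by
  rw [← d.conj, h, ← zpow_one d.x, ← d.e_x, d.conj_e_e])

theorem e_ne_ez (a b c c' : ℤ) : d.e a b ≠ d.e c c' * d.z := fun h =>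
  d.z_ne_e (-c + a) (-c' + b) (by rw [← d.e_mul, h, ← d.e_inv, inv_mul_cancel_left])

/-- The abelian maximal subgroup. -/
def A : Subgroup S where
  carrier := {s | ∃ a b, s = d.e a b}
  mul_mem' := by rintro _ _ ⟨a, b, rfl⟩ ⟨c, c', rfl⟩; exact ⟨_, _, d.e_mul a b c c'⟩
  one_mem' := ⟨0, 0, d.e_zero.symm⟩
  inv_mem' := by rintro _ ⟨a, b, rfl⟩; exact ⟨_, _, d.e_inv a b⟩

theorem mem_A {s : S} : s ∈ d.A ↔ ∃ a b, s = d.e a b := Iff.rfl

theorem A_comm : IsMulCommutative d.A :=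
  ⟨⟨fun u v => by
    obtain ⟨a, b, hu⟩ := u.2
    obtain ⟨c, c', hv⟩ := v.2
    ext
    simp only [Subgroup.coe_mul, hu, hv]
    exact d.e_comm a b c c'⟩⟩

theorem A_equiv : Nonempty (↥d.A ≃* Multiplicative (ZMod (2 ^ n) × ZMod (2 ^ n))) := by
  have key : ∀ a b : ℤ, (a : ZMod (2 ^ n)) = b → N n ∣ a - b := fun a b h => by
    have := (ZMod.intCast_eq_intCast_iff_dvd_sub b a (2 ^ n)).mp h.symm
    rw [N]; push_cast at this; exact this
  let f : Multiplicative (ZMod (2 ^ n) × ZMod (2 ^ n)) →* S :=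
    MonoidHom.mk' (fun v => d.e (v.toAdd.1.cast : ℤ) (v.toAdd.2.cast : ℤ)) fun u v => by
      rw [d.e_mul, d.e_eq]
      refine ⟨key _ _ ?_, key _ _ ?_⟩ <;> simp
  have hinj : Function.Injective f := fun u v huv => by
    obtain ⟨h1, h2⟩ := d.e_eq.mp huv
    have hd : ∀ a b : ℤ, N n ∣ a - b → (a : ZMod (2 ^ n)) = b := fun a b h =>
      ((ZMod.intCast_eq_intCast_iff_dvd_sub b a (2 ^ n)).mpr (by rw [N] at h; push_cast; exact h)).symm
    apply Multiplicative.toAdd.injective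
    ext
    · simpa using hd _ _ h1
    · simpa using hd _ _ h2
  have hr : f.range = d.A := by
    ext s
    constructor
    · rintro ⟨v, rfl⟩; exact ⟨_, _, rfl⟩
    · rintro ⟨a, b, rfl⟩
      refine ⟨Multiplicative.ofAdd ((a : ZMod (2 ^ n)), (b : ZMod (2 ^ n))), d.e_eq.mpr ?_⟩
      exact ⟨key _ _ (by simp), key _ _ (by simp)⟩
  exact ⟨((MonoidHom.ofInjective hinj).trans (MulEquiv.subgroupCongr hr)).symm⟩

theorem card_A : Nat.card d.A = 2 ^ (2 * n) := by
  obtain ⟨f⟩ := d.A_equiv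
  rw [Nat.card_congr f.toEquiv, Nat.card_congr (Multiplicative.toAdd), Nat.card_prod, Nat.card_zmod,
    ← pow_add, two_mul]

theorem index_A : d.A.index = 2 := by
  have h := card_mul_index d.A
  rw [d.card_A, d.card, pow_succ] at h
  exact Nat.eq_of_mul_eq_mul_left (by positivity) h

theorem z_notMem : d.z ∉ d.A := fun ⟨a, b, h⟩ => d.z_ne_e a b h

theorem normal_form (s : S) : ∃ a b, s = d.e a b ∨ s = d.e a b * d.z := by
  by_cases h : s ∈ d.A
  · obtain ⟨a, b, h⟩ := h; exact ⟨a, b, Or.inl h⟩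
  · obtain ⟨a, b, hab⟩ := d.mem_A.mp
      ((mul_mem_iff_of_index_two d.index_A).mpr (iff_of_false h d.z_notMem))
    exact ⟨a, b, Or.inr (by rw [← hab, mul_assoc, d.zz, mul_one])⟩

theorem ez_notMem (a b : ℤ) : d.e a b * d.z ∉ d.A := fun ⟨_, _, h⟩ => d.e_ne_ez _ _ _ _ h.symm

theorem commute_ez {p r a b : ℤ} : Commute (d.e p r) (d.e a b * d.z) ↔ N n ∣ p - r := by
  constructor
  · intro h
    have h1 : d.e p r * (d.e a b * d.z) * (d.e p r)⁻¹ = d.e a b * d.z := by
      rw [h.eq, mul_inv_cancel_right]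
    rw [d.conj_e_ez, mul_left_inj, d.e_eq] at h1
    convert h1.1 using 1; ring
  · intro h
    show _ * _ = _ * _
    rw [d.e_ez, d.ez_e, mul_left_inj, d.e_eq]
    obtain ⟨t, ht⟩ := h
    exact ⟨⟨t, by linarith⟩, ⟨-t, by linarith⟩⟩

theorem center_eq : center S = zpowers (d.e 1 1) := by
  ext s
  rw [mem_center_iff, mem_zpowers_iff]
  constructor
  · intro h
    obtain ⟨a, b, rfl | rfl⟩ := d.normal_form s
    · have hab : N n ∣ a - b := (d.commute_ez (a := 0) (b := 0)).mp (h _).symm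
      refine ⟨a, ?_⟩
      rw [d.e_zpow, mul_one, d.e_eq, sub_self]
      exact ⟨dvd_zero _, hab⟩
    · have h1 : N n ∣ (1 : ℤ) - 0 := (d.commute_ez (a := a) (b := b)).mp (h _)
      rw [sub_zero] at h1
      have := Int.le_of_dvd one_pos h1
      have := d.pow_facts
      linarith
  · rintro ⟨k, rfl⟩ g
    rw [d.e_zpow, mul_one]
    obtain ⟨a, b, rfl | rfl⟩ := d.normal_form g
    · exact d.e_comm _ _ _ _
    · exact (d.commute_ez.mpr (by simp)).symm

theorem mem_center_e {a b : ℤ} : d.e a b ∈ center S ↔ N n ∣ a - b := by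
  rw [d.center_eq, mem_zpowers_iff]
  constructor
  · rintro ⟨k, hk⟩
    rw [d.e_zpow, mul_one, d.e_eq] at hk
    simpa using dvd_sub hk.2 hk.1
  · intro h
    refine ⟨a, ?_⟩
    rw [d.e_zpow, mul_one, d.e_eq, sub_self]
    exact ⟨dvd_zero _, h⟩

theorem orderOf_e {a b : ℤ} (h : ∀ k : ℤ, N n ∣ k * a ∧ N n ∣ k * b → N n ∣ k) :
    orderOf (d.e a b) = 2 ^ n := by
  refine Nat.dvd_antisymm ?_ ?_
  · refine orderOf_dvd_of_pow_eq_one ?_
    rw [← zpow_natCast, d.e_zpow, d.e_eq_one, N]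
    push_cast
    exact ⟨dvd_mul_right _ _, dvd_mul_right _ _⟩
  · have h1 : d.e a b ^ ((orderOf (d.e a b) : ℕ) : ℤ) = 1 := by
      rw [zpow_natCast, pow_orderOf_eq_one]
    rw [d.e_zpow, d.e_eq_one] at h1
    have := h _ h1
    rw [N] at this
    exact_mod_cast this

theorem orderOf_center_gen : orderOf (d.e 1 1) = 2 ^ n := d.orderOf_e fun k h => by simpa using h.1

theorem orderOf_commutator_gen : orderOf (d.e 1 (-1)) = 2 ^ n :=
  d.orderOf_e fun k h => by simpa using h.1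

theorem card_center : Nat.card (center S) = 2 ^ n := by
  rw [d.center_eq, Nat.card_zpowers, d.orderOf_center_gen]

theorem commutator_eq : commutator S = zpowers (d.e 1 (-1)) := by
  refine le_antisymm (Subgroup.commutator_le.mpr fun g _ g' _ => ?_) (zpowers_le.mpr ?_)
  · have hk : ∀ a b : ℤ, a + b = 0 → d.e a b ∈ zpowers (d.e 1 (-1)) := fun a b hab =>
      mem_zpowers_iff.mpr ⟨a, by rw [d.e_zpow, mul_one, mul_neg_one, eq_neg_of_add_eq_zero_right hab]⟩
    rw [commutatorElement_def]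
    obtain ⟨a, b, rfl | rfl⟩ := d.normal_form g <;>
      obtain ⟨c, c', rfl | rfl⟩ := d.normal_form g'
    · rw [d.conj_e_e, mul_inv_cancel]; exact one_mem _
    · rw [d.conj_e_ez, d.ez_inv, d.ez_ez]; exact hk _ _ (by ring)
    · rw [d.conj_ez_e, d.e_inv, d.e_mul]; exact hk _ _ (by ring)
    · rw [d.ez_inv, d.ez_inv, d.ez_ez, d.e_ez, d.ez_ez]; exact hk _ _ (by ring)
  · have h := commutator_mem_commutator (g₁ := d.e 1 0) (g₂ := d.e 0 0 * d.z)
      (mem_top _) (mem_top _)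
    rw [commutatorElement_def, d.conj_e_ez, d.ez_inv, d.ez_ez, ← commutator_def] at h
    simpa using h

theorem quotient_center : Nonempty (S ⧸ center S ≃* DihedralGroup (2 ^ n)) := by
  let m : S →* S ⧸ center S := QuotientGroup.mk' _
  have hsurj : Function.Surjective m := QuotientGroup.mk'_surjective _
  have hmk : ∀ {u v : S}, m u = m v ↔ u⁻¹ * v ∈ center S := QuotientGroup.eq
  have hone : ∀ {u : S}, m u = 1 ↔ u ∈ center S := QuotientGroup.eq_one_iff _
  have hord : orderOf (m d.x) = 2 ^ n := by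
    refine Nat.dvd_antisymm (d.hx ▸ orderOf_map_dvd m d.x) ?_
    have h1 : d.e (orderOf (m d.x) : ℤ) 0 ∈ center S := by
      rw [d.e_x, zpow_natCast, ← hone, map_pow, pow_orderOf_eq_one]
    rw [d.mem_center_e, sub_zero, N] at h1
    exact_mod_cast h1
  have hinv : m d.z * m d.x * (m d.z)⁻¹ = (m d.x)⁻¹ := by
    rw [← map_inv, ← map_inv, ← map_mul, ← map_mul, d.conj, hmk]
    have e1 : d.y⁻¹ * d.x⁻¹ = d.e (-1) (-1) := by
      rw [← mul_inv_rev, ← zpow_one d.x, ← zpow_one d.y, ← e, d.e_inv]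
    rw [e1, d.mem_center_e, sub_self]
    exact dvd_zero _
  have hnot : m d.z ∉ zpowers (m d.x) := by
    intro h
    obtain ⟨k, hk⟩ := mem_zpowers_iff.mp h
    rw [← map_zpow, hmk] at hk
    have h2 : (d.x ^ k)⁻¹ * d.z ∈ d.A := by
      rw [d.center_eq] at hk
      exact (zpowers_le.mpr (d.mem_A.mpr ⟨1, 1, rfl⟩)) hk
    rw [← d.e_x, d.e_inv] at h2
    exact d.ez_notMem _ _ h2
  obtain ⟨f⟩ := equiv_dihedral (r := m d.x) (t := m d.z) (by rw [← map_mul, d.zz, map_one]) hinv hnot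
  rw [hord] at f
  have htop : closure ({m d.x, m d.z} : Set (S ⧸ center S)) = ⊤ := by
    refine eq_top_iff.mpr fun u _ => ?_
    obtain ⟨s, rfl⟩ := hsurj u
    set K := closure ({m d.x, m d.z} : Set (S ⧸ center S))
    have hxK : m d.x ∈ K := mem_closure_left _ _
    have hzK : m d.z ∈ K := mem_closure_right _ _
    have hyK : m d.y ∈ K := by
      rw [← d.conj, map_mul, map_mul, map_inv]; exact mul_mem (mul_mem hzK hxK) (inv_mem hzK)
    have he : ∀ a b, m (d.e a b) ∈ K := fun a b => by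
      rw [e, map_mul, map_zpow, map_zpow]; exact mul_mem (zpow_mem hxK a) (zpow_mem hyK b)
    obtain ⟨a, b, rfl | rfl⟩ := d.normal_form s
    · exact he a b
    · rw [map_mul]; exact mul_mem (he a b) hzK
  exact ⟨(topEquiv.symm.trans (MulEquiv.subgroupCongr htop.symm)).trans f⟩

theorem abelian_unique {U : Subgroup S} (hU : IsMulCommutative U) (hc : Nat.card U = 2 ^ (2 * n)) :
    U = d.A := by
  refine eq_of_le_of_card_ge ?_ (by rw [hc, d.card_A])
  by_contra hle
  obtain ⟨s, hs, hsA⟩ := SetLike.not_le_iff_exists.mp hle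
  have hsub : U ⊓ d.A ≤ center S := by
    rintro g ⟨hg, a, b, rfl⟩
    obtain ⟨c, c', rfl | rfl⟩ := d.normal_form s
    · exact absurd ⟨c, c', rfl⟩ hsA
    · rw [d.mem_center_e]
      exact d.commute_ez.mp (congrArg Subtype.val (hU.is_comm.comm ⟨_, hg⟩ ⟨_, hs⟩))
  have h1 : (U ⊓ d.A).relIndex U ≤ 2 := by
    rw [inf_relIndex_left]
    exact d.index_A ▸ Nat.le_of_dvd (by rw [d.index_A]; norm_num)
      (haveI := normal_of_index_eq_two d.index_A; relIndex_dvd_index_of_normal d.A U)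
  have h2 := card_le_of_le hsub
  rw [d.card_center] at h2
  have h3 := relIndex_mul_relIndex ⊥ (U ⊓ d.A) U bot_le inf_le_left
  rw [relIndex_bot_left, relIndex_bot_left, mul_comm] at h3
  have h4 : 2 * 2 ^ n < 2 ^ (2 * n) := by
    rw [← pow_succ']
    exact Nat.pow_lt_pow_right one_lt_two (by have := d.two_le; omega)
  have : Nat.card U ≤ 2 * 2 ^ n := h3 ▸ Nat.mul_le_mul h1 h2
  omega

theorem involution_cases {t : S} (ht : orderOf t = 2) :
    t = d.e (H n) 0 ∨ t = d.e 0 (H n) ∨ t = d.e (H n) (H n) ∨ ∃ a, t = d.e a (-a) * d.z := by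
  have h1 := Cfsg.Lib.Invol.inv_mul_self ht
  obtain ⟨a, b, rfl | rfl⟩ := d.normal_form t
  · rw [d.e_mul, d.e_eq_one, ← two_mul, ← two_mul] at h1
    rcases d.half h1.1 with ha | ha <;> rcases d.half h1.2 with hb | hb
    · exact absurd (d.e_eq_one.mpr ⟨ha, hb⟩) (Cfsg.Lib.Invol.ne_one ht)
    · exact Or.inr (Or.inl (d.e_eq.mpr ⟨by simpa using ha, hb⟩))
    · exact Or.inl (d.e_eq.mpr ⟨ha, by simpa using hb⟩)
    · exact Or.inr (Or.inr (Or.inl (d.e_eq.mpr ⟨ha, hb⟩)))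
  · rw [d.ez_ez, d.e_eq_one] at h1
    refine Or.inr (Or.inr (Or.inr ⟨a, ?_⟩))
    rw [mul_left_inj, d.e_eq, sub_self, sub_neg_eq_add, add_comm]
    exact ⟨dvd_zero _, h1.1⟩

theorem orderOf_H0 : orderOf (d.e (H n) 0) = 2 :=
  Cfsg.Lib.Invol.orderOf_eq_two_of (fun h => d.not_N_dvd_H (d.e_eq_one.mp h).1)
    (by rw [d.e_mul, d.e_eq_one, ← two_mul, ← d.pow_facts.1]; simp)

theorem orderOf_0H : orderOf (d.e 0 (H n)) = 2 :=
  Cfsg.Lib.Invol.orderOf_eq_two_of (fun h => d.not_N_dvd_H (d.e_eq_one.mp h).2)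
    (by rw [d.e_mul, d.e_eq_one, ← two_mul (H n), ← d.pow_facts.1]; simp)

theorem orderOf_HH : orderOf (d.e (H n) (H n)) = 2 :=
  Cfsg.Lib.Invol.orderOf_eq_two_of (fun h => d.not_N_dvd_H (d.e_eq_one.mp h).2)
    (by rw [d.e_mul, d.e_eq_one, ← two_mul, ← d.pow_facts.1]; simp)

theorem orderOf_ez (a : ℤ) : orderOf (d.e a (-a) * d.z) = 2 :=
  Cfsg.Lib.Invol.orderOf_eq_two_of (fun h => d.e_ne_ez 0 0 a (-a) (by rw [d.e_zero, h]))
    (by rw [d.ez_ez, d.e_eq_one]; simp)

theorem four_subgroups : ∃ T : Subgroup S, IsKleinFour T ∧ T.Normal ∧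
    (∃ T₀ : Subgroup S, IsKleinFour T₀ ∧ T₀ ≠ T) ∧
    ∀ T₁ T₂ : Subgroup S, IsKleinFour T₁ → IsKleinFour T₂ → T₁ ≠ T → T₂ ≠ T →
      ∃ s : S, T₁.map (MulAut.conj s).toMonoidHom = T₂ := by
  have hN := d.pow_facts.1
  set u := d.e (H n) 0 with hu
  set v := d.e 0 (H n) with hv
  set w := d.e (H n) (H n) with hw
  set T := closure ({u, v} : Set S) with hT
  have hzc : ∀ {g k : S}, orderOf g = 2 → k ∈ zpowers g → k = 1 ∨ k = g := fun {g k} hg hk => by
    obtain ⟨m, rfl⟩ := mem_zpowers_iff.mp hk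
    rcases Int.even_or_odd' m with ⟨r, rfl | rfl⟩
    · left; rw [zpow_mul, zpow_two, Cfsg.Lib.Invol.inv_mul_self hg, one_zpow]
    · right; rw [zpow_add, zpow_mul, zpow_two, Cfsg.Lib.Invol.inv_mul_self hg, one_zpow, one_mul,
        zpow_one]
  have hvu : v ∉ zpowers u := fun h => by
    rcases hzc d.orderOf_H0 h with e | e
    · exact Cfsg.Lib.Invol.ne_one d.orderOf_0H e
    · have := (d.e_eq.mp e).2
      rw [sub_zero] at this
      exact d.not_N_dvd_H this
  have hTk : IsKleinFour T :=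
    isKleinFour_closure d.orderOf_H0 (Cfsg.Lib.Invol.inv_mul_self d.orderOf_0H) (d.e_comm _ _ _ _) hvu
  have hTA : T ≤ d.A := (closure_le _).mpr
    (Set.insert_subset ⟨_, _, rfl⟩ (Set.singleton_subset_iff.mpr ⟨_, _, rfl⟩))
  have hT1 : u ∈ T := mem_closure_left _ _
  have hT2 : v ∈ T := mem_closure_right _ _
  have hT3 : w ∈ T := by
    rw [hw, show H n = H n + 0 by ring]
    nth_rewrite 2 [show H n + 0 = 0 + H n by ring]
    rw [← d.e_mul]; exact mul_mem hT1 hT2
  have hTn : T.Normal := by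
    refine ⟨fun g hg s => ?_⟩
    obtain ⟨a, b, rfl⟩ := hTA hg
    obtain ⟨c, c', rfl | rfl⟩ := d.normal_form s
    · rwa [d.conj_e_e]
    · rw [d.conj_ez_e]
      by_cases h1 : d.e a b = 1
      · rw [d.e_eq_one] at h1
        rw [d.e_eq_one.mpr ⟨h1.2, h1.1⟩]
        exact one_mem _
      · have h2 : orderOf (d.e a b) = 2 := Cfsg.Lib.Invol.orderOf_eq_two_of h1
          (by haveI := hTk
              simpa [Subtype.ext_iff] using IsKleinFour.mul_self (⟨_, hg⟩ : T))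
        rcases d.involution_cases h2 with e | e | e | ⟨r, e⟩
        · obtain ⟨e1, e2⟩ := d.e_eq.mp e
          rw [d.e_eq.mpr ⟨e2, e1⟩]; exact hT2
        · obtain ⟨e1, e2⟩ := d.e_eq.mp e
          rw [d.e_eq.mpr ⟨e2, e1⟩]; exact hT1
        · obtain ⟨e1, e2⟩ := d.e_eq.mp e
          rw [d.e_eq.mpr ⟨e2, e1⟩]; exact hT3
        · exact absurd e (d.e_ne_ez _ _ _ _)
  have hpair : ∀ a : ℤ, IsKleinFour (closure ({w, d.e a (-a) * d.z} : Set S) : Subgroup S) := fun a => by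
    refine isKleinFour_closure d.orderOf_HH (Cfsg.Lib.Invol.inv_mul_self (d.orderOf_ez a))
      (d.commute_ez.mpr (by simp)).symm fun h => ?_
    rcases hzc d.orderOf_HH h with e | e
    · exact Cfsg.Lib.Invol.ne_one (d.orderOf_ez a) e
    · exact d.e_ne_ez _ _ _ _ e.symm
  refine ⟨T, hTk, hTn, ⟨_, hpair 0, fun h => d.ez_notMem 0 (-0) (hTA (h ▸ mem_closure_right _ _))⟩, ?_⟩
  have hother : ∀ U : Subgroup S, IsKleinFour U → U ≠ T →
      ∃ a, U = closure ({w, d.e a (-a) * d.z} : Set S) := by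
    intro U hU hne
    haveI := hU
    have hinv : ∀ s ∈ U, s ≠ 1 → orderOf s = 2 := fun s hs h1 =>
      Cfsg.Lib.Invol.orderOf_eq_two_of h1
        (by simpa [Subtype.ext_iff] using IsKleinFour.mul_self (⟨s, hs⟩ : U))
    obtain ⟨a, ht⟩ : ∃ a, d.e a (-a) * d.z ∈ U := by
      by_contra hh
      push Not at hh
      refine hne (eq_of_le_of_card_ge (fun s hs => ?_) (by
        haveI := hTk; rw [IsKleinFour.card_four, IsKleinFour.card_four]))
      by_cases h1 : s = 1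
      · exact h1 ▸ one_mem _
      rcases d.involution_cases (hinv s hs h1) with rfl | rfl | rfl | ⟨a, rfl⟩
      exacts [hT1, hT2, hT3, absurd hs (hh a)]
    set t := d.e a (-a) * d.z
    refine ⟨a, (eq_of_le_of_card_ge ?_ (by
      haveI := hpair a; rw [IsKleinFour.card_four, IsKleinFour.card_four])).symm⟩
    refine (closure_le _).mpr (Set.insert_subset ?_ (Set.singleton_subset_iff.mpr ht))
    obtain ⟨s, hs, hs'⟩ : ∃ s ∈ U, s ∉ ({1, t} : Set S) := by
      by_contra hh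
      push Not at hh
      have h4 : (U : Set S).ncard ≤ 2 := (Set.ncard_le_ncard hh).trans
        ((Set.ncard_insert_le _ _).trans (by rw [Set.ncard_singleton]))
      rw [← Nat.card_coe_set_eq, SetLike.coe_sort_coe, IsKleinFour.card_four] at h4
      omega
    obtain ⟨hs1, hst⟩ : s ≠ 1 ∧ s ≠ t := by simpa using hs'
    have hct : ∀ g ∈ U, Commute g t := fun g hg =>
      congrArg Subtype.val (IsKleinFour.isMulCommutative.is_comm.comm (⟨g, hg⟩ : U) ⟨t, ht⟩)
    have key : ∀ g ∈ U, g ≠ 1 → g ∈ d.A → g = w := fun g hg h1 hA => by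
      rcases d.involution_cases (hinv g hg h1) with rfl | rfl | rfl | ⟨r, rfl⟩
      · exact absurd (by simpa using d.commute_ez.mp (hct _ hg)) d.not_N_dvd_H
      · exact absurd (by simpa using d.commute_ez.mp (hct _ hg)) d.not_N_dvd_H
      · rfl
      · exact absurd hA (d.ez_notMem _ _)
    by_cases hA : s ∈ d.A
    · exact key s hs hs1 hA ▸ hs
    · have h2 : s * t ∈ d.A := (mul_mem_iff_of_index_two d.index_A).mpr
        (iff_of_false hA (d.ez_notMem _ _))
      refine key (s * t) (mul_mem hs ht) (fun e => hst ?_) h2 ▸ mul_mem hs ht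
      rw [mul_eq_one_iff_eq_inv, Cfsg.Lib.Invol.inv_eq_self (d.orderOf_ez a)] at e
      exact e
  intro T₁ T₂ h₁ h₂ hn₁ hn₂
  obtain ⟨a, rfl⟩ := hother T₁ h₁ hn₁
  obtain ⟨b, rfl⟩ := hother T₂ h₂ hn₂
  refine ⟨d.e (b - a) 0, ?_⟩
  rw [MonoidHom.map_closure, Set.image_pair]
  simp only [MulEquiv.coe_toMonoidHom, MulAut.conj_apply, hw, d.conj_e_e, d.conj_e_ez]
  ring_nf

theorem orbit_z (a : ℤ) : ∃ g : S, g * d.z * g⁻¹ = d.e a (-a) * d.z := by
  refine ⟨d.e a 0, ?_⟩
  have := d.conj_e_ez a 0 0 0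
  rw [d.e_zero, one_mul] at this
  rw [this]
  congr 2 <;> ring

theorem three_classes : Nat.card {C : ConjClasses S // ∃ t : S, orderOf t = 2 ∧ ConjClasses.mk t = C}
    = 3 := by
  set u := d.e (H n) 0
  set v := d.e 0 (H n)
  set w := d.e (H n) (H n)
  have conj : ∀ {p r : S} (g : S), g * p * g⁻¹ = r → ConjClasses.mk p = ConjClasses.mk r :=
    fun g h => ConjClasses.mk_eq_mk_iff_isConj.mpr (isConj_iff.mpr ⟨g, h⟩)
  have hsep : ∀ a b, ConjClasses.mk (d.e a b) ≠ ConjClasses.mk d.z := fun a b h => by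
    obtain ⟨g, hg⟩ := isConj_iff.mp (ConjClasses.mk_eq_mk_iff_isConj.mp h)
    haveI := normal_of_index_eq_two d.index_A
    exact d.z_notMem (hg ▸ Normal.conj_mem inferInstance _ (d.mem_A.mpr ⟨a, b, rfl⟩) g)
  have huw : ConjClasses.mk u ≠ ConjClasses.mk w := fun h => by
    obtain ⟨g, hg⟩ := isConj_iff.mp (ConjClasses.mk_eq_mk_iff_isConj.mp h.symm)
    have hc : w ∈ center S := d.mem_center_e.mpr (by simp)
    rw [(mem_center_iff.mp hc g), mul_inv_cancel_right] at hg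
    exact d.not_N_dvd_H (by simpa using (d.e_eq.mp hg).2)
  have hset : {C : ConjClasses S | ∃ t : S, orderOf t = 2 ∧ ConjClasses.mk t = C} =
      {ConjClasses.mk u, ConjClasses.mk w, ConjClasses.mk d.z} := by
    ext C
    constructor
    · rintro ⟨t, ht, rfl⟩
      rcases d.involution_cases ht with rfl | rfl | rfl | ⟨a, rfl⟩
      · exact Or.inl rfl
      · refine Or.inl (conj d.z ?_)
        rw [d.z_e, mul_inv_cancel_right]
      · exact Or.inr (Or.inl rfl)
      · obtain ⟨g, hg⟩ := d.orbit_z a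
        exact Or.inr (Or.inr (conj g hg).symm)
    · rintro (rfl | rfl | rfl)
      exacts [⟨u, d.orderOf_H0, rfl⟩, ⟨w, d.orderOf_HH, rfl⟩, ⟨d.z, d.hz, rfl⟩]
  have h3 : ({ConjClasses.mk u, ConjClasses.mk w, ConjClasses.mk d.z} : Set (ConjClasses S)).ncard
      = 3 := by
    rw [Set.ncard_insert_of_notMem, Set.ncard_pair (hsep _ _)]
    rintro (e | e)
    exacts [huw e, hsep _ _ e]
  rw [← h3, ← hset, ← Nat.card_coe_set_eq]
  rfl

theorem center_of_nonabelian {X : Subgroup S} (hX : ¬ IsMulCommutative X) :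
    (center X).map X.subtype ≤ center S := by
  rintro _ ⟨⟨c, hc⟩, hcc, rfl⟩
  have hcomm : ∀ g ∈ X, Commute g c := fun g hg =>
    congrArg Subtype.val (mem_center_iff.mp hcc ⟨g, hg⟩)
  obtain ⟨a, b, rfl | rfl⟩ := d.normal_form c
  · by_cases hA : X ≤ d.A
    · exact absurd ⟨⟨fun u v => by
        obtain ⟨p, r, hu⟩ := hA u.2
        obtain ⟨p', r', hv⟩ := hA v.2
        ext
        simp only [Subgroup.coe_mul, hu, hv]
        exact d.e_comm p r p' r'⟩⟩ hX
    · obtain ⟨g, hg, hgA⟩ := SetLike.not_le_iff_exists.mp hA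
      obtain ⟨p, r, rfl | rfl⟩ := d.normal_form g
      · exact absurd ⟨p, r, rfl⟩ hgA
      · exact d.mem_center_e.mpr (d.commute_ez.mp (hcomm _ hg).symm)
  · exfalso
    apply hX
    have key : ∀ g ∈ X, g ∈ center S ∨ ∃ k ∈ center S, g = k * (d.e a b * d.z) := fun g hg => by
      obtain ⟨p, r, rfl | rfl⟩ := d.normal_form g
      · exact Or.inl (d.mem_center_e.mpr (d.commute_ez.mp (hcomm _ hg)))
      · refine Or.inr ⟨d.e (p - a) (r - b), d.mem_center_e.mpr ((d.commute_ez (a := a) (b := b)).mp ?_), ?_⟩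
        · have h1 := (hcomm _ hg).mul_left (Commute.refl (d.e a b * d.z)).inv_left
          rw [d.ez_inv, d.ez_ez, ← sub_eq_add_neg, ← sub_eq_add_neg] at h1
          exact h1
        · rw [d.e_ez, sub_add_cancel, sub_add_cancel]
    refine ⟨⟨fun u v => Subtype.ext ?_⟩⟩
    show (u : S) * v = v * u
    rcases key u u.2 with h | ⟨k, hk, e1⟩
    · exact (mem_center_iff.mp h v).symm
    rcases key v v.2 with h | ⟨k', hk', e2⟩
    · exact mem_center_iff.mp h u
    rw [e1, e2]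
    have c1 := mem_center_iff.mp hk
    have c2 := mem_center_iff.mp hk'
    calc k * (d.e a b * d.z) * (k' * (d.e a b * d.z))
        = k * ((d.e a b * d.z) * k') * (d.e a b * d.z) := by group
      _ = k * (k' * (d.e a b * d.z)) * (d.e a b * d.z) := by rw [c2]
      _ = (k * k') * (d.e a b * d.z) * (d.e a b * d.z) := by group
      _ = (k' * k) * (d.e a b * d.z) * (d.e a b * d.z) := by rw [c2 k]
      _ = k' * (k * (d.e a b * d.z)) * (d.e a b * d.z) := by group
      _ = k' * ((d.e a b * d.z) * k) * (d.e a b * d.z) := by rw [← c1]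
      _ = k' * (d.e a b * d.z) * (k * (d.e a b * d.z)) := by group

/-- The subgroup generated by the involutions. -/
def Om : Subgroup S where
  carrier := {s | ∃ a b, H n ∣ a + b ∧ (s = d.e a b ∨ s = d.e a b * d.z)}
  mul_mem' := by
    rintro _ _ ⟨a, b, h1, rfl | rfl⟩ ⟨c, c', h2, rfl | rfl⟩
    · exact ⟨_, _, by simpa [add_add_add_comm] using dvd_add h1 h2, Or.inl (d.e_mul a b c c')⟩
    · exact ⟨_, _, by simpa [add_add_add_comm] using dvd_add h1 h2, Or.inr (d.e_ez a b c c')⟩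
    · exact ⟨_, _, (show a + b + (c + c') = a + c' + (b + c) by ring) ▸ dvd_add h1 h2,
        Or.inr (d.ez_e a b c c')⟩
    · exact ⟨_, _, (show a + b + (c + c') = a + c' + (b + c) by ring) ▸ dvd_add h1 h2,
        Or.inl (d.ez_ez a b c c')⟩
  one_mem' := ⟨0, 0, by simp, Or.inl d.e_zero.symm⟩
  inv_mem' := by
    rintro _ ⟨a, b, h, rfl | rfl⟩
    · exact ⟨_, _, by rw [← neg_add, dvd_neg]; exact h, Or.inl (d.e_inv a b)⟩
    · exact ⟨_, _, by rw [← neg_add, dvd_neg, add_comm]; exact h, Or.inr (d.ez_inv a b)⟩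

theorem closure_involutions : closure {s : S | orderOf s = 2} = d.Om := by
  refine le_antisymm ((closure_le _).mpr fun t ht => ?_) ?_
  · rcases d.involution_cases ht with rfl | rfl | rfl | ⟨a, rfl⟩
    · exact ⟨_, _, by simp, Or.inl rfl⟩
    · exact ⟨_, _, by simp, Or.inl rfl⟩
    · exact ⟨_, _, dvd_add dvd_rfl dvd_rfl, Or.inl rfl⟩
    · exact ⟨_, _, by simp, Or.inr rfl⟩
  · have hz : d.z ∈ closure {s : S | orderOf s = 2} := Subgroup.subset_closure d.hz
    have hk : ∀ a, d.e a (-a) ∈ closure {s : S | orderOf s = 2} := fun a => by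
      have := mul_mem (Subgroup.subset_closure (d.orderOf_ez a) : _ ∈ closure {s : S | orderOf s = 2}) hz
      rwa [mul_assoc, d.zz, mul_one] at this
    rintro _ ⟨a, b, ⟨t, ht⟩, h⟩
    have he : d.e a b ∈ closure {s : S | orderOf s = 2} := by
      have h1 : d.e (H n) 0 ^ t * d.e (a - H n * t) (-(a - H n * t)) = d.e a b := by
        rw [d.e_zpow, d.e_mul]; congr 1 <;> linarith
      rw [← h1]
      exact mul_mem (zpow_mem
        (Subgroup.subset_closure d.orderOf_H0 : _ ∈ closure {s : S | orderOf s = 2}) t) (hk _)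
    rcases h with rfl | rfl
    exacts [he, mul_mem he hz]

theorem omega_one : Nat.card (closure {x : S | orderOf x = 2}) = 2 ^ (n + 2) ∧
    ∃ s : S, closure {x : S | orderOf x = 2} ⊔ zpowers s = ⊤ := by
  rw [d.closure_involutions]
  have hz : d.z ∈ d.Om := ⟨0, 0, by simp, Or.inr (by rw [d.e_zero, one_mul])⟩
  haveI : d.Om.Normal := by
    refine ⟨fun g hg s => ?_⟩
    obtain ⟨a, b, h, rfl | rfl⟩ := hg <;> obtain ⟨c, c', rfl | rfl⟩ := d.normal_form s
    · rw [d.conj_e_e]; exact ⟨a, b, h, Or.inl rfl⟩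
    · rw [d.conj_ez_e]; exact ⟨b, a, by rwa [add_comm], Or.inl rfl⟩
    · rw [d.conj_e_ez]; exact ⟨_, _, by rw [show a + c - c' + (b + c' - c) = a + b by ring]; exact h, Or.inr rfl⟩
    · rw [d.ez_ez, d.ez_inv, d.e_ez]
      exact ⟨_, _, by (convert h using 1; ring), Or.inr rfl⟩
  have htop : d.Om ⊔ zpowers d.x = ⊤ := by
    refine eq_top_iff.mpr fun s _ => ?_
    have hx : d.x ∈ d.Om ⊔ zpowers d.x := mem_sup_right (mem_zpowers _)
    have hz' : d.z ∈ d.Om ⊔ zpowers d.x := mem_sup_left hz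
    have hy : d.y ∈ d.Om ⊔ zpowers d.x := d.conj ▸ mul_mem (mul_mem hz' hx) (inv_mem hz')
    obtain ⟨a, b, rfl | rfl⟩ := d.normal_form s
    · exact mul_mem (zpow_mem hx a) (zpow_mem hy b)
    · exact mul_mem (mul_mem (zpow_mem hx a) (zpow_mem hy b)) hz'
  refine ⟨?_, d.x, htop⟩
  have hind : d.Om.index = 2 ^ (n - 1) := by
    let m : S →* S ⧸ d.Om := QuotientGroup.mk' _
    have hgen : zpowers (m d.x) = ⊤ := by
      rw [← MonoidHom.map_zpowers, ← map_top_of_surjective m (QuotientGroup.mk'_surjective _), ← htop,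
        Subgroup.map_sup, show d.Om.map m = ⊥ from (Subgroup.map_eq_bot_iff _).mpr (QuotientGroup.ker_mk' _).ge,
        bot_sup_eq]
    have hx : ∀ k : ℤ, m d.x ^ k = 1 ↔ H n ∣ k := fun k => by
      rw [← map_zpow, ← d.e_x]
      refine (QuotientGroup.eq_one_iff _).trans ⟨?_, fun h => ⟨k, 0, by simpa using h, Or.inl rfl⟩⟩
      rintro ⟨a, b, hab, e | e⟩
      · obtain ⟨e1, e2⟩ := d.e_eq.mp e
        rw [d.pow_facts.1] at e1 e2
        have e1' : H n ∣ k - a := (dvd_mul_left _ _).trans e1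
        have e2' : H n ∣ 0 - b := (dvd_mul_left _ _).trans e2
        have := dvd_add (dvd_add e1' e2') hab
        rwa [show k - a + (0 - b) + (a + b) = k by ring] at this
      · exact absurd e (d.e_ne_ez _ _ _ _)
    rw [Subgroup.index, ← Subgroup.card_top (G := S ⧸ d.Om), ← hgen, Nat.card_zpowers]
    refine Nat.dvd_antisymm ?_ ?_
    · rw [orderOf_dvd_iff_pow_eq_one, ← zpow_natCast, hx, H]; push_cast; exact dvd_rfl
    · have := (hx (orderOf (m d.x) : ℤ)).mp (by rw [zpow_natCast, pow_orderOf_eq_one])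
      rw [H] at this
      exact_mod_cast this
  have h := card_mul_index d.Om
  rw [hind, d.card, show 2 * n + 1 = (n + 2) + (n - 1) by have := d.two_le; omega, pow_add] at h
  exact Nat.eq_of_mul_eq_mul_right (by positivity) h

/-- The generalized quaternion subgroup. -/
def Y : Subgroup S := closure {d.e 1 (-1), d.e (H n) 0 * d.z}

theorem Y_equiv : Nonempty (↥d.Y ≃* QuaternionGroup (2 ^ (n - 1))) := by
  have hpow := d.pow_facts
  refine equiv_quaternion ?_ ?_ ?_ ?_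
  · rw [d.orderOf_commutator_gen, ← pow_succ', Nat.sub_add_cancel (by have := d.two_le; omega)]
  · rw [d.ez_ez, ← zpow_natCast, d.e_zpow, d.e_eq, H]
    push_cast
    exact ⟨by simp, ⟨1, by rw [show N n = 2 * (2 : ℤ) ^ (n - 1) from hpow.1]; ring⟩⟩
  · rw [d.conj_ez_e, d.e_inv, neg_neg]
  · intro h
    exact d.ez_notMem _ _ ((zpowers_le.mpr (d.mem_A.mpr ⟨_, _, rfl⟩)) h)

theorem card_Y : Nat.card d.Y = 2 ^ (n + 1) := by
  obtain ⟨f⟩ := d.Y_equiv
  rw [Nat.card_congr f.toEquiv, card_quaternion (by positivity),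
    show n + 1 = 2 + (n - 1) by have := d.two_le; omega, pow_add]
  norm_num

theorem mem_Y_A {a b : ℤ} (h : N n ∣ a + b) : d.e a b ∈ d.Y := by
  have : d.e a b = d.e 1 (-1) ^ a := by
    rw [d.e_zpow, mul_one, mul_neg_one, d.e_eq, sub_self, sub_neg_eq_add, add_comm]
    exact ⟨dvd_zero _, h⟩
  exact this ▸ zpow_mem (mem_closure_left _ _) a

theorem mem_Y_out {a b : ℤ} (h : N n ∣ a + b - H n) : d.e a b * d.z ∈ d.Y := by
  have : d.e a b * d.z = d.e (a - H n) b * (d.e (H n) 0 * d.z) := by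
    rw [d.e_ez, sub_add_cancel, add_zero]
  rw [this]
  exact mul_mem (d.mem_Y_A (by convert h using 1; ring)) (mem_closure_right _ _)

/-- An element of order `2^n` in `A` inverted by `r`, with `r² = p^(2^(n-1))`, lies in `Y`. -/
theorem pair_mem_Y {p r : S} (hp : p ∈ d.A) (ho : orderOf p = 2 ^ n)
    (hinv : r * p * r⁻¹ = p⁻¹) (hsq : r * r = p ^ H n) : p ∈ d.Y ∧ r ∈ d.Y := by
  obtain ⟨a, b, rfl⟩ := hp
  obtain ⟨hN, hQ, hQpos⟩ := d.pow_facts
  obtain ⟨c, c', rfl | rfl⟩ := d.normal_form r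
  · exfalso
    rw [d.conj_e_e, d.e_inv, d.e_eq, sub_neg_eq_add, sub_neg_eq_add] at hinv
    have h2 : d.e a b ^ (2 : ℤ) = 1 := by
      rw [d.e_zpow, d.e_eq_one, two_mul, two_mul]; exact hinv
    have h3 := orderOf_dvd_of_pow_eq_one (show d.e a b ^ 2 = 1 by exact_mod_cast h2)
    rw [ho] at h3
    have h4 := Nat.le_of_dvd two_pos h3
    have h5 := Nat.pow_le_pow_right two_pos d.two_le
    omega
  · rw [d.conj_ez_e, d.e_inv, d.e_eq, sub_neg_eq_add, sub_neg_eq_add] at hinv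
    rw [d.ez_ez, d.e_zpow, d.e_eq] at hsq
    refine ⟨d.mem_Y_A (by rw [add_comm]; exact hinv.1), d.mem_Y_out ?_⟩
    rcases Int.even_or_odd' a with ⟨s, rfl | rfl⟩
    · -- then `p` has order dividing `H`
      exfalso
      have hb : N n ∣ H n * b := by
        obtain ⟨t, ht⟩ := hinv.1
        exact ⟨H n * t - s, by rw [hN] at ht ⊢; linear_combination (H n) * ht⟩
      have h2 : d.e (2 * s) b ^ H n = 1 := by
        rw [d.e_zpow, d.e_eq_one]
        exact ⟨⟨s, by rw [hN]; ring⟩, hb⟩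
      have h3 : orderOf (d.e (2 * s) b) ∣ 2 ^ (n - 1) := by
        refine orderOf_dvd_of_pow_eq_one ?_
        rw [← zpow_natCast]; rw [H] at h2; exact_mod_cast h2
      rw [ho] at h3
      have h4 := (Nat.pow_dvd_pow_iff_le_right one_lt_two).mp h3
      have := d.two_le
      omega
    · obtain ⟨t, ht⟩ := hsq.1
      exact ⟨t + s, by rw [hN] at ht ⊢; linarith⟩

theorem quaternion_le {Y' : Subgroup S} (h : Nonempty (Y' ≃* QuaternionGroup (2 ^ (n - 1)))) :
    Y' ≤ d.Y := by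
  obtain ⟨f⟩ := h
  have hn1 : 2 * 2 ^ (n - 1) = 2 ^ n := by
    rw [← pow_succ', Nat.sub_add_cancel (by have := d.two_le; omega)]
  set m := 2 ^ (n - 1) with hm
  haveI : NeZero m := ⟨by positivity⟩
  let g : QuaternionGroup m →* S := Y'.subtype.comp f.symm.toMonoidHom
  have ginj : Function.Injective g := (subtype_injective Y').comp f.symm.injective
  set P := g (QuaternionGroup.a 1) with hP
  set R := g (QuaternionGroup.xa 0) with hR
  have hgen : ∀ s ∈ Y', ∃ i : ℕ, s = P ^ i ∨ s = R * P ^ i := by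
    intro s hs
    obtain ⟨q, hq⟩ : ∃ q, g q = s := ⟨f ⟨s, hs⟩, by simp [g]⟩
    rcases q with i | i
    · exact ⟨i.val, Or.inl (by rw [← hq, hP, ← map_pow, QuaternionGroup.a_one_pow, ZMod.natCast_zmod_val])⟩
    · exact ⟨i.val, Or.inr (by
        rw [← hq, hP, hR, ← map_pow, ← map_mul, QuaternionGroup.a_one_pow, ZMod.natCast_zmod_val,
          QuaternionGroup.xa_mul_a, zero_add])⟩
  have hoP : orderOf P = 2 ^ n := by
    rw [hP, orderOf_injective g ginj, QuaternionGroup.orderOf_a_one, hn1]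
  have hoR : orderOf R = 4 := by
    rw [hR, orderOf_injective g ginj, QuaternionGroup.orderOf_xa]
  have hinv : R * P * R⁻¹ = P⁻¹ := by
    rw [mul_inv_eq_iff_eq_mul, hP, hR, ← map_inv, ← map_mul, ← map_mul]
    congr 1
    show QuaternionGroup.xa _ = QuaternionGroup.xa _
    congr 1
    ring
  have hsq : R * R = P ^ H n := by
    rw [show H n = ((m : ℕ) : ℤ) by simp [H, hm], zpow_natCast, hP, hR, ← map_pow, ← map_mul,
      QuaternionGroup.a_one_pow, QuaternionGroup.xa_mul_xa]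
    congr 2
    ring
  suffices h : P ∈ d.Y ∧ R ∈ d.Y by
    intro s hs
    obtain ⟨i, rfl | rfl⟩ := hgen s hs
    exacts [pow_mem h.1 i, mul_mem h.2 (pow_mem h.1 i)]
  by_cases hA : P ∈ d.A
  · exact d.pair_mem_Y hA hoP hinv hsq
  -- otherwise `n = 2`
  obtain ⟨a, b, hPab | hPab⟩ := d.normal_form P
  · exact absurd ⟨a, b, hPab⟩ hA
  have hPP : P * P ∈ center S := by
    rw [hPab, d.ez_ez, d.mem_center_e]
    simp [add_comm]
  have hn : n = 2 := by
    have h4 : P ^ 4 = 1 := by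
      have e1 : R * (P * P) * R⁻¹ = P * P := by
        rw [mem_center_iff.mp hPP R, mul_inv_cancel_right]
      rw [← conj_mul, hinv, ← mul_inv_rev] at e1
      rw [show 4 = 2 * 2 by norm_num, pow_mul, pow_two P, pow_two]
      nth_rewrite 1 [← e1]
      exact inv_mul_cancel _
    have h5 := orderOf_dvd_of_pow_eq_one h4
    rw [hoP, show 4 = 2 ^ 2 by norm_num] at h5
    have := (Nat.pow_dvd_pow_iff_le_right one_lt_two).mp h5
    have := d.two_le
    omega
  have h4n : (4 : ℕ) = 2 ^ n := by rw [hn]; norm_num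
  have hH2 : H n = 2 := by rw [hn]; rfl
  have hP4 : P ^ (4 : ℕ) = 1 := by rw [h4n, ← hoP, pow_orderOf_eq_one]
  have hsq2 : R * R = P * P := by rw [hsq, hH2, zpow_two]
  by_cases hRA : R ∈ d.A
  · have hRP : R * P = P⁻¹ * R := mul_inv_eq_iff_eq_mul.mp hinv
    have hinv' : P * R * P⁻¹ = R⁻¹ :=
      calc P * R * P⁻¹ = P * (R * P) * (P * P)⁻¹ := by group
        _ = R * (R * R)⁻¹ := by rw [hRP, hsq2]; group
        _ = R⁻¹ := by group
    obtain ⟨h1, h2⟩ := d.pair_mem_Y (r := P) hRA (hoR.trans h4n) hinv'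
      (by rw [hH2, zpow_two, hsq2])
    exact ⟨h2, h1⟩
  · have hPR : P * R ∈ d.A := (mul_mem_iff_of_index_two d.index_A).mpr (iff_of_false hA hRA)
    have hRP : R * P = P⁻¹ * R := mul_inv_eq_iff_eq_mul.mp hinv
    have hPR2 : (P * R) * (P * R) = R * R :=
      calc (P * R) * (P * R) = P * (R * P) * R := by group
        _ = R * R := by rw [hRP]; group
    have ho : orderOf (P * R) = 2 ^ n := by
      rw [← h4n]
      haveI : Fact (Nat.Prime 2) := ⟨Nat.prime_two⟩
      refine orderOf_eq_prime_pow (p := 2) (n := 1) ?_ ?_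
      · rw [pow_one, pow_two, hPR2, ← pow_two]
        intro h
        have := orderOf_dvd_of_pow_eq_one h
        rw [hoR] at this
        omega
      · rw [show (2 : ℕ) ^ (1 + 1) = 2 * 2 by norm_num, pow_mul, pow_two (P * R), hPR2, ← pow_two,
          ← pow_mul, show 2 * 2 = orderOf R from hoR.symm, pow_orderOf_eq_one]
    have hinv' : P * (P * R) * P⁻¹ = (P * R)⁻¹ := by
      rw [eq_inv_iff_mul_eq_one]
      calc P * (P * R) * P⁻¹ * (P * R) = (P * P) * (R * R) := by group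
        _ = 1 := by rw [hsq2, ← mul_assoc, ← hP4]; simp only [pow_succ, pow_zero, one_mul]
    obtain ⟨h1, h2⟩ := d.pair_mem_Y (r := P) hPR ho hinv' (by rw [hH2, zpow_two, hPR2, hsq2])
    exact ⟨h2, by simpa using mul_mem (inv_mem h2) h1⟩

theorem Y_unique {Y' : Subgroup S} (hc : Nat.card Y' = 2 ^ (n + 1))
    (h : Nonempty (Y' ≃* QuaternionGroup (2 ^ (n - 1)))) : Y' = d.Y :=
  eq_of_le_of_card_ge (d.quaternion_le h) (by rw [hc, d.card_Y])

theorem Y_normal : d.Y.Normal := by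
  refine ⟨fun g hg s => ?_⟩
  have h := d.quaternion_le (Y' := d.Y.map (MulAut.conj s).toMonoidHom) (by
    obtain ⟨f⟩ := d.Y_equiv
    exact ⟨(equivMapOfInjective d.Y (MulAut.conj s).toMonoidHom (MulAut.conj s).injective).symm.trans f⟩)
  exact h ⟨g, hg, by simp⟩

end W

end Cfsg.Lib.TwoGroup
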