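import Cfsg.Agent.Lib.TwoGroup.Wreathed
import Cfsg.Agent.Lib.Fusion.Basic

/-!
If the involution of the centre of a wreathed Sylow 2-subgroup is central, so is the whole
centre of that Sylow subgroup.
-/

set_option autoImplicit false
set_option linter.style.haveILetI false

namespace Cfsg.Lib.TwoGroup

open Subgroup

variable {X : Type*} [Group X] [Finite X]

theorem odd_commute_of_sq {q a : X} (hq : Odd (orderOf q)) (h : Commute (q * q) a) : Commute q a := by
  obtain ⟨m, hm⟩ := exists_pow_eq_self_of_coprime (n := 2) (x := q) hq.coprime_two_left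
  rw [← hm, pow_two]
  exact h.pow_left m

/-- An element of odd order fixing the involutions of an abelian 2-group it normalizes centralizes
the group. -/
theorem odd_centralizes {D : Subgroup X} (hD : IsMulCommutative D) (h2 : IsPGroup 2 D) {z i q : X}
    (hinv : ∀ x ∈ D, x * x = 1 → x = 1 ∨ x = z ∨ x = i ∨ x = i * z) (hi : i * i = 1) (hiD : i ∈ D)
    (hqz : Commute q z) (hq : Odd (orderOf q)) (hqD : ∀ x ∈ D, q * x * q⁻¹ ∈ D) {x : X}
    (hx : x ∈ D) : Commute q x := by
  have hfix : ∀ y ∈ D, y * y = 1 → Commute q y := by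
    have hi' : Commute q i := by
      rcases hinv _ (hqD i hiD) (by rw [conj_mul, hi, mul_one, mul_inv_cancel]) with h | h | h | h
      · rw [mul_inv_eq_one, mul_eq_left] at h
        rw [h]
        exact Commute.one_right q
      · rw [mul_inv_eq_iff_eq_mul, ← hqz.eq, mul_left_cancel_iff] at h
        rw [h]
        exact hqz
      · exact mul_inv_eq_iff_eq_mul.mp h
      · refine odd_commute_of_sq hq (mul_inv_eq_iff_eq_mul.mp ?_)
        have hzz : z * z = 1 := by
          have h1 : q * i * q⁻¹ * (q * i * q⁻¹) = 1 := by rw [conj_mul, hi, mul_one, mul_inv_cancel]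
          have h2 : Commute z i := by
            have hzD : z ∈ D := by
              have := mul_mem (inv_mem hiD) (h ▸ hqD i hiD)
              rwa [inv_mul_cancel_left] at this
            exact congrArg Subtype.val (hD.is_comm.comm ⟨z, hzD⟩ ⟨i, hiD⟩)
          rw [h, mul_assoc, ← mul_assoc z i, h2.eq, mul_assoc i z z, ← mul_assoc i i, hi, one_mul] at h1
          exact h1
        calc q * q * i * (q * q)⁻¹ = q * (q * i * q⁻¹) * q⁻¹ := by group
          _ = (q * i * q⁻¹) * (q * z * q⁻¹) := by conv_lhs => rw [h]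
                                                  group
          _ = i := by rw [h, hqz.eq, mul_inv_cancel_right, mul_assoc, hzz, mul_one]
    intro y hy hyy
    rcases hinv y hy hyy with rfl | rfl | rfl | rfl
    exacts [Commute.one_right q, hqz, hi', hi'.mul_right hqz]
  obtain ⟨k, hk⟩ := h2 ⟨x, hx⟩
  replace hk : x ^ 2 ^ k = 1 := congrArg Subtype.val hk
  induction k generalizing x with
  | zero => rw [pow_zero, pow_one] at hk; rw [hk]; exact Commute.one_right q
  | succ k ih =>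
    have h1 : Commute q (x * x) := by
      refine ih (mul_mem hx hx) ?_
      rw [← pow_two, ← pow_mul, ← pow_succ']
      exact hk
    set δ := q * x * q⁻¹ * x⁻¹ with hδ
    have hδD : δ ∈ D := mul_mem (hqD x hx) (inv_mem hx)
    have hc : Commute (q * x * q⁻¹) x⁻¹ :=
      congrArg Subtype.val (hD.is_comm.comm ⟨_, hqD x hx⟩ ⟨_, inv_mem hx⟩)
    have hδ2 : δ * δ = 1 := by
      calc δ * δ = q * x * q⁻¹ * (x⁻¹ * (q * x * q⁻¹)) * x⁻¹ := by rw [hδ]; group
        _ = q * x * q⁻¹ * (q * x * q⁻¹ * x⁻¹) * x⁻¹ := by rw [hc.eq]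
        _ = q * (x * x) * q⁻¹ * (x * x)⁻¹ := by group
        _ = 1 := by rw [h1.eq, mul_inv_cancel_right, mul_inv_cancel]
    have hqδ := hfix δ hδD hδ2
    have e : q * x * q⁻¹ = δ * x := by rw [hδ, inv_mul_cancel_right]
    refine odd_commute_of_sq hq (mul_inv_eq_iff_eq_mul.mp ?_)
    calc q * q * x * (q * q)⁻¹ = q * (q * x * q⁻¹) * q⁻¹ := by group
      _ = (q * δ * q⁻¹) * (q * x * q⁻¹) := by conv_lhs => rw [e]
                                              group
      _ = x := by rw [hqδ.eq, mul_inv_cancel_right, e, ← mul_assoc, hδ2, one_mul]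

namespace W

variable {S : Sylow 2 X} {n : ℕ} (d : W ↥(S : Subgroup X) n)

theorem commute_center_gen (s : ↥(S : Subgroup X)) : Commute ((d.e 1 1 : ↥(S : Subgroup X)) : X) s :=
  congrArg Subtype.val (mem_center_iff.mp (d.center_eq ▸ mem_zpowers _) s).symm

/-- The abelian subgroup of index two, seen in the group. -/
def AX : Subgroup X := d.A.map (S : Subgroup X).subtype

theorem sylow_le_normalizer_AX : (S : Subgroup X) ≤ normalizer (d.AX : Set X) := by
  intro s hs
  haveI := normal_of_index_eq_two d.index_A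
  refine le_normalizer_map _ ⟨⟨s, hs⟩, ?_, rfl⟩
  rw [normalizer_eq_top d.A]
  trivial

theorem normalizer_AX_commute (hz : ((d.e (H n) (H n) : ↥(S : Subgroup X)) : X) ∈ center X) {x : X}
    (hx : x ∈ normalizer (d.AX : Set X)) : Commute x ((d.e 1 1 : ↥(S : Subgroup X)) : X) := by
  haveI : Fact (Nat.Prime 2) := ⟨Nat.prime_two⟩
  set N := normalizer (d.AX : Set X) with hN
  obtain ⟨t, ht, m, hm, he⟩ :=
    Cfsg.Lib.Fusion.exists_mul_of_sylow (S.subtype d.sylow_le_normalizer_AX) (⟨x, hx⟩ : N)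
  have ht' : (t : X) ∈ (S : Subgroup X) := by simpa [Subgroup.mem_subgroupOf] using ht
  rw [show x = (t : X) * (m : X) from congrArg Subtype.val he]
  refine (d.commute_center_gen ⟨t, ht'⟩).symm.mul_left ?_
  suffices pResidual 2 N ≤ (centralizer ({((d.e 1 1 : ↥(S : Subgroup X)) : X)} : Set X)).subgroupOf N from
    (mem_centralizer_singleton_iff.mp (mem_subgroupOf.mp (this hm)))
  refine (closure_le _).mpr fun q hq => mem_subgroupOf.mpr (mem_centralizer_singleton_iff.mpr ?_)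
  have hq' : Odd (orderOf (q : X)) := by
    rw [Subgroup.orderOf_coe]
    exact Nat.coprime_two_right.1 hq
  have hAc : IsMulCommutative d.AX := by
    haveI := d.A_comm
    exact Subgroup.map_isMulCommutative _ _
  refine (odd_centralizes (D := d.AX) hAc ((S.isPGroup'.to_subgroup d.A).map _)
    (z := ((d.e (H n) (H n) : ↥(S : Subgroup X)) : X)) (i := ((d.e (H n) 0 : ↥(S : Subgroup X)) : X))
    ?_ ?_ ⟨_, d.mem_A.mpr ⟨_, _, rfl⟩, rfl⟩ (mem_center_iff.mp hz q) hq'
    (fun y hy => (mem_normalizer_iff.mp q.2 y).mp hy) ⟨_, d.mem_A.mpr ⟨1, 1, rfl⟩, rfl⟩).eq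
  · rintro _ ⟨y, hy, rfl⟩ hyy
    by_cases h1 : y = 1
    · exact Or.inl (by rw [h1, map_one])
    have hy2 : y * y = 1 := (S : Subgroup X).subtype_injective (by rw [map_mul, map_one]; exact hyy)
    rcases d.involution_cases (Cfsg.Lib.Invol.orderOf_eq_two_of h1 hy2) with h | h | h | ⟨a, h⟩
    · exact Or.inr (Or.inr (Or.inl (by rw [h]; rfl)))
    · refine Or.inr (Or.inr (Or.inr ?_))
      rw [h, ← Subgroup.coe_mul, d.e_mul]
      refine congrArg Subtype.val (d.e_eq.mpr ⟨?_, by simp⟩)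
      exact ⟨-1, by rw [d.pow_facts.1]; ring⟩
    · exact Or.inr (Or.inl (by rw [h]; rfl))
    · exact absurd (h ▸ hy) (d.ez_notMem _ _)
  · rw [← Subgroup.coe_mul, Cfsg.Lib.Invol.inv_mul_self d.orderOf_H0]
    rfl

/-- A conjugate in `A` of a power of the central generator equals it. -/
theorem conj_eq_of_mem_AX (hz : ((d.e (H n) (H n) : ↥(S : Subgroup X)) : X) ∈ center X) {k : ℤ}
    {g : X} (h : g * ((d.e 1 1 : ↥(S : Subgroup X)) : X) ^ k * g⁻¹ ∈ d.AX) :
    g * ((d.e 1 1 : ↥(S : Subgroup X)) : X) ^ k * g⁻¹ = ((d.e 1 1 : ↥(S : Subgroup X)) : X) ^ k := by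
  haveI : Fact (Nat.Prime 2) := ⟨Nat.prime_two⟩
  set u := ((d.e 1 1 : ↥(S : Subgroup X)) : X) ^ k with hu
  set s := g * u * g⁻¹ with hs
  set C := centralizer ({s} : Set X) with hC
  have hgS : ((g • S : Sylow 2 X) : Subgroup X) ≤ C := by
    rintro _ ⟨a, ha, rfl⟩
    refine mem_centralizer_singleton_iff.mpr ?_
    show (g * a * g⁻¹) * s = s * (g * a * g⁻¹)
    rw [hs, conj_mul, conj_mul, ((d.commute_center_gen ⟨a, ha⟩).zpow_left k).eq]
  have hAc : IsMulCommutative d.AX := by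
    haveI := d.A_comm
    exact Subgroup.map_isMulCommutative _ _
  have hAC : d.AX ≤ C := fun a ha => mem_centralizer_singleton_iff.mpr
    (congrArg Subtype.val (hAc.is_comm.comm ⟨a, ha⟩ ⟨s, h⟩))
  obtain ⟨T, hT⟩ := ((S.isPGroup'.to_subgroup d.A).map (S : Subgroup X).subtype : IsPGroup 2 d.AX)
    |>.comap_subtype (K := C) |>.exists_le_sylow
  obtain ⟨k', hk'⟩ := MulAction.exists_smul_eq C ((g • S).subtype hgS) T
  rw [Sylow.smul_subtype] at hk'
  set h' := (k' : X) * g with hh'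
  have hle : d.AX ≤ ((h' • S : Sylow 2 X) : Subgroup X) := fun a ha => by
    have := hT (show (⟨a, hAC ha⟩ : C) ∈ d.AX.comap C.subtype from ha)
    rw [← hk'] at this
    rw [hh', mul_smul]
    exact this
  -- the abelian subgroup of the conjugate Sylow subgroup
  set U : Subgroup ↥(S : Subgroup X) :=
    (d.AX.map (MulAut.conj h'⁻¹).toMonoidHom).comap (S : Subgroup X).subtype with hU
  have hUS : d.AX.map (MulAut.conj h'⁻¹).toMonoidHom ≤ (S : Subgroup X) := by
    rintro _ ⟨a, ha, rfl⟩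
    obtain ⟨b, hb, rfl⟩ := hle ha
    show h'⁻¹ * (h' * b * h'⁻¹) * h'⁻¹⁻¹ ∈ (S : Subgroup X)
    rwa [show h'⁻¹ * (h' * b * h'⁻¹) * h'⁻¹⁻¹ = b by group]
  have hUA : U = d.A := by
    have hmap : U.map (S : Subgroup X).subtype = d.AX.map (MulAut.conj h'⁻¹).toMonoidHom :=
      map_comap_eq_self (by rw [range_subtype]; exact hUS)
    refine d.abelian_unique ?_ ?_
    · haveI := hAc
      haveI : IsMulCommutative (d.AX.map (MulAut.conj h'⁻¹).toMonoidHom) :=
        Subgroup.map_isMulCommutative _ _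
      exact Subgroup.comap_injective_isMulCommutative _ (S : Subgroup X).subtype_injective
    · rw [← card_map_of_injective (S : Subgroup X).subtype_injective, hmap,
        card_map_of_injective (f := (MulAut.conj h'⁻¹).toMonoidHom) (MulAut.conj h'⁻¹).injective, AX,
        card_map_of_injective (S : Subgroup X).subtype_injective, d.card_A]
  have hN : h'⁻¹ ∈ normalizer (d.AX : Set X) := by
    refine mem_normalizer_iff_map_conj_eq.mpr ?_
    have hmap : U.map (S : Subgroup X).subtype = d.AX.map (MulAut.conj h'⁻¹).toMonoidHom :=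
      map_comap_eq_self (by rw [range_subtype]; exact hUS)
    rw [hUA] at hmap
    exact hmap.symm
  have hc := (d.normalizer_AX_commute hz (inv_mem_iff.mp hN)).zpow_right k
  rw [← hu] at hc
  have hks : (k' : X) * s = s * k' := mem_centralizer_singleton_iff.mp k'.2
  calc s = (k' : X) * s * (k' : X)⁻¹ := by rw [hks, mul_inv_cancel_right]
    _ = h' * u * h'⁻¹ := by rw [hs, hh']; group
    _ = u := by rw [hc.eq, mul_inv_cancel_right]

include d in
/-- In a 2-subgroup of the normalizer of a subgroup `D` of `S` containing an element outside `A`, all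
noncentralizing elements agree modulo the centralizer. -/
theorem normalizer_index {D : Subgroup ↥(S : Subgroup X)} (hD : IsMulCommutative D)
    (hc : Nat.card D = 2 ^ (n + 1)) {t t' : ↥(S : Subgroup X)}
    (ht : t ∈ normalizer (D : Set ↥(S : Subgroup X))) (ht' : t' ∈ normalizer (D : Set ↥(S : Subgroup X)))
    (hn : t ∉ centralizer (D : Set ↥(S : Subgroup X))) (hn' : t' ∉ centralizer (D : Set ↥(S : Subgroup X))) :
    t⁻¹ * t' ∈ centralizer (D : Set ↥(S : Subgroup X)) := by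
  have hDD : D ≤ centralizer (D : Set ↥(S : Subgroup X)) := le_centralizer D
  by_cases hDA : D ≤ d.A
  · have hA : d.A ≤ centralizer (D : Set ↥(S : Subgroup X)) := fun a ha =>
      mem_centralizer_iff.mpr fun b hb => congrArg Subtype.val (d.A_comm.is_comm.comm ⟨b, hDA hb⟩ ⟨a, ha⟩)
    refine hA ((mul_mem_iff_of_index_two d.index_A).mpr ?_)
    rw [inv_mem_iff]
    exact iff_of_false (fun h => hn (hA h)) (fun h => hn' (hA h))
  obtain ⟨u, hu, huA⟩ := SetLike.not_le_iff_exists.mp hDA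
  obtain ⟨a, b, rfl | rfl⟩ := d.normal_form u
  · exact absurd (d.mem_A.mpr ⟨a, b, rfl⟩) huA
  -- the elements of `D`
  set B : Subgroup ↥(S : Subgroup X) := centralizer ({d.e a b * d.z} : Set ↥(S : Subgroup X)) with hB
  have hDB : D ≤ B := fun g hg => mem_centralizer_singleton_iff.mpr
    (congrArg Subtype.val (hD.is_comm.comm ⟨g, hg⟩ ⟨_, hu⟩))
  have hBA : B ⊓ d.A ≤ center ↥(S : Subgroup X) := by
    rintro g ⟨hg, p, r, rfl⟩
    exact d.mem_center_e.mpr (d.commute_ez.mp (mem_centralizer_singleton_iff.mp hg))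
  have hZ : center ↥(S : Subgroup X) ≤ D := by
    have hrel : (B ⊓ d.A).relIndex B ≤ 2 := by
      rw [inf_relIndex_left]
      haveI := normal_of_index_eq_two d.index_A
      exact (Nat.le_of_dvd (by rw [d.index_A]; norm_num) (relIndex_dvd_index_of_normal d.A B)).trans_eq d.index_A
    have h3 := relIndex_mul_relIndex ⊥ (B ⊓ d.A) B bot_le inf_le_left
    rw [relIndex_bot_left, relIndex_bot_left, mul_comm] at h3
    have hBD : Nat.card B ≤ Nat.card D := by
      rw [← h3, hc, pow_succ', ← d.card_center]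
      exact Nat.mul_le_mul hrel (card_le_of_le hBA)
    rw [eq_of_le_of_card_ge hDB hBD]
    exact fun g hg => mem_centralizer_singleton_iff.mpr (mem_center_iff.mp hg _).symm
  have hcent : ∀ g, Commute g (d.e a b * d.z) → g ∈ centralizer (D : Set ↥(S : Subgroup X)) := by
    intro g hg
    refine mem_centralizer_iff.mpr fun x hx => ?_
    obtain ⟨p, r, rfl | rfl⟩ := d.normal_form x
    · exact (mem_center_iff.mp (hBA ⟨hDB hx, d.mem_A.mpr ⟨p, r, rfl⟩⟩) g).symm
    · have h1 : d.e p r * d.z * (d.e a b * d.z)⁻¹ ∈ D := mul_mem hx (inv_mem hu)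
      have h2 : d.e p r * d.z * (d.e a b * d.z)⁻¹ ∈ center ↥(S : Subgroup X) := by
        refine hBA ⟨hDB h1, (mul_mem_iff_of_index_two d.index_A).mpr ?_⟩
        rw [inv_mem_iff]
        exact iff_of_false (d.ez_notMem _ _) (d.ez_notMem _ _)
      have e := inv_mul_cancel_right (d.e p r * d.z) (d.e a b * d.z)
      have e' : d.e p r * d.z =
          d.e p r * d.z * (d.e a b * d.z)⁻¹ * (d.e a b * d.z) := by group
      rw [e']
      exact (Commute.mul_left (mem_center_iff.mp h2 g).symm hg.symm).eq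
  -- the action on the outer element
  have key : ∀ g ∈ normalizer (D : Set ↥(S : Subgroup X)),
      g ∉ centralizer (D : Set ↥(S : Subgroup X)) →
      g * (d.e a b * d.z) * g⁻¹ = d.e (a + H n) (b + H n) * d.z := by
    intro g hg hgn
    obtain ⟨p, r, v, hv, rfl⟩ : ∃ p r : ℤ, ∃ v ∈ D, g = d.e p r * v := by
      obtain ⟨p, r, rfl | rfl⟩ := d.normal_form g
      · exact ⟨p, r, 1, one_mem _, (mul_one _).symm⟩
      · exact ⟨p - a, r - b, _, hu, by rw [d.e_ez]; congr 2 <;> ring⟩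
    have hp : d.e p r ∉ centralizer (D : Set ↥(S : Subgroup X)) := fun h =>
      hgn (mul_mem h (hDD hv))
    have hp' : d.e p r ∈ normalizer (D : Set ↥(S : Subgroup X)) :=
      (mul_mem_cancel_right (le_normalizer hv)).mp hg
    have h1 := hDB ((mem_normalizer_iff.mp hp' _).mp hu)
    rw [d.conj_e_ez] at h1
    have h2 : Commute (d.e (p - r) (r - p)) (d.e a b * d.z) := by
      have h3 := mul_mem h1 (inv_mem (mem_centralizer_singleton_iff.mpr rfl : d.e a b * d.z ∈ B))
      rw [d.ez_inv, d.ez_ez] at h3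
      convert (show Commute _ (d.e a b * d.z) from mem_centralizer_singleton_iff.mp h3) using 2
      · ring
      · ring
    have h4 := d.commute_ez.mp h2
    have h5 : N n ∣ p - r - H n := by
      refine (d.half (by convert h4 using 1; ring)).resolve_left fun h => hp (hcent _ (d.commute_ez.mpr h))
    have hvc : v * (d.e a b * d.z) * v⁻¹ = d.e a b * d.z := by
      rw [(mem_centralizer_iff.mp (hDD hv) _ hu).symm, mul_inv_cancel_right]
    rw [show d.e p r * v * (d.e a b * d.z) * (d.e p r * v)⁻¹ =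
      d.e p r * (v * (d.e a b * d.z) * v⁻¹) * (d.e p r)⁻¹ by group, hvc, d.conj_e_ez, mul_left_inj,
      d.e_eq]
    obtain ⟨w, hw⟩ := h5
    exact ⟨⟨w, by linarith⟩, ⟨-w - 1, by rw [d.pow_facts.1] at hw ⊢; linarith⟩⟩
  refine hcent _ (mul_inv_eq_iff_eq_mul.mp ?_)
  calc t⁻¹ * t' * (d.e a b * d.z) * (t⁻¹ * t')⁻¹
      = t⁻¹ * (t' * (d.e a b * d.z) * t'⁻¹) * t := by group
    _ = t⁻¹ * (t * (d.e a b * d.z) * t⁻¹) * t := by rw [key t' ht' hn', key t ht hn]
    _ = d.e a b * d.z := by group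

/-- A conjugate in `S` of an element central in `S` can be moved back with its centralizer. -/
theorem exists_back {v : X} (hv : ∀ a ∈ (S : Subgroup X), Commute v a) {g : X} :
    ∃ h : X, h * (g * v * g⁻¹) * h⁻¹ = v ∧
      ∀ y ∈ (S : Subgroup X), Commute y (g * v * g⁻¹) → h * y * h⁻¹ ∈ (S : Subgroup X) := by
  haveI : Fact (Nat.Prime 2) := ⟨Nat.prime_two⟩
  set s := g * v * g⁻¹ with hs
  set C := centralizer ({s} : Set X) with hC
  have hgS : ((g • S : Sylow 2 X) : Subgroup X) ≤ C := by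
    rintro _ ⟨a, ha, rfl⟩
    refine mem_centralizer_singleton_iff.mpr ?_
    show (g * a * g⁻¹) * s = s * (g * a * g⁻¹)
    rw [hs, conj_mul, conj_mul, (hv a ha).eq]
  obtain ⟨T, hT⟩ := (S.isPGroup'.comap_subtype (K := C)).exists_le_sylow
  obtain ⟨k, hk⟩ := MulAction.exists_smul_eq C ((g • S).subtype hgS) T
  rw [Sylow.smul_subtype] at hk
  refine ⟨((k : X) * g)⁻¹, ?_, fun y hy hys => ?_⟩
  · have hks : (k : X) * s = s * k := mem_centralizer_singleton_iff.mp k.2
    calc ((k : X) * g)⁻¹ * s * ((k : X) * g)⁻¹⁻¹ = g⁻¹ * ((k : X)⁻¹ * (s * k)) * g := by group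
      _ = g⁻¹ * s * g := by rw [← hks, inv_mul_cancel_left]
      _ = v := by rw [hs]; group
  · have hyT := hT (show (⟨y, mem_centralizer_singleton_iff.mpr hys.eq⟩ : C) ∈
      (S : Subgroup X).comap C.subtype from hy)
    rw [← hk] at hyT
    obtain ⟨a, ⟨b, hb, rfl⟩, hay⟩ := hyT
    have e : y = (k : X) * (g * b * g⁻¹) * (k : X)⁻¹ := hay.symm
    rw [e, show ((k : X) * g)⁻¹ * ((k : X) * (g * b * g⁻¹) * (k : X)⁻¹) * ((k : X) * g)⁻¹⁻¹ = b by group]
    exact hb

theorem center_gen_weakly_closed (hz : ((d.e (H n) (H n) : ↥(S : Subgroup X)) : X) ∈ center X) {g : X}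
    (hg : g * ((d.e 1 1 : ↥(S : Subgroup X)) : X) * g⁻¹ ∈ (S : Subgroup X)) :
    g * ((d.e 1 1 : ↥(S : Subgroup X)) : X) * g⁻¹ = ((d.e 1 1 : ↥(S : Subgroup X)) : X) := by
  haveI : Fact (Nat.Prime 2) := ⟨Nat.prime_two⟩
  set c := ((d.e 1 1 : ↥(S : Subgroup X)) : X) with hc
  have hcS : c ∈ (S : Subgroup X) := SetLike.coe_mem _
  have hcomm : ∀ a ∈ (S : Subgroup X), Commute c a := fun a ha => d.commute_center_gen ⟨a, ha⟩
  have hinA : ∀ (k : ℤ) (f : X), f * c ^ k * f⁻¹ ∈ d.AX → f * c ^ k * f⁻¹ = c ^ k :=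
    fun k f h => d.conj_eq_of_mem_AX hz h
  have hsqA : ∀ a ∈ (S : Subgroup X), a ^ (2 : ℤ) ∈ d.AX := fun a ha =>
    ⟨⟨a, ha⟩ * ⟨a, ha⟩, mul_self_mem_of_index_two d.index_A _, (zpow_two a).symm⟩
  obtain ⟨h, hh1, hh2⟩ := exists_back hcomm (g := g)
  set s := g * c * g⁻¹ with hs
  by_contra hne
  have hsA : s ∉ d.AX := fun h' => hne (by
    have := hinA 1 g (by rwa [zpow_one, ← hs])
    rwa [zpow_one, ← hs] at this)
  set t := h * c * h⁻¹ with ht
  have htS : t ∈ (S : Subgroup X) := hh2 c hcS (hcomm s hg)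
  have htA : t ∉ d.AX := fun h' => hne (by
    have e1 := hinA 1 h (by rwa [zpow_one, ← ht])
    rw [zpow_one] at e1
    exact mul_left_cancel (mul_right_cancel (hh1.trans e1.symm)))
  have hs2 : s * s = c * c := by
    have := hinA 2 g (by rw [← conj_zpow, ← hs]; exact hsqA s hg)
    rwa [← conj_zpow, ← hs, zpow_two, zpow_two] at this
  have ht2 : t * t = c * c := by
    have := hinA 2 h (by rw [← conj_zpow, ← ht]; exact hsqA t htS)
    rwa [← conj_zpow, ← ht, zpow_two, zpow_two] at this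
  -- the two outer involutions
  have hout : ∀ y : X, y ∈ (S : Subgroup X) → y ∉ d.AX → y * y = c * c →
      ∃ a : ℤ, c⁻¹ * y = ((d.e a (-a) * d.z : ↥(S : Subgroup X)) : X) := by
    intro y hy hyA hy2
    set i : ↥(S : Subgroup X) := ⟨c⁻¹ * y, mul_mem (inv_mem hcS) hy⟩ with hi
    have h1 : i * i = 1 := Subtype.ext (by
      show c⁻¹ * y * (c⁻¹ * y) = 1
      rw [mul_assoc, ← mul_assoc y, ← ((hcomm y hy).inv_left).eq, mul_assoc c⁻¹ y y, hy2,
        ← mul_assoc, ← mul_assoc]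
      group)
    have hiA : i ∉ d.A := fun hmem => hyA (by
      have h2 : (⟨y, hy⟩ : ↥(S : Subgroup X)) ∈ d.A := by
        rw [show (⟨y, hy⟩ : ↥(S : Subgroup X)) = d.e 1 1 * i from Subtype.ext (by
          show y = c * (c⁻¹ * y); rw [mul_inv_cancel_left])]
        exact mul_mem (d.mem_A.mpr ⟨_, _, rfl⟩) hmem
      exact ⟨_, h2, rfl⟩)
    have hi1 : i ≠ 1 := fun e => hiA (e ▸ one_mem _)
    rcases d.involution_cases (Cfsg.Lib.Invol.orderOf_eq_two_of hi1 h1) with e | e | e | ⟨a, e⟩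
    · exact absurd (e ▸ d.mem_A.mpr ⟨_, _, rfl⟩) hiA
    · exact absurd (e ▸ d.mem_A.mpr ⟨_, _, rfl⟩) hiA
    · exact absurd (e ▸ d.mem_A.mpr ⟨_, _, rfl⟩) hiA
    · exact ⟨a, congrArg Subtype.val e⟩
  obtain ⟨a, ha⟩ := hout s hg hsA hs2
  obtain ⟨b, hb⟩ := hout t htS htA ht2
  obtain ⟨va, hva⟩ := d.orbit_z a
  obtain ⟨vb, hvb⟩ := d.orbit_z b
  set v := ((va * vb⁻¹ : ↥(S : Subgroup X)) : X) with hv
  have hvc : v * c * v⁻¹ = c := by
    rw [← (hcomm v (SetLike.coe_mem _)).eq, mul_inv_cancel_right]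
  set iS : ↥(S : Subgroup X) := d.e a (-a) * d.z with hiS
  have hvt : v * t * v⁻¹ = s := by
    have e : va * vb⁻¹ * (d.e b (-b) * d.z) * (va * vb⁻¹)⁻¹ = iS := by
      rw [← hvb, ← hva]; group
    calc v * t * v⁻¹ = (v * c * v⁻¹) * (v * (c⁻¹ * t) * v⁻¹) := by group
      _ = c * (c⁻¹ * s) := by rw [hvc, hb, ha]; exact congrArg (c * ·) (congrArg Subtype.val e)
      _ = s := mul_inv_cancel_left _ _
  set h' := v * h with hh'
  have h'c : h' * c * h'⁻¹ = s := by rw [← hvt, ht, hh']; group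
  have h's : h' * s * h'⁻¹ = c := by
    rw [hh', show v * h * s * (v * h)⁻¹ = v * (h * s * h⁻¹) * v⁻¹ by group, hh1, hvc]
  have hi2 : iS * iS = 1 := Cfsg.Lib.Invol.inv_mul_self (d.orderOf_ez a)
  have hiX : (iS : X) = c⁻¹ * s := ha.symm
  have h'i : h' * (iS : X) * h'⁻¹ = iS := by
    have h1 : (iS : X)⁻¹ = iS := inv_eq_of_mul_eq_one_right (congrArg Subtype.val hi2)
    rw [show h' * (iS : X) * h'⁻¹ = (h' * c * h'⁻¹)⁻¹ * (h' * s * h'⁻¹) by rw [hiX]; group, h'c, h's]
    conv_rhs => rw [← h1, hiX, mul_inv_rev, inv_inv]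
  -- the abelian group generated by `c` and the involution
  set D : Subgroup ↥(S : Subgroup X) := center ↥(S : Subgroup X) ⊔ zpowers iS with hD
  have hDmem : ∀ x ∈ D, ∃ k : ℤ, x = d.e 1 1 ^ k ∨ x = d.e 1 1 ^ k * iS := by
    intro x hx
    obtain ⟨p, hp, q, hq, rfl⟩ := mem_sup_of_normal_left.mp hx
    rw [d.center_eq] at hp
    obtain ⟨k, rfl⟩ := mem_zpowers_iff.mp hp
    obtain ⟨j, rfl⟩ := mem_zpowers_iff.mp hq
    refine ⟨k, ?_⟩
    rcases Int.even_or_odd' j with ⟨w, rfl | rfl⟩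
    · left; rw [zpow_mul, zpow_two, hi2, one_zpow, mul_one]
    · right; rw [zpow_add, zpow_mul, zpow_two, hi2, one_zpow, one_mul, zpow_one]
  have hiD : iS ∈ D := mem_sup_right (mem_zpowers _)
  have hcD : d.e 1 1 ∈ D := mem_sup_left (d.center_eq ▸ mem_zpowers _)
  have hDab : IsMulCommutative D := by
    refine ⟨⟨fun p q => Subtype.ext ?_⟩⟩
    show (p : ↥(S : Subgroup X)) * q = q * p
    have hcen : ∀ k : ℤ, ∀ y, Commute y (d.e 1 1 ^ k) := fun k y =>
      mem_center_iff.mp (d.center_eq ▸ zpow_mem (mem_zpowers _) k) y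
    obtain ⟨k, e | e⟩ := hDmem _ p.2 <;> obtain ⟨k', e' | e'⟩ := hDmem _ q.2 <;> rw [e, e']
    · exact (hcen _ _).eq
    · exact ((hcen k _).symm).eq
    · exact (hcen k' _).eq
    · exact (((hcen k' _).mul_right
        ((hcen k iS).symm.mul_left (Commute.refl iS)))).eq
  have hDc : Nat.card D = 2 ^ (n + 1) := by
    have hrel : (center ↥(S : Subgroup X)).relIndex D = 2 := by
      rw [relIndex_eq_two_iff_exists_notMem_and']
      refine ⟨iS, hiD, fun h => d.ez_notMem a (-a) ?_, fun y hy => ?_⟩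
      · rw [d.center_eq] at h
        exact zpowers_le.mpr (d.mem_A.mpr ⟨_, _, rfl⟩) h
      · obtain ⟨k, e | e⟩ := hDmem y hy
        · exact Or.inr (e ▸ d.center_eq ▸ zpow_mem (mem_zpowers _) k)
        · left
          rw [e, ← mul_assoc, mem_center_iff.mp (d.center_eq ▸ zpow_mem (mem_zpowers (d.e 1 1)) k) iS,
            mul_assoc, hi2, mul_one, d.center_eq]
          exact zpow_mem (mem_zpowers _) k
    have h3 := relIndex_mul_relIndex ⊥ (center ↥(S : Subgroup X)) D bot_le le_sup_left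
    rw [relIndex_bot_left, relIndex_bot_left, hrel, d.card_center] at h3
    rw [← h3, pow_succ]
  set DX := D.map (S : Subgroup X).subtype with hDX
  have hDXab : IsMulCommutative DX := by
    haveI := hDab
    exact Subgroup.map_isMulCommutative _ _
  have hcX : c ∈ DX := ⟨_, hcD, rfl⟩
  have hiDX : (iS : X) ∈ DX := ⟨_, hiD, rfl⟩
  set N := normalizer (DX : Set X) with hN
  -- the two elements of the normalizer
  have h'N : h' ∈ N := by
    refine mem_normalizer_fintype fun y hy => ?_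
    obtain ⟨x, hx, rfl⟩ := hy
    have hs' : h' * c * h'⁻¹ ∈ DX := by
      rw [h'c, show s = c * (iS : X) by rw [hiX, mul_inv_cancel_left]]
      exact mul_mem hcX hiDX
    show h' * (x : X) * h'⁻¹ ∈ DX
    obtain ⟨k, rfl | rfl⟩ := hDmem x hx
    · rw [Subgroup.coe_zpow, ← conj_zpow]
      exact zpow_mem hs' k
    · rw [Subgroup.coe_mul, Subgroup.coe_zpow, ← conj_mul, ← conj_zpow, h'i]
      exact mul_mem (zpow_mem hs' k) hiDX
  set w := d.e (H n) 0 with hw
  have hwi : w * iS * w⁻¹ = d.e (H n) (H n) * iS := by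
    rw [hw, hiS, d.conj_e_ez, d.e_ez, mul_left_inj, d.e_eq]
    exact ⟨⟨0, by ring⟩, ⟨-1, by rw [d.pow_facts.1]; ring⟩⟩
  have hwN : w ∈ normalizer (D : Set ↥(S : Subgroup X)) := by
    refine mem_normalizer_fintype fun y hy => ?_
    have hwc : ∀ k : ℤ, w * d.e 1 1 ^ k * w⁻¹ = d.e 1 1 ^ k := fun k => by
      rw [mem_center_iff.mp (d.center_eq ▸ zpow_mem (mem_zpowers (d.e 1 1)) k) w, mul_inv_cancel_right]
    obtain ⟨k, rfl | rfl⟩ := hDmem y hy
    · rw [hwc]; exact hy
    · rw [← conj_mul, hwc, hwi]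
      exact mul_mem (zpow_mem hcD k) (mul_mem (mem_sup_left (d.mem_center_e.mpr (by simp))) hiD)
  have hwX : (w : X) ∈ N := le_normalizer_map _ ⟨w, hwN, rfl⟩
  have hwni : (w : X) * iS * (w : X)⁻¹ ≠ iS := fun e => by
    have e1 : w * iS * w⁻¹ = iS := Subtype.ext e
    rw [hwi, mul_eq_right] at e1
    exact Cfsg.Lib.Invol.ne_one d.orderOf_HH e1
  have hzX : ∀ y : X, Commute y ((d.e (H n) (H n) : ↥(S : Subgroup X)) : X) := fun y =>
    mem_center_iff.mp hz y
  have hinv : ∀ y ∈ DX, y * y = 1 → y = 1 ∨ y = ((d.e (H n) (H n) : ↥(S : Subgroup X)) : X) ∨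
      y = iS ∨ y = (iS : X) * ((d.e (H n) (H n) : ↥(S : Subgroup X)) : X) := by
    rintro _ ⟨x, hx, rfl⟩ hyy
    have hxx : x * x = 1 := (S : Subgroup X).subtype_injective (by rw [map_mul, map_one]; exact hyy)
    have hsq : ∀ k : ℤ, d.e 1 1 ^ k * d.e 1 1 ^ k = 1 →
        d.e 1 1 ^ k = 1 ∨ d.e 1 1 ^ k = d.e (H n) (H n) := by
      intro k hk
      rw [d.e_zpow, mul_one, d.e_mul, d.e_eq_one, ← two_mul] at hk
      rw [d.e_zpow, mul_one]
      rcases d.half hk.1 with h | h
      · exact Or.inl (d.e_eq_one.mpr ⟨h, h⟩)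
      · exact Or.inr (d.e_eq.mpr ⟨h, h⟩)
    obtain ⟨k, rfl | rfl⟩ := hDmem x hx
    · rcases hsq k hxx with e | e
      · exact Or.inl (by rw [e, map_one])
      · exact Or.inr (Or.inl (by rw [e]; rfl))
    · have hck : Commute iS (d.e 1 1 ^ k) :=
        mem_center_iff.mp (d.center_eq ▸ zpow_mem (mem_zpowers (d.e 1 1)) k) iS
      rw [mul_assoc, ← mul_assoc iS, hck.eq, mul_assoc (d.e 1 1 ^ k) iS iS, hi2, mul_one] at hxx
      rcases hsq k hxx with e | e
      · exact Or.inr (Or.inr (Or.inl (by rw [e, one_mul]; rfl)))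
      · exact Or.inr (Or.inr (Or.inr (by rw [← hck.eq, e]; rfl)))
  -- split off the part centralizing `D`
  obtain ⟨T, hT⟩ := (((S.isPGroup'.to_le (zpowers_le.mpr w.2) :
    IsPGroup 2 (zpowers (w : X)))).comap_subtype (K := N)).exists_le_sylow
  obtain ⟨t₀, ht₀, m, hm, he⟩ := Cfsg.Lib.Fusion.exists_mul_of_sylow T (⟨h', h'N⟩ : N)
  have hmc : ∀ y ∈ DX, Commute (m : X) y := by
    suffices pResidual 2 N ≤ (centralizer (DX : Set X)).subgroupOf N from
      fun y hy => (mem_centralizer_iff.mp (mem_subgroupOf.mp (this hm)) y hy).symm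
    refine (closure_le _).mpr fun q hq => mem_subgroupOf.mpr (mem_centralizer_iff.mpr fun y hy => ?_)
    exact (odd_centralizes hDXab ((S.isPGroup'.to_subgroup D).map _) hinv
      (congrArg Subtype.val hi2) hiDX (hzX q) (by rw [Subgroup.orderOf_coe]; exact Nat.coprime_two_right.1 hq)
      (fun x hx => (mem_normalizer_iff.mp q.2 x).mp hx) hy).eq.symm
  have ht₀c : (t₀ : X) * c * (t₀ : X)⁻¹ = s := by
    rw [← h'c, show h' = (t₀ : X) * (m : X) from congrArg Subtype.val he, mul_inv_rev]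
    rw [show (t₀ : X) * (m : X) * c * ((m : X)⁻¹ * (t₀ : X)⁻¹) =
      (t₀ : X) * ((m : X) * c * (m : X)⁻¹) * (t₀ : X)⁻¹ by group, (hmc c hcX).eq, mul_inv_cancel_right]
  -- move the Sylow subgroup of the normalizer into `S`
  obtain ⟨R, hR⟩ := (T.isPGroup'.map N.subtype).exists_le_sylow
  obtain ⟨f, hf⟩ := MulAction.exists_smul_eq X R S
  have hfS : ∀ y : N, y ∈ (T : Subgroup N) → f * (y : X) * f⁻¹ ∈ (S : Subgroup X) := fun y hy => by
    rw [← hf]
    exact ⟨(y : X), hR ⟨y, hy, rfl⟩, rfl⟩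
  have hDT : ∀ y ∈ DX, ∃ hy : y ∈ N, (⟨y, hy⟩ : N) ∈ (T : Subgroup N) := fun y hy => by
    haveI : (DX.comap N.subtype).Normal :=
      (normal_subgroupOf_iff_le_normalizer le_normalizer).mpr le_rfl
    exact ⟨le_normalizer hy,
      IsPGroup.le_sylow_of_normal (((S.isPGroup'.to_subgroup D).map _).comap_subtype (K := N)) T hy⟩
  set D' : Subgroup ↥(S : Subgroup X) :=
    (DX.map (MulAut.conj f).toMonoidHom).comap (S : Subgroup X).subtype with hD'
  have hDS : DX.map (MulAut.conj f).toMonoidHom ≤ (S : Subgroup X) := by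
    rintro _ ⟨y, hy, rfl⟩
    obtain ⟨_, hy'⟩ := hDT y hy
    exact hfS _ hy'
  have hD'ab : IsMulCommutative D' := by
    haveI := hDXab
    haveI : IsMulCommutative (DX.map (MulAut.conj f).toMonoidHom) :=
      Subgroup.map_isMulCommutative _ _
    exact Subgroup.comap_injective_isMulCommutative _ (S : Subgroup X).subtype_injective
  have hD'c : Nat.card D' = 2 ^ (n + 1) := by
    rw [← card_map_of_injective (S : Subgroup X).subtype_injective,
      show D'.map (S : Subgroup X).subtype = DX.map (MulAut.conj f).toMonoidHom from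
        map_comap_eq_self (by rw [range_subtype]; exact hDS),
      card_map_of_injective (f := (MulAut.conj f).toMonoidHom) (MulAut.conj f).injective, hDX,
      card_map_of_injective (S : Subgroup X).subtype_injective, hDc]
  have hnorm : ∀ (y : N) (hy : y ∈ (T : Subgroup N)),
      (⟨f * (y : X) * f⁻¹, hfS y hy⟩ : ↥(S : Subgroup X)) ∈ normalizer (D' : Set ↥(S : Subgroup X)) := by
    intro y hy
    refine mem_normalizer_fintype ?_
    rintro x ⟨x₀, hx₀, hxe⟩
    refine ⟨(y : X) * x₀ * (y : X)⁻¹, (mem_normalizer_iff.mp y.2 _).mp hx₀, ?_⟩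
    show f * ((y : X) * x₀ * (y : X)⁻¹) * f⁻¹ = f * (y : X) * f⁻¹ * (x : X) * (f * (y : X) * f⁻¹)⁻¹
    rw [show (x : X) = f * x₀ * f⁻¹ from hxe.symm]
    group
  have hcent : ∀ (y : N) (hy : y ∈ (T : Subgroup N)),
      (⟨f * (y : X) * f⁻¹, hfS y hy⟩ : ↥(S : Subgroup X)) ∈ centralizer (D' : Set ↥(S : Subgroup X)) →
      ∀ x ∈ DX, (y : X) * x * (y : X)⁻¹ = x := by
    intro y hy hy' x hx
    obtain ⟨_, hx'⟩ := hDT x hx
    have h1 := congrArg Subtype.val
      (mem_centralizer_iff.mp hy' ⟨f * x * f⁻¹, hfS _ hx'⟩ ⟨x, hx, rfl⟩)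
    rw [Subgroup.coe_mul, Subgroup.coe_mul, conj_mul, conj_mul] at h1
    rw [← mul_left_cancel (mul_right_cancel h1), mul_inv_cancel_right]
  have hwT : (⟨w, hwX⟩ : N) ∈ (T : Subgroup N) := hT (mem_zpowers _)
  have hkey := d.normalizer_index hD'ab hD'c (hnorm _ hwT) (hnorm _ ht₀)
    (fun h => hwni (hcent _ hwT h _ hiDX))
    (fun h => hne (by rw [← ht₀c]; exact hcent _ ht₀ h _ hcX))
  have hmem : (⟨w, hwX⟩ : N)⁻¹ * t₀ ∈ (T : Subgroup N) := mul_mem (inv_mem hwT) ht₀
  have hfin := hcent _ hmem (by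
    convert hkey using 1
    apply Subtype.ext
    simp only [Subgroup.coe_mul, Subgroup.coe_inv]
    group) c hcX
  apply hne
  simp only [Subgroup.coe_mul, Subgroup.coe_inv] at hfin
  calc s = (t₀ : X) * c * (t₀ : X)⁻¹ := ht₀c.symm
    _ = (w : X) * ((w : X)⁻¹ * (t₀ : X) * c * ((w : X)⁻¹ * (t₀ : X))⁻¹) * (w : X)⁻¹ := by group
    _ = c := by rw [hfin, ← (hcomm w w.2).eq, mul_inv_cancel_right]

/-- Powers of the central generator are weakly closed as elements. -/
theorem center_gen_zpow_weakly_closed (hz : ((d.e (H n) (H n) : ↥(S : Subgroup X)) : X) ∈ center X)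
    {k : ℤ} {g : X} (hg : g * ((d.e 1 1 : ↥(S : Subgroup X)) : X) ^ k * g⁻¹ ∈ (S : Subgroup X)) :
    g * ((d.e 1 1 : ↥(S : Subgroup X)) : X) ^ k * g⁻¹ = ((d.e 1 1 : ↥(S : Subgroup X)) : X) ^ k := by
  set c := ((d.e 1 1 : ↥(S : Subgroup X)) : X) with hc
  obtain ⟨h, hh1, hh2⟩ := exists_back (S := S) (v := c ^ k)
    (fun a ha => (d.commute_center_gen ⟨a, ha⟩).zpow_left k) (g := g)
  have h3 := d.center_gen_weakly_closed hz
    (hh2 c (SetLike.coe_mem _) (d.commute_center_gen ⟨_, hg⟩))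
  have h4 : h * c ^ k * h⁻¹ = c ^ k := by rw [← conj_zpow, h3]
  exact mul_left_cancel (mul_right_cancel (hh1.trans h4.symm))

/-- Transport along an isomorphism. -/
def transport {S₁ S₂ : Type*} [Group S₁] [Group S₂] {m : ℕ} (d : W S₁ m) (f : S₁ ≃* S₂) : W S₂ m where
  x := f d.x
  y := f d.y
  z := f d.z
  two_le := d.two_le
  card := by rw [← Nat.card_congr f.toEquiv]; exact d.card
  hx := by rw [MulEquiv.orderOf_eq]; exact d.hx
  comm := d.comm.map f
  disj := by
    have e : ∀ u, zpowers (f u) = (zpowers u).map f.toMonoidHom := fun u =>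
      (MonoidHom.map_zpowers f.toMonoidHom u).symm
    rw [e, e, ← map_inf _ _ _ f.injective, d.disj, Subgroup.map_bot]
  hz := by rw [MulEquiv.orderOf_eq]; exact d.hz
  conj := by rw [← map_inv, ← map_mul, ← map_mul, d.conj]

theorem transport_e {S₁ S₂ : Type*} [Group S₁] [Group S₂] {m : ℕ} (d : W S₁ m) (f : S₁ ≃* S₂)
    (a b : ℤ) : (d.transport f).e a b = f (d.e a b) := by
  show f d.x ^ a * f d.y ^ b = f (d.x ^ a * d.y ^ b)
  rw [map_mul, map_zpow, map_zpow]

end W

end Cfsg.Lib.TwoGroup
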