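import Cfsg.Agent.Lib.TwoGroup.QDSubgroups
import Cfsg.Agent.S1203
import Cfsg.Agent.S1241
import Cfsg.Agent.S1255

/-!
Fusion of involutions and of elements of order four when a Sylow two-subgroup is quasi-dihedral.
-/

set_option autoImplicit false
set_option linter.unusedSectionVars false

namespace Cfsg.Lib.TwoGroup.QDFusion

open Subgroup
open scoped Pointwise

variable {G : Type*} [Group G] [Finite G]

theorem conj_into_sylow (S : Sylow 2 G) {k : ℕ} {u : G} (hu : orderOf u = 2 ^ k) :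
    ∃ v : ↥(S : Subgroup G), IsConj u (v : G) ∧ orderOf v = 2 ^ k := by
  haveI : Fact (Nat.Prime 2) := ⟨Nat.prime_two⟩
  obtain ⟨R, hR⟩ := (IsPGroup.of_card (n := k)
    (by rw [Nat.card_zpowers, hu] : Nat.card (zpowers u) = 2 ^ k)).exists_le_sylow
  obtain ⟨g, hg⟩ := MulAction.exists_smul_eq G R S
  have hv : g * u * g⁻¹ ∈ (S : Subgroup G) := by
    rw [← hg, Sylow.coe_subgroup_smul, Subgroup.mem_smul_pointwise_iff_exists]
    exact ⟨u, hR (mem_zpowers u), rfl⟩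
  refine ⟨⟨_, hv⟩, isConj_iff.mpr ⟨g, rfl⟩, ?_⟩
  rw [Subgroup.orderOf_mk, ← hu]
  exact (MulAut.conj g).orderOf_eq u

theorem isConj_coe {S : Subgroup G} {a b : ↥S} (h : IsConj a b) : IsConj (a : G) (b : G) :=
  MonoidHom.map_isConj S.subtype h

theorem count_one {m : ℕ} (a : G) (ha : orderOf a = m) (h : ∀ u : G, orderOf u = m → IsConj u a) :
    Nat.card {C : ConjClasses G // ∃ t : G, orderOf t = m ∧ ConjClasses.mk t = C} = 1 := by
  rw [← Set.ncard_singleton (ConjClasses.mk a), ← Nat.card_coe_set_eq]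
  refine Nat.card_congr (Equiv.setCongr (s := {C | _}) (Set.ext fun C => ⟨?_, ?_⟩))
  · rintro ⟨t, ht, rfl⟩
    exact ConjClasses.mk_eq_mk_iff_isConj.mpr (h t ht)
  · rintro rfl
    exact ⟨a, ha, rfl⟩

theorem count_two {m : ℕ} (a b : G) (ha : orderOf a = m) (hb : orderOf b = m) (hne : ¬ IsConj a b)
    (h : ∀ u : G, orderOf u = m → IsConj u a ∨ IsConj u b) :
    Nat.card {C : ConjClasses G // ∃ t : G, orderOf t = m ∧ ConjClasses.mk t = C} = 2 := by
  rw [← Set.ncard_pair (fun e => hne (ConjClasses.mk_eq_mk_iff_isConj.mp e)),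
    ← Nat.card_coe_set_eq]
  refine Nat.card_congr (Equiv.setCongr (s := {C | _}) (Set.ext fun C => ⟨?_, ?_⟩))
  · rintro ⟨t, ht, rfl⟩
    exact (h t ht).imp ConjClasses.mk_eq_mk_iff_isConj.mpr ConjClasses.mk_eq_mk_iff_isConj.mpr
  · rintro (rfl | rfl)
    exacts [⟨a, ha, rfl⟩, ⟨b, hb, rfl⟩]

theorem mul_mem_of_relIndex_two {H N : Subgroup G} (h : H.relIndex N = 2) {a b : G} (ha : a ∈ N)
    (hb : b ∈ N) (ha' : a ∉ H) (hb' : b ∉ H) : b * a ∈ H :=
  Subgroup.mem_subgroupOf.mp ((Subgroup.mul_mem_iff_of_index_two h (a := (⟨b, hb⟩ : N))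
    (b := ⟨a, ha⟩)).mpr (iff_of_false hb' ha'))

/-- Inside a normal subgroup missed by `C(a)`, the whole class of `a` is a single class. -/
theorem mem_iff_of_conj {K H : Subgroup G} (hK : K.index = 2)
    (hH : ∀ k ∈ K, ∀ h ∈ H, k * h * k⁻¹ ∈ H) {a b w : G} (hw : Commute w a) (hwK : w ∉ K)
    (hab : IsConj a b) : a ∈ H ↔ b ∈ H := by
  obtain ⟨g, rfl⟩ := isConj_iff.mp hab
  obtain ⟨k, hk, hk'⟩ : ∃ k ∈ K, k * a * k⁻¹ = g * a * g⁻¹ := by
    by_cases hg : g ∈ K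
    · exact ⟨g, hg, rfl⟩
    · refine ⟨g * w, (Subgroup.mul_mem_iff_of_index_two hK).mpr (iff_of_false hg hwK), ?_⟩
      calc g * w * a * (g * w)⁻¹ = g * (w * a) * w⁻¹ * g⁻¹ := by group
        _ = g * (a * w) * w⁻¹ * g⁻¹ := by rw [hw.eq]
        _ = g * a * g⁻¹ := by group
  rw [← hk']
  refine ⟨hH k hk a, fun h => ?_⟩
  have := hH k⁻¹ (K.inv_mem hk) _ h
  simpa [mul_assoc] using this

theorem sylow_equiv_of_index_two (S : Sylow 2 G) (K : Subgroup G) (hK : K.index = 2)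
    (M : Subgroup ↥(S : Subgroup G)) (hM : M.index = 2) (hMK : M.map (S : Subgroup G).subtype ≤ K)
    (P : Sylow 2 ↥K) : Nonempty ((P : Subgroup ↥K) ≃* ↥M) := by
  haveI : Fact (Nat.Prime 2) := ⟨Nat.prime_two⟩
  set M' := M.map (S : Subgroup G).subtype with hM'
  let R := M'.subgroupOf K
  have hMc : Nat.card M' = Nat.card M := card_map_of_injective (S : Subgroup G).subtype_injective
  have hRp : IsPGroup 2 ↥R :=
    ((S.isPGroup'.to_subgroup M).map _).of_equiv (subgroupOfEquivOfLe hMK).symm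
  have hidx : ¬ 2 ∣ R.index := by
    have e : R.index = (S : Subgroup G).index := by
      have h1 := R.card_mul_index
      rw [Nat.card_congr (subgroupOfEquivOfLe hMK).toEquiv, hMc] at h1
      have h2 := K.card_mul_index
      have h3 := (S : Subgroup G).card_mul_index
      have h4 := M.card_mul_index
      rw [hM] at h4
      rw [hK, ← h1] at h2
      rw [← h2, ← h4] at h3
      have hpos : 0 < Nat.card M * 2 := Nat.mul_pos Nat.card_pos two_pos
      have h5 : Nat.card M * 2 * (S : Subgroup G).index = Nat.card M * 2 * R.index := by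
        rw [h3]; ring
      exact (Nat.eq_of_mul_eq_mul_left hpos h5).symm
    rw [e]
    exact S.not_dvd_index
  let R' := hRp.toSylow hidx
  exact ⟨(P.equiv R').trans ((subgroupOfEquivOfLe hMK).trans
    (M.equivMapOfInjective _ (S : Subgroup G).subtype_injective).symm)⟩

section

variable {n : ℕ} (S : Sylow 2 G) (d : SD ↥(S : Subgroup G) n)

theorem orderOf_iG : orderOf (d.x ^ SD.P n) = 4 := by
  haveI : Fact (Nat.Prime 2) := ⟨Nat.prime_two⟩
  have h2 : d.x ^ SD.P n * d.x ^ SD.P n = d.z := by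
    rw [← zpow_add, SD.z]; congr 1; ring
  refine orderOf_eq_prime_pow (p := 2) (n := 1) ?_ ?_
  · rw [pow_one, pow_two, h2]; exact d.z_ne_one
  · rw [show (2 : ℕ) ^ (1 + 1) = 2 * 2 by norm_num, pow_mul, pow_two (d.x ^ _), h2, pow_two,
      Cfsg.Lib.Invol.inv_mul_self d.orderOf_z]

theorem conj_y (i : ℤ) : IsConj d.y (d.x ^ (2 * i) * d.y) := by
  obtain ⟨l, hl⟩ := d.exists_conj 0 i
  rw [zpow_zero, one_mul, zero_add] at hl
  exact isConj_iff.mpr ⟨_, hl⟩

theorem conj_xy (i : ℤ) : IsConj (d.x * d.y) (d.x ^ (2 * i + 1) * d.y) := by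
  obtain ⟨l, hl⟩ := d.exists_conj 1 i
  rw [zpow_one, add_comm] at hl
  exact isConj_iff.mpr ⟨_, hl⟩

theorem conj_neg : IsConj (d.x ^ SD.P n) (d.x ^ (-SD.P n)) := by
  refine isConj_iff.mpr ⟨d.y, ?_⟩
  rw [d.conj_zpow, d.zx]
  obtain ⟨r, hr⟩ := d.P_even
  exact ⟨r, by linear_combination (2 * SD.P n) * hr⟩

/-- Every involution of `G` is conjugate to the central one or to a non-central one. -/
theorem involution_classes (u : G) (hu : orderOf u = 2) :
    IsConj u (d.z : G) ∨ IsConj u (d.y : G) := by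
  obtain ⟨v, huv, hv⟩ := conj_into_sylow S (k := 1) (by simpa using hu)
  rw [pow_one] at hv
  rcases d.involution_cases hv with rfl | ⟨i, rfl⟩
  · exact Or.inl huv
  · exact Or.inr (huv.trans (isConj_coe (conj_y S d i)).symm)

theorem four_classes (u : G) (hu : orderOf u = 4) :
    IsConj u ((d.x ^ SD.P n : ↥(S : Subgroup G)) : G) ∨ IsConj u ((d.x * d.y : ↥(S : Subgroup G)) : G) := by
  obtain ⟨v, huv, hv⟩ := conj_into_sylow S (k := 2) (by simpa using hu)
  rw [show (2 : ℕ) ^ 2 = 4 from rfl] at hv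
  rcases d.order_four_cases hv with rfl | rfl | ⟨i, rfl⟩
  · exact Or.inl huv
  · exact Or.inl (huv.trans (isConj_coe (conj_neg S d)).symm)
  · exact Or.inr (huv.trans (isConj_coe (conj_xy S d i)).symm)

include d in
theorem isQD : Cfsg.IsQuasiDihedral ↥(S : Subgroup G) :=
  ⟨n, d.three_le, d.card, d.x, d.y, d.hx, d.hy, d.conj⟩

theorem four_in (T : Subgroup G) (hT : IsKleinFour T) (hTS : T ≤ (S : Subgroup G)) :
    IsKleinFour ↥(T.subgroupOf (S : Subgroup G)) ∧ (d.z : G) ∈ T ∧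
      ∃ i : ℤ, ((d.x ^ (2 * i) * d.y : ↥(S : Subgroup G)) : G) ∈ T := by
  have hT' : IsKleinFour ↥(T.subgroupOf (S : Subgroup G)) := by
    have e := subgroupOfEquivOfLe hTS
    exact ⟨by rw [Nat.card_congr e.toEquiv]; exact hT.card_four,
      by rw [Monoid.exponent_eq_of_mulEquiv e]; exact hT.exponent_two⟩
  obtain ⟨hz, i, hmem⟩ := d.four_structure hT'
  exact ⟨hT', mem_subgroupOf.mp hz,
    i, mem_subgroupOf.mp ((hmem _).mpr (Or.inr (Or.inr (Or.inl rfl))))⟩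

theorem mem_normalizer_coe {X : Subgroup G} (hX : X ≤ (S : Subgroup G)) {s : ↥(S : Subgroup G)}
    (hs : s ∈ normalizer ((X.subgroupOf (S : Subgroup G) : Subgroup ↥(S : Subgroup G)) : Set ↥(S : Subgroup G))) :
    (s : G) ∈ normalizer (X : Set G) := by
  rw [mem_normalizer_iff_map_conj_eq]
  refine eq_of_le_of_card_ge ?_ ?_
  · rintro _ ⟨x, hx, rfl⟩
    exact mem_subgroupOf.mp ((mem_normalizer_iff.mp hs ⟨x, hX hx⟩).mp (mem_subgroupOf.mpr hx))
  · rw [card_map_of_injective (MulAut.conj (s : G)).injective]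

theorem centralizer_singleton_mem {a g : G} : g ∈ centralizer ({a} : Set G) ↔ g * a * g⁻¹ = a := by
  rw [mem_centralizer_singleton_iff, mul_inv_eq_iff_eq_mul]

theorem not_isConj_z_of_two (T : Subgroup G) (hT : IsKleinFour T) (hTS : T ≤ (S : Subgroup G))
    (h2 : (centralizer (T : Set G)).relIndex (normalizer (T : Set G)) = 2) :
    ¬ IsConj (d.z : G) (d.y : G) := by
  haveI : Fact (Nat.Prime 2) := ⟨Nat.prime_two⟩
  obtain ⟨hT', hzT, i, huT⟩ := four_in S d T hT hTS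
  intro hzy
  set u := ((d.x ^ (2 * i) * d.y : ↥(S : Subgroup G)) : G) with hu
  obtain ⟨g, hg⟩ := isConj_iff.mp (hzy.trans (isConj_coe (conj_y S d i))).symm
  -- a conjugator inside the normalizer of `T`
  set Cz := centralizer ({(d.z : G)} : Set G) with hCz
  have hSC : (S : Subgroup G) ≤ Cz := fun s hs => mem_centralizer_singleton_iff.mpr
    (congrArg Subtype.val (d.z_central ⟨s, hs⟩).eq)
  set T₁ := T.map (MulAut.conj g).toMonoidHom with hT₁
  have hT₁C : T₁ ≤ Cz := by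
    rintro _ ⟨t, ht, rfl⟩
    rw [hCz, mem_centralizer_singleton_iff, ← hg]
    show g * t * g⁻¹ * (g * u * g⁻¹) = g * u * g⁻¹ * (g * t * g⁻¹)
    haveI := hT
    rw [conj_mul, conj_mul, Cfsg.Lib.Invol.klein_comm ht huT]
  have hT₁p : IsPGroup 2 ↥T₁ := (S.isPGroup'.to_le hTS).map _
  obtain ⟨R, hR⟩ := (hT₁p.comap_subtype (K := Cz)).exists_le_sylow
  obtain ⟨k, hk⟩ := MulAction.exists_smul_eq ↥Cz R (S.subtype hSC)
  have hkz : (k : G) * (d.z : G) * (k : G)⁻¹ = d.z := centralizer_singleton_mem.mp k.2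
  set T₂ := T.map (MulAut.conj ((k : G) * g)).toMonoidHom with hT₂
  have hT₂S : T₂ ≤ (S : Subgroup G) := by
    rintro _ ⟨t, ht, rfl⟩
    have h0 : g * t * g⁻¹ ∈ T₁ := ⟨t, ht, rfl⟩
    have h1 : k * ⟨_, hT₁C h0⟩ * k⁻¹ ∈ ((S.subtype hSC : Sylow 2 ↥Cz) : Subgroup ↥Cz) := by
      rw [← hk, Sylow.coe_subgroup_smul, Subgroup.mem_smul_pointwise_iff_exists]
      exact ⟨_, hR h0, rfl⟩
    rw [Sylow.coe_subtype, mem_subgroupOf] at h1
    simpa [mul_assoc] using h1
  have hT₂k : IsKleinFour ↥T₂ := by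
    have e := T.equivMapOfInjective (MulAut.conj ((k : G) * g)).toMonoidHom (MulAut.conj _).injective
    exact ⟨by rw [← Nat.card_congr e.toEquiv]; exact hT.card_four,
      by rw [← Monoid.exponent_eq_of_mulEquiv e]; exact hT.exponent_two⟩
  obtain ⟨hT₂', -, -⟩ := four_in S d T₂ hT₂k hT₂S
  obtain ⟨s, hs⟩ := d.four_conj hT₂' hT'
  set b := (s : G) * ((k : G) * g) with hb
  have hbN : b ∈ normalizer (T : Set G) := by
    rw [mem_normalizer_iff_map_conj_eq]
    refine eq_of_le_of_card_ge ?_ ?_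
    · rintro _ ⟨t, ht, rfl⟩
      have h0 : (k : G) * g * t * ((k : G) * g)⁻¹ ∈ T₂ := ⟨t, ht, rfl⟩
      have h1 : s * ⟨_, hT₂S h0⟩ * s⁻¹ ∈ T.subgroupOf (S : Subgroup G) := by
        rw [← hs]; exact ⟨_, mem_subgroupOf.mpr h0, rfl⟩
      show b * t * b⁻¹ ∈ T
      simpa [hb, mul_assoc] using mem_subgroupOf.mp h1
    · rw [card_map_of_injective (MulAut.conj b).injective]
  have hbu : b * u * b⁻¹ = d.z := by
    calc b * u * b⁻¹ = (s : G) * ((k : G) * (g * u * g⁻¹) * (k : G)⁻¹) * (s : G)⁻¹ := by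
          rw [hb]; group
      _ = d.z := by rw [hg, hkz, centralizer_singleton_mem.mp (hSC s.2)]
  have huz : u ≠ d.z := fun e => d.ne_mul_y (2 * SD.P n) (2 * i) (Subtype.ext e.symm)
  -- an element of `S` acting nontrivially
  have hr := d.four_relIndex hT'
  have hlt : ¬ normalizer ((T.subgroupOf (S : Subgroup G) : Subgroup ↥(S : Subgroup G)) : Set ↥(S : Subgroup G)) ≤
      T.subgroupOf (S : Subgroup G) := fun h => by rw [relIndex_eq_one.mpr h] at hr; omega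
  obtain ⟨s₀, hs₀N, hs₀T⟩ := SetLike.not_le_iff_exists.mp hlt
  have hs₀C : (s₀ : G) ∉ centralizer (T : Set G) := by
    intro h
    apply hs₀T
    rw [← d.four_centralizer hT', mem_centralizer_iff]
    intro t ht
    exact Subtype.ext (mem_centralizer_iff.mp h _ (mem_subgroupOf.mp ht))
  have hbC : b ∉ centralizer (T : Set G) := by
    intro h
    apply huz
    rw [← hbu, ← mem_centralizer_iff.mp h u huT, mul_inv_cancel_right]
  have hfix := mem_centralizer_iff.mp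
    (mul_mem_of_relIndex_two h2 (mem_normalizer_coe S hTS hs₀N) hbN hs₀C hbC) _ hzT
  have hbz : b * d.z * b⁻¹ = d.z := by
    calc b * (d.z : G) * b⁻¹ = b * ((s₀ : G) * d.z * (s₀ : G)⁻¹) * b⁻¹ := by
          rw [centralizer_singleton_mem.mp (hSC s₀.2)]
      _ = b * (s₀ : G) * d.z * (b * (s₀ : G))⁻¹ := by group
      _ = (d.z : G) * (b * s₀) * (b * (s₀ : G))⁻¹ := by rw [hfix]
      _ = d.z := mul_inv_cancel_right _ _
  exact huz (mul_left_cancel (mul_right_cancel (hbu.trans hbz.symm)))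

theorem isConj_z_of_six (T : Subgroup G) (hT : IsKleinFour T) (hTS : T ≤ (S : Subgroup G))
    (h6 : (centralizer (T : Set G)).relIndex (normalizer (T : Set G)) = 6) :
    IsConj (d.z : G) (d.y : G) := by
  obtain ⟨hT', hzT, i, huT⟩ := four_in S d T hT hTS
  set u := ((d.x ^ (2 * i) * d.y : ↥(S : Subgroup G)) : G) with hu
  have hyu : IsConj (d.y : G) u := isConj_coe (conj_y S d i)
  haveI := hT
  let f := T.normalizerMonoidHom
  haveI : Fact (Nat.Prime 3) := ⟨Nat.prime_three⟩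
  have h3 : 3 ∣ Nat.card f.range := by
    have hr : Nat.card f.range = (centralizer (T : Set G)).relIndex (normalizer (T : Set G)) := by
      rw [Subgroup.relIndex, ← T.normalizerMonoidHom_ker, Subgroup.index_ker]
    rw [hr, h6]; norm_num
  haveI : Finite ↥T := IsKleinFour.instFinite
  obtain ⟨σ, hσ⟩ := exists_prime_orderOf_dvd_card' 3 h3
  obtain ⟨g, hg⟩ := σ.2
  obtain ⟨j, hj⟩ := Cfsg.Agent.S1255.klein_transitive (σ : MulAut ↥T)
    (by rw [Subgroup.orderOf_coe, hσ]) (a := ⟨_, hzT⟩) (b := ⟨_, huT⟩)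
    (fun e => d.z_ne_one (Subtype.ext (congrArg Subtype.val e :)))
    (fun e => d.ne_mul_y 0 (2 * i)
      ((zpow_zero d.x).trans (Subtype.ext (congrArg (fun q : ↥T => (q : G)) e).symm)))
  rw [← hg, ← map_pow] at hj
  exact (isConj_iff.mpr
    ⟨((g ^ j : ↥(normalizer (T : Set G))) : G), congrArg Subtype.val hj⟩).trans hyu.symm


theorem quat_in (Q : Subgroup G) (hQS : Q ≤ (S : Subgroup G)) (eQ : Q ≃* QuaternionGroup 2) :
    Nonempty (↥(Q.subgroupOf (S : Subgroup G)) ≃* QuaternionGroup 2) ∧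
      ∃ i : ℤ, ∀ q, q ∈ Q.subgroupOf (S : Subgroup G) ↔ ∃ j : ℤ, q = d.x ^ (SD.P n * j) ∨
        q = d.x ^ (SD.P n * j) * (d.x ^ (2 * i + 1) * d.y) :=
  ⟨⟨(subgroupOfEquivOfLe hQS).trans eQ⟩, d.quat_structure ⟨(subgroupOfEquivOfLe hQS).trans eQ⟩⟩

/-- The cyclic subgroup of order four in the centre of the maximal cyclic subgroup. -/
def K₄ : Subgroup G := zpowers ((d.x ^ SD.P n : ↥(S : Subgroup G)) : G)

theorem mem_K₄ {q : G} : q ∈ K₄ S d ↔ ∃ j : ℤ, ((d.x ^ (SD.P n * j) : ↥(S : Subgroup G)) : G) = q := by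
  simp only [K₄, mem_zpowers_iff, zpow_mul, Subgroup.coe_zpow]

theorem le_normalizer_K₄ : (S : Subgroup G) ≤ normalizer (K₄ S d : Set G) := by
  intro s hs
  rw [mem_normalizer_iff_map_conj_eq]
  refine eq_of_le_of_card_ge ?_ ?_
  · rw [K₄, MonoidHom.map_zpowers, zpowers_le]
    refine (mem_K₄ S d).mpr ?_
    obtain ⟨l, hl | hl⟩ := d.normal_form ⟨s, hs⟩
    · refine ⟨1, ?_⟩
      have e : (⟨s, hs⟩ : ↥(S : Subgroup G)) * d.x ^ SD.P n * (⟨s, hs⟩)⁻¹ =
          d.x ^ (SD.P n * 1) := by rw [hl]; group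
      exact (congrArg Subtype.val e).symm
    · refine ⟨2 * SD.P n - 1, ?_⟩
      have e : (⟨s, hs⟩ : ↥(S : Subgroup G)) * d.x ^ SD.P n * (⟨s, hs⟩)⁻¹ =
          d.x ^ (SD.P n * (2 * SD.P n - 1)) := by
        rw [hl, show d.x ^ l * d.y * d.x ^ SD.P n * (d.x ^ l * d.y)⁻¹ =
            d.x ^ l * (d.y * d.x ^ SD.P n * d.y⁻¹) * (d.x ^ l)⁻¹ by group, d.conj_zpow,
          mul_comm (SD.P n)]
        group
      exact (congrArg Subtype.val e).symm
  · rw [card_map_of_injective (MulAut.conj s).injective]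

theorem not_isConj_four_of_two (Q : Subgroup G) (hQS : Q ≤ (S : Subgroup G))
    (eQ : Q ≃* QuaternionGroup 2)
    (h2 : (Q ⊔ centralizer (Q : Set G)).relIndex (normalizer (Q : Set G)) = 2) :
    ¬ IsConj ((d.x ^ SD.P n : ↥(S : Subgroup G)) : G) ((d.x * d.y : ↥(S : Subgroup G)) : G) := by
  haveI : Fact (Nat.Prime 2) := ⟨Nat.prime_two⟩
  obtain ⟨hQ', i, hmem⟩ := quat_in S d Q hQS eQ
  intro hij
  set b₀ := ((d.x ^ (2 * i + 1) * d.y : ↥(S : Subgroup G)) : G) with hb₀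
  obtain ⟨g, hg⟩ := isConj_iff.mp (hij.trans (isConj_coe (conj_xy S d i))).symm
  have hb₀Q : b₀ ∈ Q := mem_subgroupOf.mp ((hmem _).mpr ⟨0, Or.inr (by rw [mul_zero, zpow_zero, one_mul])⟩)
  have hiQ : ∀ j : ℤ, ((d.x ^ (SD.P n * j) : ↥(S : Subgroup G)) : G) ∈ Q := fun j =>
    mem_subgroupOf.mp ((hmem _).mpr ⟨j, Or.inl rfl⟩)
  have hb₀K : b₀ ∉ K₄ S d := fun h => by
    obtain ⟨j, hj⟩ := (mem_K₄ S d).mp h
    exact d.ne_mul_y _ _ (Subtype.ext hj)
  set N := normalizer (K₄ S d : Set G) with hN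
  set Q₁ := Q.map (MulAut.conj g).toMonoidHom with hQ₁
  have hQ₁N : Q₁ ≤ N := by
    rintro _ ⟨q, hq, rfl⟩
    have hq8 : ∀ a c : QuaternionGroup 2, c ^ 2 ≠ 1 → a * c * a⁻¹ = c ∨ a * c * a⁻¹ = c⁻¹ := by decide
    have hb2 : (eQ ⟨b₀, hb₀Q⟩) ^ 2 ≠ 1 := by
      intro e
      rw [← map_pow, eQ.map_eq_one_iff] at e
      have h4 : orderOf b₀ = 4 := by rw [hb₀, Subgroup.orderOf_coe, d.orderOf_odd]
      have h2 : orderOf b₀ ∣ 2 :=
        orderOf_dvd_of_pow_eq_one (by simpa using congrArg Subtype.val e)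
      rw [h4] at h2; omega
    have hqb : q * b₀ * q⁻¹ = b₀ ∨ q * b₀ * q⁻¹ = b₀⁻¹ := by
      rcases hq8 (eQ ⟨q, hq⟩) (eQ ⟨b₀, hb₀Q⟩) hb2 with h | h
      · left
        rw [← map_inv, ← map_mul, ← map_mul] at h
        exact congrArg Subtype.val (eQ.injective h)
      · right
        rw [← map_inv, ← map_inv, ← map_mul, ← map_mul] at h
        exact congrArg Subtype.val (eQ.injective h)
    rw [hN, mem_normalizer_iff_map_conj_eq, K₄, MonoidHom.map_zpowers, ← hg]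
    show zpowers (g * q * g⁻¹ * (g * b₀ * g⁻¹) * (g * q * g⁻¹)⁻¹) = zpowers (g * b₀ * g⁻¹)
    have e : g * q * g⁻¹ * (g * b₀ * g⁻¹) * (g * q * g⁻¹)⁻¹ = g * (q * b₀ * q⁻¹) * g⁻¹ := by group
    rw [e]
    rcases hqb with h | h
    · rw [h]
    · rw [h, ← conj_inv, zpowers_inv]
  have hQ₁p : IsPGroup 2 ↥Q₁ := (S.isPGroup'.to_le hQS).map _
  have hSN : (S : Subgroup G) ≤ N := le_normalizer_K₄ S d
  obtain ⟨R, hR⟩ := (hQ₁p.comap_subtype (K := N)).exists_le_sylow
  obtain ⟨k, hk⟩ := MulAction.exists_smul_eq ↥N R (S.subtype hSN)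
  set Q₂ := Q.map (MulAut.conj ((k : G) * g)).toMonoidHom with hQ₂
  have hQ₂S : Q₂ ≤ (S : Subgroup G) := by
    rintro _ ⟨q, hq, rfl⟩
    have h0 : g * q * g⁻¹ ∈ Q₁ := ⟨q, hq, rfl⟩
    have h1 : k * ⟨_, hQ₁N h0⟩ * k⁻¹ ∈ ((S.subtype hSN : Sylow 2 ↥N) : Subgroup ↥N) := by
      rw [← hk, Sylow.coe_subgroup_smul, Subgroup.mem_smul_pointwise_iff_exists]
      exact ⟨_, hR h0, rfl⟩
    rw [Sylow.coe_subtype, mem_subgroupOf] at h1
    simpa [mul_assoc] using h1
  have e₂ := (subgroupOfEquivOfLe hQ₂S).trans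
    ((Q.equivMapOfInjective (MulAut.conj ((k : G) * g)).toMonoidHom (MulAut.conj _).injective).symm.trans eQ)
  obtain ⟨s, hs⟩ := d.quat_conj ⟨e₂⟩ hQ'
  set b := (s : G) * ((k : G) * g) with hb
  have hbN : b ∈ normalizer (Q : Set G) := by
    rw [mem_normalizer_iff_map_conj_eq]
    refine eq_of_le_of_card_ge ?_ ?_
    · rintro _ ⟨t, ht, rfl⟩
      have h0 : (k : G) * g * t * ((k : G) * g)⁻¹ ∈ Q₂ := ⟨t, ht, rfl⟩
      have h1 : s * ⟨_, hQ₂S h0⟩ * s⁻¹ ∈ Q.subgroupOf (S : Subgroup G) := by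
        rw [← hs]; exact ⟨_, mem_subgroupOf.mpr h0, rfl⟩
      show b * t * b⁻¹ ∈ Q
      simpa [hb, mul_assoc] using mem_subgroupOf.mp h1
    · rw [card_map_of_injective (MulAut.conj b).injective]
  have hbK : b * b₀ * b⁻¹ ∈ K₄ S d := by
    have e : b * b₀ * b⁻¹ = (s : G) * ((k : G) * (g * b₀ * g⁻¹) * (k : G)⁻¹) * (s : G)⁻¹ := by
      rw [hb]; group
    rw [e, hg]
    exact (mem_normalizer_iff.mp (hSN s.2) _).mp
      ((mem_normalizer_iff.mp k.2 _).mp (mem_zpowers _))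
  have hbN' : b ∉ normalizer (K₄ S d : Set G) := fun h => hb₀K ((mem_normalizer_iff.mp h b₀).mpr hbK)
  have hQC : Q ⊔ centralizer (Q : Set G) ≤ normalizer (K₄ S d : Set G) := by
    refine sup_le (hQS.trans hSN) fun c hc => ?_
    rw [mem_normalizer_iff_map_conj_eq, K₄, MonoidHom.map_zpowers]
    have := mem_centralizer_iff.mp hc _ (hiQ 1)
    rw [mul_one] at this
    show zpowers (c * _ * c⁻¹) = _
    rw [← this, mul_inv_cancel_right]
  have hr := d.quat_relIndex hQ'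
  have hlt : ¬ normalizer ((Q.subgroupOf (S : Subgroup G) : Subgroup ↥(S : Subgroup G)) : Set ↥(S : Subgroup G)) ≤
      Q.subgroupOf (S : Subgroup G) := fun h => by rw [relIndex_eq_one.mpr h] at hr; omega
  obtain ⟨s₀, hs₀N, hs₀Q⟩ := SetLike.not_le_iff_exists.mp hlt
  have hs₀ : (s₀ : G) ∉ Q ⊔ centralizer (Q : Set G) := by
    intro h
    obtain ⟨a, ha, c, hc, hac⟩ := Set.mem_mul.mp (Cfsg.Agent.S1203.mem_mul_centralizer Q _ h)
    have hcS : c ∈ (S : Subgroup G) := by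
      have := (S : Subgroup G).mul_mem ((S : Subgroup G).inv_mem (hQS ha)) s₀.2
      rw [← hac] at this
      simpa using this
    have : (⟨c, hcS⟩ : ↥(S : Subgroup G)) ∈ centralizer
        ((Q.subgroupOf (S : Subgroup G) : Subgroup ↥(S : Subgroup G)) : Set ↥(S : Subgroup G)) := by
      rw [mem_centralizer_iff]
      intro t ht
      exact Subtype.ext (mem_centralizer_iff.mp hc _ (mem_subgroupOf.mp ht))
    rw [d.quat_centralizer hQ'] at this
    exact hs₀Q (mem_subgroupOf.mpr (hac ▸ Q.mul_mem ha (mem_subgroupOf.mp (map_subtype_le _ this))))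
  have hprod := hQC (mul_mem_of_relIndex_two h2 (mem_normalizer_coe S hQS hs₀N) hbN hs₀
    (fun h => hbN' (hQC h)))
  exact hbN' ((Subgroup.mul_mem_cancel_right _ (hSN s₀.2)).mp hprod)

theorem isConj_four_of_six (Q : Subgroup G) (hQS : Q ≤ (S : Subgroup G))
    (eQ : Q ≃* QuaternionGroup 2)
    (h6 : (Q ⊔ centralizer (Q : Set G)).relIndex (normalizer (Q : Set G)) = 6) :
    IsConj ((d.x ^ SD.P n : ↥(S : Subgroup G)) : G) ((d.x * d.y : ↥(S : Subgroup G)) : G) := by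
  obtain ⟨hQ', i, hmem⟩ := quat_in S d Q hQS eQ
  set a := ((d.x ^ SD.P n : ↥(S : Subgroup G)) : G) with ha
  set b₀ := ((d.x ^ (2 * i + 1) * d.y : ↥(S : Subgroup G)) : G) with hb₀
  have haQ : a ∈ Q := mem_subgroupOf.mp ((hmem _).mpr ⟨1, Or.inl (by rw [mul_one])⟩)
  have hb₀Q : b₀ ∈ Q := mem_subgroupOf.mp ((hmem _).mpr ⟨0, Or.inr (by rw [mul_zero, zpow_zero, one_mul])⟩)
  by_contra hno
  set K := K₄ S d with hKdef
  have hdec : ∀ q ∈ Q, ∃ j : ℤ, q = a ^ j ∨ q = a ^ j * b₀ := by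
    intro q hq
    obtain ⟨j, hj | hj⟩ := (hmem ⟨q, hQS hq⟩).mp (mem_subgroupOf.mpr hq)
    · exact ⟨j, Or.inl (by rw [ha, ← Subgroup.coe_zpow, ← zpow_mul, ← hj])⟩
    · exact ⟨j, Or.inr (by rw [ha, hb₀, ← Subgroup.coe_zpow, ← zpow_mul, ← Subgroup.coe_mul, ← hj])⟩
  -- every element of the normalizer fixes `⟨a⟩`
  have hfix : ∀ g ∈ normalizer (Q : Set G), g * a * g⁻¹ = a ∨ g * a * g⁻¹ = a⁻¹ := by
    intro g hg
    have hgQ : g * a * g⁻¹ ∈ Q := (mem_normalizer_iff.mp hg a).mp haQ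
    have hord : orderOf (⟨_, hQS hgQ⟩ : ↥(S : Subgroup G)) = 4 := by
      rw [Subgroup.orderOf_mk, show g * a * g⁻¹ = MulAut.conj g a from rfl,
        MulEquiv.orderOf_eq, ha, Subgroup.orderOf_coe, orderOf_iG S d]
    rcases d.order_four_cases hord with h | h | ⟨l, h⟩
    · exact Or.inl (congrArg Subtype.val h)
    · refine Or.inr ((congrArg Subtype.val h).trans ?_)
      rw [ha, zpow_neg]; rfl
    · exfalso
      apply hno
      have h' : g * a * g⁻¹ = ((d.x ^ (2 * l + 1) * d.y : ↥(S : Subgroup G)) : G) := congrArg Subtype.val h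
      exact (isConj_iff.mpr ⟨g, h'⟩).trans (isConj_coe (conj_xy S d l)).symm
  have hsq : ∀ g ∈ normalizer (Q : Set G), g * g ∈ Q ⊔ centralizer (Q : Set G) := by
    intro g hg
    have hga : g * g * a * (g * g)⁻¹ = a := by
      have e : g * g * a * (g * g)⁻¹ = g * (g * a * g⁻¹) * g⁻¹ := by group
      rw [e]
      rcases hfix g hg with h | h <;> rw [h]
      · exact h
      · rw [← conj_inv, h, inv_inv]
    have hbQ : g * b₀ * g⁻¹ ∈ Q := (mem_normalizer_iff.mp hg b₀).mp hb₀Q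
    have hcomma : ∀ j : ℤ, g * a ^ j * g⁻¹ = (g * a * g⁻¹) ^ j := fun j => conj_zpow.symm
    obtain ⟨j, hj | hj⟩ := hdec _ hbQ
    · exfalso
      have h1 : b₀ = g⁻¹ * a ^ j * g := by rw [← hj]; group
      have h2 : b₀ ∈ K := by
        rcases hfix g hg with h | h
        · have : g * a ^ j * g⁻¹ = a ^ j := by rw [hcomma, h]
          have h3 : g⁻¹ * a ^ j * g = a ^ j := by
            calc g⁻¹ * a ^ j * g = g⁻¹ * (g * a ^ j * g⁻¹) * g := by rw [this]
              _ = a ^ j := by group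
          rw [h1, h3]; exact zpow_mem (mem_zpowers _) j
        · have : g * a ^ (-j) * g⁻¹ = a ^ j := by rw [hcomma, h, inv_zpow, ← zpow_neg, neg_neg]
          have h3 : g⁻¹ * a ^ j * g = a ^ (-j) := by rw [← this]; group
          rw [h1, h3]; exact zpow_mem (mem_zpowers _) _
      obtain ⟨l, hl⟩ := (mem_K₄ S d).mp h2
      exact d.ne_mul_y _ _ (Subtype.ext hl)
    -- `g ^ 2` multiplies `b₀` by an even power of `a`
    have hgb : ∃ m : ℤ, g * g * b₀ * (g * g)⁻¹ = a ^ (2 * m) * b₀ := by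
      have e : g * g * b₀ * (g * g)⁻¹ = g * (g * b₀ * g⁻¹) * g⁻¹ := by group
      rcases hfix g hg with h | h
      · refine ⟨j, ?_⟩
        rw [e, hj, ← conj_mul, hcomma, h, hj, ← mul_assoc, ← zpow_add, two_mul]
      · refine ⟨0, ?_⟩
        rw [e, hj, ← conj_mul, hcomma, h, hj, ← mul_assoc, inv_zpow, inv_mul_cancel, mul_zero,
          zpow_zero]
    obtain ⟨m, hm⟩ := hgb
    -- the same action is induced by `a ^ m`
    have hz : ∀ k : ℤ, b₀ * a ^ k * b₀⁻¹ = a ^ (-k) := by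
      intro k
      have h1 : b₀ * a * b₀⁻¹ = a ^ (2 * SD.P n - 1) := by
        rw [ha, hb₀, ← Subgroup.coe_zpow, ← Subgroup.coe_inv, ← Subgroup.coe_mul, ← Subgroup.coe_mul]
        congr 1
        rw [show d.x ^ (2 * i + 1) * d.y * d.x ^ SD.P n * (d.x ^ (2 * i + 1) * d.y)⁻¹ =
            d.x ^ (2 * i + 1) * (d.y * d.x ^ SD.P n * d.y⁻¹) * (d.x ^ (2 * i + 1))⁻¹ by group,
          d.conj_zpow, ← zpow_mul]
        group
      have h4 : a ^ (4 : ℕ) = 1 := by
        rw [← orderOf_iG S d, ha, ← Subgroup.orderOf_coe]; exact pow_orderOf_eq_one _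
      have h2 : a ^ (2 * SD.P n - 1) = a⁻¹ := by
        obtain ⟨r, hr⟩ := d.P_even
        rw [hr, show 2 * (r + r) - 1 = (4 : ℤ) * r + -1 by ring, zpow_add, zpow_mul,
          show (4 : ℤ) = ((4 : ℕ) : ℤ) from rfl, zpow_natCast, h4, one_zpow, one_mul, zpow_neg_one]
      rw [← conj_zpow, h1, h2, inv_zpow, zpow_neg]
    have hab : a ^ m * b₀ * (a ^ m)⁻¹ = a ^ (2 * m) * b₀ := by
      have h1 := hz (-m)
      rw [neg_neg] at h1
      calc a ^ m * b₀ * (a ^ m)⁻¹ = a ^ m * (b₀ * a ^ (-m) * b₀⁻¹) * b₀ := by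
            rw [zpow_neg]; group
        _ = a ^ (2 * m) * b₀ := by rw [h1, ← zpow_add, two_mul]
    set c := (a ^ m)⁻¹ * (g * g) with hc
    have hca : c * a * c⁻¹ = a := by
      calc c * a * c⁻¹ = (a ^ m)⁻¹ * (g * g * a * (g * g)⁻¹) * a ^ m := by rw [hc]; group
        _ = a := by rw [hga]; group
    have hcb : c * b₀ * c⁻¹ = b₀ := by
      calc c * b₀ * c⁻¹ = (a ^ m)⁻¹ * (g * g * b₀ * (g * g)⁻¹) * a ^ m := by rw [hc]; group
        _ = (a ^ m)⁻¹ * (a ^ m * b₀ * (a ^ m)⁻¹) * a ^ m := by rw [hm, hab]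
        _ = b₀ := by group
    have hcC : c ∈ centralizer (Q : Set G) := by
      rw [mem_centralizer_iff]
      intro q hq
      have ha' : Commute c a := mul_inv_eq_iff_eq_mul.mp hca
      have hb' : Commute c b₀ := mul_inv_eq_iff_eq_mul.mp hcb
      obtain ⟨j, rfl | rfl⟩ := hdec q hq
      · exact (ha'.zpow_right j).eq.symm
      · exact ((ha'.zpow_right j).mul_right hb').eq.symm
    have : g * g = a ^ m * c := by rw [hc, mul_inv_cancel_left]
    rw [this]
    exact mul_mem (mem_sup_left (zpow_mem haQ m)) (mem_sup_right hcC)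
  -- so the quotient has exponent two, but its order is six
  haveI : Fact (Nat.Prime 3) := ⟨Nat.prime_three⟩
  set N := normalizer (Q : Set G) with hNdef
  set H := (Q ⊔ centralizer (Q : Set G)).subgroupOf N with hH
  haveI : H.Normal := by
    refine normal_subgroupOf_of_le_normalizer ?_
    intro t ht
    rw [mem_normalizer_iff_map_conj_eq, Subgroup.map_sup, mem_normalizer_iff_map_conj_eq.mp ht]
    exact congrArg (fun W => Q ⊔ W) (Cfsg.Agent.S1254.centralizer_map Q ht)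
  have hcard : 3 ∣ Nat.card (↥N ⧸ H) := by
    rw [← Subgroup.index_eq_card, show H.index = 6 from h6]; norm_num
  obtain ⟨w, hw⟩ := exists_prime_orderOf_dvd_card' 3 hcard
  induction w using QuotientGroup.induction_on with
  | _ g =>
    have h2 : (QuotientGroup.mk g : ↥N ⧸ H) ^ 2 = 1 := by
      rw [← QuotientGroup.mk_pow, QuotientGroup.eq_one_iff, hH, mem_subgroupOf, pow_two]
      exact hsq _ g.2
    have := orderOf_dvd_of_pow_eq_one h2
    rw [hw] at this
    omega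

end

end Cfsg.Lib.TwoGroup.QDFusion
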