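import Cfsg.Agent.Lib.TwoGroup.WreathedFusion
import Cfsg.Agent.Lib.TwoGroup.QDFusion

/-!
Standard data for fusion in groups with wreathed Sylow two-subgroups.
-/

set_option autoImplicit false
set_option linter.unusedSectionVars false

namespace Cfsg.Lib.TwoGroup.WreathedFusion

open Subgroup
open scoped Pointwise
open Cfsg.Lib.TwoGroup

variable {G : Type*} [Group G] [Finite G] {n : ℕ} (S : Sylow 2 G) (d : W ↥(S : Subgroup G) n)

theorem eq_AG {U : Subgroup G} (hUS : U ≤ (S : Subgroup G)) (hUab : IsMulCommutative U)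
    (hUcard : Nat.card U = 2 ^ (2 * n)) : U = AG S d := by
  have h : U.subgroupOf (S : Subgroup G) = d.A := by
    refine d.abelian_unique ⟨⟨fun a b => ?_⟩⟩ ?_
    · apply Subtype.ext
      apply Subtype.ext
      exact congrArg (fun q : ↥U => (q : G))
        (hUab.is_comm.comm (⟨_, mem_subgroupOf.mp a.2⟩ : ↥U) ⟨_, mem_subgroupOf.mp b.2⟩)
    · rw [Nat.card_congr (subgroupOfEquivOfLe hUS).toEquiv, hUcard]
  rw [AG, ← h, map_subgroupOf_eq_of_le hUS]

theorem exists_X {Q : Subgroup G} (hQS : Q ≤ (S : Subgroup G)) (eQ : Q ≃* QuaternionGroup 2) :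
    ∃ c X, d.IsX c X ∧
      Q ⊔ (center ↥(S : Subgroup G)).map (S : Subgroup G).subtype = XG S X := by
  obtain ⟨c, hc⟩ := d.isX_of_quat (Q' := Q.subgroupOf (S : Subgroup G))
    ⟨(subgroupOfEquivOfLe hQS).trans eQ⟩
  exact ⟨c, _, hc, by rw [XG, Subgroup.map_sup, map_subgroupOf_eq_of_le hQS]⟩

include d in
theorem XG_two_all {c : ℤ} {X : Subgroup ↥(S : Subgroup G)} (hX : d.IsX c X)
    (h2 : (XG S X ⊔ centralizer (XG S X : Set G)).relIndex (normalizer (XG S X : Set G)) = 2)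
    {c' : ℤ} {X' : Subgroup ↥(S : Subgroup G)} (hX' : d.IsX c' X') {g : G}
    (hg : g ∈ normalizer (XG S X' : Set G)) (hodd : Odd (orderOf g)) :
    g ∈ centralizer (XG S X' : Set G) := by
  obtain ⟨s, hs⟩ := W.IsX.conj d hX hX'
  have hmap : (XG S X).map (MulAut.conj (s : G)).toMonoidHom = XG S X' := by
    rw [XG, XG, ← hs, Subgroup.map_map, Subgroup.map_map]
    rfl
  have hg' : (s : G)⁻¹ * g * s ∈ normalizer (XG S X : Set G) := by
    rw [mem_normalizer_iff]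
    intro x
    have e : ∀ y : G, y ∈ XG S X ↔ (s : G) * y * (s : G)⁻¹ ∈ XG S X' := by
      intro y
      rw [← hmap]
      exact (mem_map_iff_mem (MulAut.conj (s : G)).injective).symm
    rw [e x, e ((s : G)⁻¹ * g * s * x * ((s : G)⁻¹ * g * s)⁻¹)]
    have e2 : (s : G) * ((s : G)⁻¹ * g * s * x * ((s : G)⁻¹ * g * s)⁻¹) * (s : G)⁻¹ =
        g * ((s : G) * x * (s : G)⁻¹) * g⁻¹ := by group
    rw [e2]
    exact mem_normalizer_iff.mp hg _
  have ho : Odd (orderOf ((s : G)⁻¹ * g * s)) := by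
    have : (s : G)⁻¹ * g * s = MulAut.conj (s : G)⁻¹ g := by simp
    rw [this, MulEquiv.orderOf_eq]
    exact hodd
  have h := XG_two S d hX h2 hg' ho
  rw [mem_centralizer_iff]
  intro y hy
  rw [← hmap] at hy
  obtain ⟨x, hx, rfl⟩ := hy
  have h1 := mem_centralizer_iff.mp h x hx
  show (s : G) * x * (s : G)⁻¹ * g = g * ((s : G) * x * (s : G)⁻¹)
  calc (s : G) * x * (s : G)⁻¹ * g = (s : G) * (x * ((s : G)⁻¹ * g * s)) * (s : G)⁻¹ := by group
    _ = (s : G) * (((s : G)⁻¹ * g * s) * x) * (s : G)⁻¹ := by rw [h1]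
    _ = g * ((s : G) * x * (s : G)⁻¹) := by group

/-- The fusion invariants of a group with wreathed Sylow subgroup. -/
theorem invariant {α : Type*} (χ : G → α)
    (hS : ∀ s ∈ (S : Subgroup G), ∀ x ∈ (S : Subgroup G), χ (s * x * s⁻¹) = χ x)
    (hA : ∀ g ∈ normalizer (AG S d : Set G), Odd (orderOf g) → ∀ x ∈ AG S d, χ (g * x * g⁻¹) = χ x)
    (hX : ∀ c X, d.IsX c X → ∀ g ∈ normalizer (XG S X : Set G), Odd (orderOf g) →
      ∀ x ∈ XG S X, χ (g * x * g⁻¹) = χ x) :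
    ∀ x ∈ (S : Subgroup G), ∀ g : G, g * x * g⁻¹ ∈ (S : Subgroup G) → χ (g * x * g⁻¹) = χ x := by
  refine FusionInvariant.invariant S χ hS fun D hC hP g hg hodd x hx => ?_
  rcases d.aut_cases hC hP with rfl | ⟨-, c, hc⟩
  · exact hA g hg hodd x hx
  · exact hX c D hc g hg hodd x hx

theorem fix_of_centralizer {X : Subgroup G} {g x : G} (hg : g ∈ centralizer (X : Set G)) (hx : x ∈ X) :
    g * x * g⁻¹ = x := by
  rw [← mem_centralizer_iff.mp hg x hx, mul_inv_cancel_right]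

/-- The three classes of involutions of the Sylow subgroup cover those of the group. -/
theorem involution_classes (t : G) (ht : orderOf t = 2) :
    IsConj t ((d.e (W.H n) (W.H n) : ↥(S : Subgroup G)) : G) ∨
      IsConj t ((d.e (W.H n) 0 : ↥(S : Subgroup G)) : G) ∨ IsConj t (d.z : G) := by
  obtain ⟨v, htv, hv⟩ := QDFusion.conj_into_sylow S (k := 1) (by simpa using ht)
  rw [pow_one] at hv
  rcases d.involution_cases hv with rfl | rfl | rfl | ⟨a, rfl⟩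
  · exact Or.inr (Or.inl htv)
  · exact Or.inr (Or.inl (htv.trans (isConj_iff.mpr ⟨(d.z : G), z_conj_u S d⟩).symm))
  · exact Or.inl htv
  · refine Or.inr (Or.inr (htv.trans (QDFusion.isConj_coe ?_).symm))
    refine isConj_iff.mpr ⟨d.e a 0, ?_⟩
    have h := d.conj_e_ez a 0 0 0
    rw [d.e_zero, one_mul] at h
    rw [h]
    congr 2 <;> ring

theorem z_conj_ez (a : ℤ) : IsConj (d.z : G) ((d.e a (-a) * d.z : ↥(S : Subgroup G)) : G) := by
  refine QDFusion.isConj_coe (isConj_iff.mpr ⟨d.e a 0, ?_⟩)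
  have h := d.conj_e_ez a 0 0 0
  rw [d.e_zero, one_mul] at h
  rw [h]
  congr 2 <;> ring

theorem u_isConj_z {c : ℤ} {X : Subgroup ↥(S : Subgroup G)} (hX : d.IsX c X)
    (h6 : (XG S X ⊔ centralizer (XG S X : Set G)).relIndex (normalizer (XG S X : Set G)) = 6) :
    IsConj ((d.e (W.H n) 0 : ↥(S : Subgroup G)) : G) (d.z : G) := by
  obtain ⟨g, hg, -, v, -, hvg, hvA, -⟩ := XG_six S d hX h6
  set i₀ := d.e (W.Q n) (W.Q n) with hi₀
  have hu : d.e (W.H n) 0 = d.qa * i₀ := by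
    rw [hi₀, W.qa, d.e_mul, d.e_eq, d.Q_facts.2.1]
    exact ⟨⟨0, by ring⟩, ⟨0, by ring⟩⟩
  have hi₀Z : (i₀ : G) ∈ ZG S := ⟨i₀, d.mem_center_e.mpr (by simp), rfl⟩
  have hgi : g * (i₀ : G) * g⁻¹ = i₀ := fix_of_centralizer (normalizer_XG_center S d hX hg) hi₀Z
  have h1 : g * ((d.e (W.H n) 0 : ↥(S : Subgroup G)) : G) * g⁻¹ = ((v * i₀ : ↥(S : Subgroup G)) : G) := by
    rw [hu, Subgroup.coe_mul, Subgroup.coe_mul, hvg, ← conj_mul, hgi]
  have hout : v * i₀ ∉ d.A := fun h => hvA ((d.A.mul_mem_cancel_right ⟨_, _, hi₀⟩).mp h)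
  have ho : orderOf (v * i₀) = 2 := by
    rw [← Subgroup.orderOf_coe, ← h1]
    exact ((MulAut.conj g).orderOf_eq _).trans ((Subgroup.orderOf_coe _).trans d.orderOf_H0)
  rcases d.involution_cases ho with e | e | e | ⟨a, e⟩
  · exact absurd (⟨_, _, e⟩ : v * i₀ ∈ d.A) hout
  · exact absurd (⟨_, _, e⟩ : v * i₀ ∈ d.A) hout
  · exact absurd (⟨_, _, e⟩ : v * i₀ ∈ d.A) hout
  · rw [e] at h1
    exact (isConj_iff.mpr ⟨g, h1⟩).trans (z_conj_ez S d a).symm

theorem u_isConj_w (h6 : (centralizer (AG S d : Set G)).relIndex (normalizer (AG S d : Set G)) = 6) :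
    IsConj ((d.e (W.H n) 0 : ↥(S : Subgroup G)) : G)
      ((d.e (W.H n) (W.H n) : ↥(S : Subgroup G)) : G) := by
  obtain ⟨g, -, -, -, -, htr⟩ := AG_six S d h6
  exact htr _ (u_mem_TG S d) _ (w_mem_TG S d)
    (fun e => Cfsg.Lib.Invol.ne_one d.orderOf_H0 (Subtype.ext e))
    (fun e => Cfsg.Lib.Invol.ne_one d.orderOf_HH (Subtype.ext e))

/-- With a six-fold automizer, `A` lies in every subgroup of index two containing odd elements. -/
theorem AG_le_of_index_two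
    (h6 : (centralizer (AG S d : Set G)).relIndex (normalizer (AG S d : Set G)) = 6)
    {K : Subgroup G} (hAK : AG S d ≤ K) (hodd : ∀ g : G, Odd (orderOf g) → g ∈ K)
    {H : Subgroup ↥K} (hH : H.index = 2) : AG S d ≤ H.map K.subtype := by
  obtain ⟨g, hgN, hgo, hg3, hfix, -⟩ := AG_six S d h6
  haveI := Subgroup.normal_of_index_eq_two hH
  intro x hx
  set x₁ := g * x * g⁻¹ with hx₁
  set x₂ := g * x₁ * g⁻¹ with hx₂
  have h1 : x₁ ∈ AG S d := (mem_normalizer_iff.mp hgN x).mp hx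
  have h2 : x₂ ∈ AG S d := (mem_normalizer_iff.mp hgN _).mp h1
  have h3 : g * x₂ * g⁻¹ = x := by
    calc g * x₂ * g⁻¹ = g ^ 3 * x * (g ^ 3)⁻¹ := by simp only [hx₂, hx₁, pow_succ, pow_zero, one_mul]; group
      _ = x := fix_of_centralizer hg3 hx
  have hprod : x * x₁ * x₂ = 1 := by
    refine hfix _ (mul_mem (mul_mem hx h1) h2) ?_
    calc g * (x * x₁ * x₂) * g⁻¹ = (g * x * g⁻¹) * (g * x₁ * g⁻¹) * (g * x₂ * g⁻¹) := by group
      _ = x₁ * x₂ * x := by rw [h3]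
      _ = x * (x₁ * x₂) := AG_comm S d (mul_mem h1 h2) hx
      _ = x * x₁ * x₂ := (mul_assoc _ _ _).symm
  set gK : ↥K := ⟨g, hodd g hgo⟩
  set xK : ↥K := ⟨x, hAK hx⟩
  have hx1K : gK * xK * gK⁻¹ = (⟨x₁, hAK h1⟩ : ↥K) := Subtype.ext rfl
  have hx2K : gK * ⟨x₁, hAK h1⟩ * gK⁻¹ = (⟨x₂, hAK h2⟩ : ↥K) := Subtype.ext rfl
  by_contra hxH
  have hxH' : xK ∉ H := fun h => hxH ⟨xK, h, rfl⟩
  have hn1 : (⟨x₁, hAK h1⟩ : ↥K) ∉ H := by
    rw [← hx1K]
    intro h
    have := ‹H.Normal›.conj_mem _ h gK⁻¹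
    exact hxH' (by simpa [mul_assoc] using this)
  have hn2 : (⟨x₂, hAK h2⟩ : ↥K) ∉ H := by
    rw [← hx2K]
    intro h
    have := ‹H.Normal›.conj_mem _ h gK⁻¹
    exact hn1 (by simpa [mul_assoc] using this)
  have h12 : (⟨x₁, hAK h1⟩ : ↥K) * ⟨x₂, hAK h2⟩ ∈ H :=
    (Subgroup.mul_mem_iff_of_index_two hH).mpr (iff_of_false hn1 hn2)
  have h0 : xK * ((⟨x₁, hAK h1⟩ : ↥K) * ⟨x₂, hAK h2⟩) = 1 := Subtype.ext (by
    simp only [Subgroup.coe_mul, Subgroup.coe_one, xK]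
    rw [← mul_assoc, hprod])
  exact hxH' ((H.mul_mem_cancel_right h12).mp (h0 ▸ one_mem H))

end Cfsg.Lib.TwoGroup.WreathedFusion
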