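import Cfsg.Prelude.Def_CaseTheorems
import Mathlib

/-! Recognising quasi-dihedral and wreathed Sylow 2-subgroups from elements. -/

set_option autoImplicit false

namespace Cfsg.Lib.TwoGroup.SylowCriterion

open Subgroup

variable {G : Type*} [Group G]

/-- The 2-part of the order is the order of a Sylow 2-subgroup. -/
theorem card_sylow [Finite G] (S : Sylow 2 G) {k m : ℕ} (hm : Odd m) (hc : Nat.card G = 2 ^ k * m) :
    Nat.card S = 2 ^ k := by
  haveI : Fact (Nat.Prime 2) := ⟨Nat.prime_two⟩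
  have hm2 : ¬ 2 ∣ m := by rw [← even_iff_two_dvd, Nat.not_even_iff_odd]; exact hm
  rw [S.card_eq_multiplicity, hc, Nat.factorization_mul (by positivity) hm.pos.ne', Finsupp.add_apply,
    Nat.Prime.factorization_pow Nat.prime_two, Finsupp.single_eq_same,
    Nat.factorization_eq_zero_of_not_dvd hm2, add_zero]

theorem isPGroup_zpowers {x : G} {n : ℕ} (hx : orderOf x = 2 ^ n) : IsPGroup 2 (zpowers x) :=
  IsPGroup.of_card (n := n) (by rw [Nat.card_zpowers, hx])

/-- A quasi-dihedral pair in a group whose Sylow 2-subgroup has the right order. -/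
theorem quasiDihedral [Finite G] (S : Sylow 2 G) {n m : ℕ} (h3 : 3 ≤ n) (hm : Odd m)
    (hc : Nat.card G = 2 ^ (n + 1) * m) (x y : G) (hx : orderOf x = 2 ^ n) (hy : orderOf y = 2)
    (hconj : y * x * y⁻¹ = x ^ (2 ^ (n - 1) - 1)) : Cfsg.IsQuasiDihedral (S : Subgroup G) := by
  haveI : Fact (Nat.Prime 2) := ⟨Nat.prime_two⟩
  have hnorm : zpowers y ≤ normalizer (zpowers x : Set G) := by
    rw [zpowers_le]
    apply Subgroup.mem_normalizer_fintype
    rintro a ⟨k, rfl⟩
    refine ⟨((2 ^ (n - 1) - 1 : ℕ) : ℤ) * k, ?_⟩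
    show x ^ _ = y * x ^ k * y⁻¹
    rw [zpow_mul, zpow_natCast, ← hconj, conj_zpow]
  have hP : IsPGroup 2 (zpowers y ⊔ zpowers x : Subgroup G) :=
    IsPGroup.to_sup_of_normal_right' (isPGroup_zpowers (n := 1) (by simpa using hy)) (isPGroup_zpowers hx) hnorm
  obtain ⟨Q, hQ⟩ := hP.exists_le_sylow
  obtain ⟨g, hg⟩ := MulAction.exists_smul_eq G Q S
  let e : ↥(Q : Subgroup G) ≃* ↥(S : Subgroup G) := (Q.equivSMul g).trans (MulEquiv.subgroupCongr (by rw [hg]))
  refine ⟨n, h3, card_sylow S hm hc, e ⟨x, hQ (mem_sup_right (mem_zpowers x))⟩,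
    e ⟨y, hQ (mem_sup_left (mem_zpowers y))⟩, ?_, ?_, ?_⟩
  · rw [MulEquiv.orderOf_eq, ← Subgroup.orderOf_coe]; exact hx
  · rw [MulEquiv.orderOf_eq, ← Subgroup.orderOf_coe]; exact hy
  · rw [← map_inv, ← map_mul, ← map_mul, ← map_pow]
    exact congrArg e (Subtype.ext (by simpa using hconj))

/-- A wreathed triple in a group whose Sylow 2-subgroup has the right order. -/
theorem wreathed [Finite G] (S : Sylow 2 G) {n m : ℕ} (h2 : 2 ≤ n) (hm : Odd m)
    (hc : Nat.card G = 2 ^ (2 * n + 1) * m) (x y z : G) (hx : orderOf x = 2 ^ n) (hxy : x * y = y * x)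
    (hdisj : zpowers x ⊓ zpowers y = ⊥) (hz : orderOf z = 2) (hconj : z * x * z⁻¹ = y) :
    Cfsg.IsWreathed (S : Subgroup G) := by
  haveI : Fact (Nat.Prime 2) := ⟨Nat.prime_two⟩
  have hy : orderOf y = 2 ^ n := by
    rw [← hconj, ← MulAut.conj_apply, MulEquiv.orderOf_eq, hx]
  have hzz : z * z = 1 := by
    have := pow_orderOf_eq_one z
    rwa [hz, sq] at this
  have hconj' : z * y * z⁻¹ = x := by
    rw [← hconj]
    rw [show z⁻¹ = z from inv_eq_of_mul_eq_one_right hzz]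
    calc z * (z * x * z) * z = (z * z) * x * (z * z) := by group
      _ = x := by rw [hzz]; group
  have hn1 : zpowers x ≤ normalizer (zpowers y : Set G) := by
    rw [zpowers_le]
    apply Subgroup.mem_normalizer_fintype
    rintro a ⟨k, rfl⟩
    refine ⟨k, ?_⟩
    show y ^ k = x * y ^ k * x⁻¹
    rw [(Commute.zpow_right hxy k).eq, mul_inv_cancel_right]
  have hA : IsPGroup 2 (zpowers x ⊔ zpowers y : Subgroup G) :=
    IsPGroup.to_sup_of_normal_right' (isPGroup_zpowers hx) (isPGroup_zpowers hy) hn1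
  have hn2 : zpowers z ≤ normalizer ((zpowers x ⊔ zpowers y : Subgroup G) : Set G) := by
    rw [zpowers_le]
    apply Subgroup.mem_normalizer_fintype
    intro a ha
    have : (zpowers x ⊔ zpowers y).map (MulAut.conj z).toMonoidHom ≤ zpowers x ⊔ zpowers y := by
      rw [Subgroup.map_sup, MonoidHom.map_zpowers, MonoidHom.map_zpowers]
      simp only [MulEquiv.coe_toMonoidHom, MulAut.conj_apply, hconj, hconj']
      rw [sup_comm]
    exact this (mem_map_of_mem _ ha)
  have hP : IsPGroup 2 (zpowers z ⊔ (zpowers x ⊔ zpowers y) : Subgroup G) :=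
    IsPGroup.to_sup_of_normal_right' (isPGroup_zpowers (n := 1) (by simpa using hz)) hA hn2
  obtain ⟨Q, hQ⟩ := hP.exists_le_sylow
  obtain ⟨g, hg⟩ := MulAction.exists_smul_eq G Q S
  let e : ↥(Q : Subgroup G) ≃* ↥(S : Subgroup G) := (Q.equivSMul g).trans (MulEquiv.subgroupCongr (by rw [hg]))
  set x' : ↥(Q : Subgroup G) := ⟨x, hQ (mem_sup_right (mem_sup_left (mem_zpowers x)))⟩
  set y' : ↥(Q : Subgroup G) := ⟨y, hQ (mem_sup_right (mem_sup_right (mem_zpowers y)))⟩
  set z' : ↥(Q : Subgroup G) := ⟨z, hQ (mem_sup_left (mem_zpowers z))⟩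
  refine ⟨n, h2, card_sylow S hm hc, e x', e y', e z', ?_, ?_, ?_, ?_, ?_⟩
  · rw [MulEquiv.orderOf_eq, ← Subgroup.orderOf_coe]; exact hx
  · rw [← map_mul, ← map_mul]; exact congrArg e (Subtype.ext hxy)
  · rw [eq_bot_iff]
    intro a ha
    obtain ⟨⟨i, hi⟩, ⟨j, hj⟩⟩ := mem_inf.mp ha
    have h1 : x' ^ i = y' ^ j := e.injective (by rw [map_zpow, map_zpow]; exact hi.trans hj.symm)
    have h2 : x ^ i = 1 := by
      have hm' : x ^ i ∈ zpowers x ⊓ zpowers y :=
        mem_inf.mpr ⟨⟨i, rfl⟩, ⟨j, (by simpa [x', y'] using congrArg Subtype.val h1.symm)⟩⟩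
      rwa [hdisj, mem_bot] at hm'
    rw [mem_bot, ← hi]
    show e x' ^ i = 1
    rw [← map_zpow, show x' ^ i = 1 from Subtype.ext (by simpa [x'] using h2), map_one]
  · rw [MulEquiv.orderOf_eq, ← Subgroup.orderOf_coe]; exact hz
  · rw [← map_inv, ← map_mul, ← map_mul]
    exact congrArg e (Subtype.ext hconj)

end Cfsg.Lib.TwoGroup.SylowCriterion
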