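import Cfsg.Agent.Lib.TwoGroup.Linearized
import Cfsg.Prelude.Def_LieRecognition
import Mathlib.FieldTheory.Perfect
import Mathlib.Algebra.Polynomial.BigOperators
import Mathlib.Data.Nat.Log
import Mathlib.GroupTheory.QuotientGroup.Basic

/-!
# Recognition of the two-groups of type A

A multiplicative quadratic bijection of a finite field of characteristic two is
`x ↦ (x φ(x))^(2^b)` for a field automorphism `φ ≠ 1` of odd order, and a central extension with
this squaring map is the matrix group of type A.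
-/

set_option autoImplicit false
set_option linter.unusedSectionVars false

namespace Cfsg.Lib.Suzuki2

open Polynomial

universe u v

variable {L : Type u} [Field L] [Fintype L] [CharP L 2] {n : ℕ}

theorem two_pow_mod_ne_one (hn : Fintype.card L = 2 ^ n) {l : L} (hl0 : l ≠ 0)
    (hl : orderOf l = Fintype.card L - 1) {c : ℕ} (hc : 0 < c) (hcn : c < n) :
    l ^ 2 ^ c ≠ l := by
  intro h
  have h' : l ^ 2 ^ c = l ^ 1 := by rw [pow_one]; exact h
  have hfin : IsOfFinOrder l := isOfFinOrder_iff_pow_eq_one.2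
    ⟨Fintype.card L - 1, by have := Fintype.one_lt_card (α := L); omega,
      FiniteField.pow_card_sub_one_eq_one l hl0⟩
  rw [hfin.pow_eq_pow_iff_modEq, hl, hn] at h'
  have h1 : 2 * 2 ^ c ≤ 2 ^ n := by
    rw [← pow_succ']; exact Nat.pow_le_pow_right (by norm_num) hcn
  have h2 : 2 ≤ 2 ^ c := by
    calc 2 = 2 ^ 1 := rfl
      _ ≤ 2 ^ c := Nat.pow_le_pow_right (by norm_num) hc
  have := Nat.ModEq.eq_of_lt_of_lt h' (by omega) (by omega)
  omega

/-- If `x ↦ x φ(x)` is injective the automorphism `φ` has odd order. -/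
theorem odd_orderOf (hn : Fintype.card L = 2 ^ n) {c : ℕ} (hc : 0 < c) (hcn : c < n)
    (hinj : ∀ x : L, x * x ^ 2 ^ c = 1 → x = 1) :
    Odd (orderOf (iterateFrobeniusEquiv L 2 c)) := by
  obtain ⟨l, hl0, hl⟩ := exists_gen L
  set g := Nat.gcd c n with hg
  have hg0 : 0 < g := Nat.gcd_pos_of_pos_left _ hc
  obtain ⟨c', hc'⟩ : g ∣ c := Nat.gcd_dvd_left c n
  obtain ⟨N, hN⟩ : g ∣ n := Nat.gcd_dvd_right c n
  have hpow : ∀ (k : ℕ) (x : L), ((iterateFrobeniusEquiv L 2 c) ^ k) x = x ^ 2 ^ (c * k) := by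
    intro k
    induction k with
    | zero => intro x; rw [Nat.mul_zero, pow_zero, pow_zero, pow_one]; rfl
    | succ k ih =>
      intro x
      rw [pow_succ', Nat.mul_succ]
      show iterateFrobeniusEquiv L 2 c (((iterateFrobeniusEquiv L 2 c) ^ k) x) = _
      rw [ih, iterateFrobeniusEquiv_def, ← pow_mul, ← pow_add]
  have hdvd : orderOf (iterateFrobeniusEquiv L 2 c) ∣ N := orderOf_dvd_of_pow_eq_one <|
    RingEquiv.ext fun x => by
      rw [hpow, pow_two_pow_add hn, show c * N = n * c' by rw [hc', hN]; ring, Nat.mul_mod_right,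
        pow_zero, pow_one]
      rfl
  by_contra hcon
  rw [Nat.not_odd_iff_even, even_iff_two_dvd] at hcon
  obtain ⟨N', hN'⟩ := hcon.trans hdvd
  have hc'odd : c' % 2 = 1 := by
    by_contra h
    obtain ⟨c'', hc''⟩ : 2 ∣ c' := by omega
    have h1 : g * 2 ∣ g := by
      conv_rhs => rw [hg]
      exact Nat.dvd_gcd ⟨c'', by rw [hc', hc'', mul_assoc]⟩ ⟨N', by rw [hN, hN', mul_assoc]⟩
    have := Nat.le_of_dvd hg0 h1
    omega
  set m := 2 ^ g + 1 with hm
  have hdiv : m ∣ Fintype.card L - 1 := by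
    have h1 : m ∣ 2 ^ (2 * g) - 1 := by
      refine ⟨2 ^ g - 1, ?_⟩
      rw [hm, ← Nat.sq_sub_sq, ← pow_mul, one_pow, mul_comm g 2]
    refine h1.trans ?_
    rw [hn, hN, hN', show g * (2 * N') = 2 * g * N' by ring, pow_mul 2 (2 * g)]
    exact Nat.sub_one_dvd_pow_sub_one _ _
  obtain ⟨d, hd⟩ := hdiv
  have hd0 : d ≠ 0 := fun h => by
    rw [h, mul_zero] at hd
    have := Fintype.one_lt_card (α := L)
    omega
  set x := l ^ d with hx
  have hxm : x ^ m = 1 := by
    rw [hx, ← pow_mul, mul_comm, ← hd, FiniteField.pow_card_sub_one_eq_one l hl0]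
  have hx1 : x ≠ 1 := by
    intro h
    have h2 := Nat.le_of_dvd (Nat.pos_of_ne_zero hd0) (hl ▸ orderOf_dvd_of_pow_eq_one h)
    rw [hd] at h2
    have h3 : d * 2 ≤ m * d := by
      rw [mul_comm m d]
      exact Nat.mul_le_mul_left _ (by have := Nat.one_le_two_pow (n := g); omega)
    omega
  have hx0 : x ≠ 0 := pow_ne_zero _ hl0
  have hxg : x ^ 2 ^ g = x⁻¹ := eq_inv_of_mul_eq_one_left (by rw [← pow_succ, ← hm, hxm])
  have hiter : ∀ k : ℕ, x ^ 2 ^ (g * k) = if k % 2 = 0 then x else x⁻¹ := by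
    intro k
    induction k with
    | zero => simp
    | succ k ih =>
      rw [Nat.mul_succ, pow_add, pow_mul, ih]
      rcases Nat.mod_two_eq_zero_or_one k with h | h
      · rw [if_pos h, if_neg (by omega), hxg]
      · rw [if_neg (by omega), if_pos (by omega), inv_pow, hxg, inv_inv]
  refine hx1 (hinj x ?_)
  rw [hc', hiter c', if_neg (by omega), mul_inv_cancel₀ hx0]

/-- A multiplicative quadratic bijection, not additive, has the shape `x ↦ (x φ(x))^(2^b)`. -/
theorem exists_twist (hn : Fintype.card L = 2 ^ n) (R : L → L) (hR0 : R 0 = 0)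
    (hmul : ∀ x y, R (x * y) = R x * R y) (hinj : Function.Injective R)
    (hquad : ∀ x y z, R (x + (y + z)) + R (x + y) + R (x + z) + R (y + z) + R x + R y + R z = 0)
    (hnadd : ¬ ∀ x y, R (x + y) = R x + R y) :
    ∃ φ : L ≃+* L, φ ≠ RingEquiv.refl L ∧ Odd (orderOf φ) ∧
      ∃ b : ℕ, ∀ x, R x = (x * φ x) ^ 2 ^ b := by
  classical
  obtain ⟨l, hl0, hl⟩ := exists_gen L
  have hfin : IsOfFinOrder l := isOfFinOrder_iff_pow_eq_one.2
    ⟨Fintype.card L - 1, by have := Fintype.one_lt_card (α := L); omega,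
      FiniteField.pow_card_sub_one_eq_one l hl0⟩
  have hpw : ∀ x : L, x ≠ 0 → ∃ k : ℕ, l ^ k = x := by
    intro x hx
    let u : Lˣ := Units.mk0 l hl0
    have hu : orderOf u = Nat.card Lˣ := by
      rw [← orderOf_units, Nat.card_eq_fintype_card, Fintype.card_units]; exact hl
    have hmem : Units.mk0 x hx ∈ Submonoid.powers u := by
      rw [mem_powers_iff_mem_zpowers, Subgroup.eq_top_of_card_eq (Subgroup.zpowers u)
        (by rw [Nat.card_zpowers, hu])]
      trivial
    obtain ⟨k, hk⟩ := hmem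
    exact ⟨k, by simpa [u] using congrArg Units.val hk⟩
  have hR1 : R 1 = 1 := by
    have h := hmul 1 1
    rw [one_mul] at h
    refine mul_left_cancel₀ (fun h0 => one_ne_zero (α := L) (hinj (h0.trans hR0.symm))) ?_
    rw [mul_one]; exact h.symm
  obtain ⟨r₀, hr₀⟩ := hpw (R l) fun h => hl0 (hinj (h.trans hR0.symm))
  set q := Fintype.card L with hq
  have hq1 : 1 < q := Fintype.one_lt_card
  set r := r₀ % (q - 1) with hr_def
  have hr : l ^ r = R l := by rw [hr_def, ← hl, pow_mod_orderOf, hr₀]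
  have hrq : r < q - 1 := Nat.mod_lt _ (by omega)
  have hRk : ∀ k : ℕ, R (l ^ k) = (l ^ k) ^ r := by
    intro k
    induction k with
    | zero => rw [pow_zero, hR1, one_pow]
    | succ k ih => rw [pow_succ, hmul, ih, ← hr, ← mul_pow]
  have hr0 : r ≠ 0 := by
    intro h
    have h1 : R l = R 1 := by rw [← hr, h, pow_zero, hR1]
    have h2 : l = 1 := hinj h1
    rw [h2, orderOf_one] at hl
    refine hnadd fun x y => ?_
    have h01 : ∀ z : L, z = 0 ∨ z = 1 := fun z => by
      by_cases hz : z = 0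
      · exact Or.inl hz
      · obtain ⟨k, hk⟩ := hpw z hz
        exact Or.inr (by rw [← hk, h2, one_pow])
    rcases h01 x with rfl | rfl <;> rcases h01 y with rfl | rfl <;>
      simp [hR0, hR1, CharTwo.add_self_eq_zero]
  have hRx : ∀ x : L, R x = x ^ r := by
    intro x
    by_cases hx : x = 0
    · rw [hx, hR0, zero_pow hr0]
    · obtain ⟨k, rfl⟩ := hpw x hx; exact hRk k
  -- the additive map `y ↦ R (1 + y) + 1 + R y`
  obtain ⟨a, ha⟩ := exists_coeff hn (fun y => R (1 + y) + 1 + R y) (fun y z => by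
    have h := hquad 1 y z
    rw [hR1] at h
    show R (1 + (y + z)) + 1 + R (y + z) = R (1 + y) + 1 + R y + (R (1 + z) + 1 + R z)
    apply CharTwo.add_eq_zero.1
    rw [← h]
    have h2 : (1 : L) + 1 = 0 := CharTwo.add_self_eq_zero 1
    linear_combination h2)
  have hnpos : 0 < n := by
    by_contra h
    rw [hn, show n = 0 by omega, pow_zero] at hq1
    omega
  have hone : ∀ j, 0 < j → j < r → (((r.choose j : ℕ) : L)) ≠ 0 → ∃ i, j = 2 ^ i := by
    let f : L[X] := (1 + X) ^ r + 1 + X ^ r + ∑ i : Fin n, C (a i) * X ^ 2 ^ (i : ℕ)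
    have hd : f.natDegree < Fintype.card L := by
      have h1 : f.natDegree ≤ max r (2 ^ (n - 1)) := by
        refine natDegree_add_le_of_degree_le ?_ ?_
        · refine natDegree_add_le_of_degree_le (natDegree_add_le_of_degree_le ?_ (by simp)) ?_
          · refine natDegree_pow_le.trans ?_
            have : (1 + X : L[X]).natDegree ≤ 1 := natDegree_add_le_of_degree_le (by simp) natDegree_X_le
            calc r * (1 + X : L[X]).natDegree ≤ r * 1 := Nat.mul_le_mul_left r this
              _ ≤ _ := by rw [mul_one]; exact le_max_left _ _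
          · rw [natDegree_X_pow]; exact le_max_left _ _
        · refine (natDegree_sum_le_of_forall_le (n := 2 ^ (n - 1)) _ _ fun i _ => ?_).trans
            (le_max_right _ _)
          exact (natDegree_C_mul_X_pow_le _ _).trans (Nat.pow_le_pow_right (by norm_num) (by omega))
      refine lt_of_le_of_lt h1 (max_lt (by omega) ?_)
      rw [← hq, hn]; exact Nat.pow_lt_pow_right (by norm_num) (by omega)
    have hf : f = 0 := eq_zero_of_natDegree_lt_card_of_eval_eq_zero f Function.injective_id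
      (fun x => by
        simp only [f, eval_add, eval_pow, eval_one, eval_X, eval_finset_sum, eval_mul, eval_C, id]
        rw [← ha, hRx, hRx]
        exact CharTwo.add_self_eq_zero _) hd
    intro j hj hjr hc
    by_contra hcon
    push Not at hcon
    refine hc ?_
    have h := congrArg (fun g => g.coeff j) hf
    simp only [f, coeff_add, coeff_one_add_X_pow, coeff_one, if_neg hj.ne', coeff_X_pow,
      if_neg hjr.ne, finset_sum_coeff, coeff_C_mul, coeff_zero, add_zero] at h
    rw [Finset.sum_eq_zero (fun i _ => by rw [if_neg (hcon i), mul_zero]), add_zero] at h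
    exact h
  -- binary shape of `r`
  set A := Nat.log 2 r with hA
  have hA1 : 2 ^ A ≤ r := Nat.pow_log_le_self 2 hr0
  have hA2 : r < 2 ^ (A + 1) := Nat.lt_pow_succ_log_self (by norm_num) r
  have hAn : A < n := (Nat.pow_lt_pow_iff_right (show 1 < 2 by norm_num)).1 (by omega)
  set t := r - 2 ^ A with ht
  have ht2 : t < 2 ^ A := by rw [pow_succ] at hA2; omega
  by_cases ht0 : t = 0
  · exfalso
    refine hnadd fun x y => ?_
    rw [hRx, hRx, hRx, show r = 2 ^ A by omega, add_pow_char_pow]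
  have hct : (((r.choose t : ℕ) : L)) ≠ 0 := by
    have h1 : ((1 + X : L[X]) ^ r).coeff t = 1 := by
      rw [show r = 2 ^ A + t by omega, pow_add, add_pow_char_pow, one_pow, add_mul, one_mul,
        coeff_add, coeff_one_add_X_pow, coeff_X_pow_mul', if_neg (by omega), add_zero,
        Nat.choose_self, Nat.cast_one]
    rw [coeff_one_add_X_pow] at h1
    rw [h1]; exact one_ne_zero
  obtain ⟨b, hb⟩ := hone t (by omega) (by have := Nat.one_le_two_pow (n := A); omega) hct
  have hbA : b < A := (Nat.pow_lt_pow_iff_right (show 1 < 2 by norm_num)).1 (by omega)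
  have hform : ∀ x, R x = (x * x ^ 2 ^ (A - b)) ^ 2 ^ b := fun x => by
    rw [hRx, mul_pow, ← pow_mul, ← pow_add, ← pow_add, show A - b + b = A by omega,
      show r = 2 ^ b + 2 ^ A by omega]
  refine ⟨iterateFrobeniusEquiv L 2 (A - b), fun h => ?_, odd_orderOf hn (by omega) (by omega)
    (fun x hx => hinj (by rw [hform, hR1, hx, one_pow])), b, fun x => ?_⟩
  · have := congrArg (fun e : L ≃+* L => e l) h
    simp only [iterateFrobeniusEquiv_def, RingEquiv.refl_apply] at this
    exact two_pow_mod_ne_one hn hl0 hl (by omega) (by omega) this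
  · rw [hform, iterateFrobeniusEquiv_def]

/-- The generic element of the group of type A. -/
def typeAMat {F : Type v} [Field F] (φ : F →+* F) (x y : F) : GL (Fin 3) F where
  val := !![1, 0, 0; x, 1, 0; y, φ x, 1]
  inv := !![1, 0, 0; -x, 1, 0; φ x * x - y, -φ x, 1]
  val_inv := by
    rw [Matrix.mul_fin_three, Matrix.one_fin_three]
    ext i j
    fin_cases i <;> fin_cases j <;> simp <;> ring
  inv_val := by
    rw [Matrix.mul_fin_three, Matrix.one_fin_three]
    ext i j
    fin_cases i <;> fin_cases j <;> simp <;> ring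

theorem typeAMat_mul {F : Type v} [Field F] (φ : F →+* F) (x y x' y' : F) :
    typeAMat φ x y * typeAMat φ x' y' = typeAMat φ (x + x') (y + y' + φ x * x') := by
  apply Units.ext
  show !![1, 0, 0; x, 1, 0; y, φ x, 1] * !![1, 0, 0; x', 1, 0; y', φ x', 1] =
    !![1, 0, 0; x + x', 1, 0; y + y' + φ x * x', φ (x + x'), 1]
  rw [Matrix.mul_fin_three]
  ext i j
  fin_cases i <;> fin_cases j <;> simp [map_add] <;> ring

theorem typeAMat_inj {F : Type v} [Field F] (φ : F →+* F) {x y x' y' : F}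
    (h : typeAMat φ x y = typeAMat φ x' y') : x = x' ∧ y = y' := by
  have h' := congrArg (fun g : GL (Fin 3) F => (g : Matrix (Fin 3) (Fin 3) F)) h
  refine ⟨?_, ?_⟩
  · simpa [typeAMat] using congrFun (congrFun h' 1) 0
  · simpa [typeAMat] using congrFun (congrFun h' 2) 0

theorem mem_suzukiTypeA {F : Type v} [Field F] [CharP F 2] (φ : F →+* F) (g : GL (Fin 3) F) :
    g ∈ Cfsg.suzukiTypeA F φ ↔ ∃ x y, g = typeAMat φ x y := by
  constructor
  · intro hg
    have hone : typeAMat φ (0 : F) 0 = 1 := by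
      apply Units.ext
      show !![1, 0, 0; 0, 1, 0; 0, φ (0 : F), 1] = (1 : Matrix (Fin 3) (Fin 3) F)
      rw [map_zero, Matrix.one_fin_three]
    let H : Subgroup (GL (Fin 3) F) :=
      { carrier := {g | ∃ x y, g = typeAMat φ x y}
        one_mem' := ⟨0, 0, hone.symm⟩
        mul_mem' := by rintro _ _ ⟨x, y, rfl⟩ ⟨x', y', rfl⟩; exact ⟨_, _, typeAMat_mul φ x y x' y'⟩
        inv_mem' := by
          rintro _ ⟨x, y, rfl⟩
          refine ⟨x, φ x * x + y, inv_eq_of_mul_eq_one_right ?_⟩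
          rw [typeAMat_mul, CharTwo.add_self_eq_zero,
            show y + (φ x * x + y) + φ x * x = (y + y) + (φ x * x + φ x * x) by ring,
            CharTwo.add_self_eq_zero, CharTwo.add_self_eq_zero, add_zero, hone] }
    have hle : Cfsg.suzukiTypeA F φ ≤ H := (Subgroup.closure_le H).2 fun g ⟨x, y, hg⟩ =>
      ⟨x, y, Units.ext hg⟩
    exact hle hg
  · rintro ⟨x, y, rfl⟩
    exact Subgroup.subset_closure ⟨x, y, rfl⟩

/-- A central extension of the field by itself with squaring `x ↦ x φ(x)` is of type A. -/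
theorem nonempty_equiv_typeA {P : Type u} [Group P] [Finite P] {F : Type v} [Field F] [CharP F 2]
    [Finite F] (φ : F →+* F) (T : P → F) (hT : ∀ a b, T (a * b) = T a + T b)
    (ι : F → P) (hι : ∀ x y, ι (x + y) = ι x * ι y) (hιinj : Function.Injective ι)
    (hιc : ∀ x g, g * ι x = ι x * g) (hker : ∀ p, T p = 0 → ∃ x, ι x = p) (hTι : ∀ x, T (ι x) = 0)
    (hsurj : Function.Surjective T) (hsq : ∀ p, p * p = ι (T p * φ (T p))) :
    Nonempty (P ≃* ↥(Cfsg.suzukiTypeA F φ)) := by
  classical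
  have hι0 : ι 0 = 1 := by
    have := hι 0 0
    rwa [add_zero, left_eq_mul] at this
  have hT1 : T 1 = 0 := by
    have := hT 1 1
    rwa [one_mul, left_eq_add] at this
  let Good : Subgroup (P × GL (Fin 3) F) → Prop := fun H =>
    (∀ z, (ι z, typeAMat φ 0 z) ∈ H) ∧ (∀ h ∈ H, ∃ y, h.2 = typeAMat φ (T h.1) y) ∧
      (∀ m, (1, m) ∈ H → m = 1) ∧ ∀ p, (p, 1) ∈ H → p = 1
  have hone : typeAMat φ (0 : F) 0 = 1 := by
    apply Units.ext
    show !![1, 0, 0; 0, 1, 0; 0, φ (0 : F), 1] = (1 : Matrix (Fin 3) (Fin 3) F)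
    rw [map_zero, Matrix.one_fin_three]
  let D : Subgroup (P × GL (Fin 3) F) :=
    { carrier := Set.range fun z => (ι z, typeAMat φ 0 z)
      one_mem' := ⟨0, by show (ι 0, typeAMat φ 0 0) = 1; rw [hι0, hone]; rfl⟩
      mul_mem' := by
        rintro _ _ ⟨z, rfl⟩ ⟨w, rfl⟩
        refine ⟨z + w, ?_⟩
        show (ι (z + w), typeAMat φ 0 (z + w)) = (ι z * ι w, typeAMat φ 0 z * typeAMat φ 0 w)
        rw [hι, typeAMat_mul, add_zero, map_zero, zero_mul, add_zero]
      inv_mem' := by
        rintro _ ⟨z, rfl⟩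
        refine ⟨z, (inv_eq_of_mul_eq_one_right ?_).symm⟩
        show (ι z * ι z, typeAMat φ 0 z * typeAMat φ 0 z) = 1
        rw [← hι, typeAMat_mul, add_zero, map_zero, zero_mul, add_zero, CharTwo.add_self_eq_zero,
          hι0, hone]
        rfl }
  have hD : Good D := by
    refine ⟨fun z => ⟨z, rfl⟩, ?_, ?_, ?_⟩
    · rintro _ ⟨z, rfl⟩
      exact ⟨z, by rw [hTι]⟩
    · rintro m ⟨z, hz⟩
      obtain ⟨h1, h2⟩ := Prod.mk.injEq _ _ _ _ ▸ hz
      rw [← h2, hιinj (h1.trans hι0.symm), hone]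
    · rintro p ⟨z, hz⟩
      obtain ⟨h1, h2⟩ := Prod.mk.injEq _ _ _ _ ▸ hz
      rw [← h1, (typeAMat_inj φ (h2.trans hone.symm)).2, hι0]
  obtain ⟨H, hDH, hHmax⟩ := (Set.toFinite {H | Good H}).exists_le_maximal (show D ∈ {H | Good H} from hD)
  obtain ⟨hHD, hHT, hH1, hH2⟩ := hHmax.prop
  -- squares of compatible pairs lie in `H`
  have hsqH : ∀ h : P × GL (Fin 3) F, (∃ y, h.2 = typeAMat φ (T h.1) y) → h * h ∈ H := by
    rintro ⟨p, m⟩ ⟨y, hy⟩
    dsimp only at hy
    convert hHD (T p * φ (T p)) using 1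
    refine Prod.ext (hsq p) ?_
    show m * m = _
    rw [hy, typeAMat_mul, CharTwo.add_self_eq_zero, CharTwo.add_self_eq_zero, zero_add, mul_comm]
  have hsurH : ∀ x : F, ∃ h ∈ H, T h.1 = x := by
    intro x
    by_contra hx
    push Not at hx
    obtain ⟨p, hp⟩ := hsurj x
    let g : P × GL (Fin 3) F := (p, typeAMat φ x 0)
    have hg : ∃ y, g.2 = typeAMat φ (T g.1) y := ⟨0, by show _ = typeAMat φ (T p) 0; rw [hp]⟩
    have hgg : g * g ∈ H := hsqH g hg
    have hcompat : ∀ h : P × GL (Fin 3) F, h ∈ H → ∃ y, (h * g).2 = typeAMat φ (T (h * g).1) y := by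
      intro h hh
      obtain ⟨y, hy⟩ := hHT h hh
      refine ⟨y + 0 + φ (T h.1) * x, ?_⟩
      show h.2 * typeAMat φ x 0 = typeAMat φ (T (h.1 * p)) _
      rw [hy, typeAMat_mul, hT, hp]
    -- `g` normalises `H` modulo squares
    have hconj : ∀ h ∈ H, g * h * g⁻¹ ∈ H := by
      intro h hh
      have h2 : (h * g) * (h * g) ∈ H := hsqH _ (hcompat h hh)
      have h3 : g * h * g⁻¹ = h⁻¹ * ((h * g) * (h * g)) * (g * g)⁻¹ := by group
      rw [h3]
      exact mul_mem (mul_mem (inv_mem hh) h2) (inv_mem hgg)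
    let H' : Subgroup (P × GL (Fin 3) F) :=
      { carrier := {h | h ∈ H ∨ h * g⁻¹ ∈ H}
        one_mem' := Or.inl (one_mem H)
        mul_mem' := by
          rintro a b (ha | ha) (hb | hb)
          · exact Or.inl (mul_mem ha hb)
          · exact Or.inr (by rw [mul_assoc]; exact mul_mem ha hb)
          · refine Or.inr ?_
            rw [show a * b * g⁻¹ = (a * g⁻¹) * (g * b * g⁻¹) by group]
            exact mul_mem ha (hconj b hb)
          · refine Or.inl ?_
            rw [show a * b = (a * g⁻¹) * (g * (b * g⁻¹) * g⁻¹) * (g * g) by group]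
            exact mul_mem (mul_mem ha (hconj _ hb)) hgg
        inv_mem' := by
          rintro a (ha | ha)
          · exact Or.inl (inv_mem ha)
          · refine Or.inr ?_
            have h4 := hconj _ (inv_mem ha)
            rw [show a⁻¹ * g⁻¹ = (g * g)⁻¹ * (g * (a * g⁻¹)⁻¹ * g⁻¹) by group]
            exact mul_mem (inv_mem hgg) h4 }
    have hT' : ∀ h : P × GL (Fin 3) F, h * g⁻¹ ∈ H → T h.1 ≠ 0 := by
      intro h hh h0
      refine hx (h * g⁻¹) hh ?_
      have h1 := hT (h * g⁻¹).1 p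
      rw [show (h * g⁻¹).1 * p = h.1 by simp [g], h0, hp] at h1
      exact CharTwo.add_eq_zero.1 h1.symm
    have hgood : Good H' := by
      refine ⟨fun z => Or.inl (hHD z), ?_, ?_, ?_⟩
      · rintro h (hh | hh)
        · exact hHT h hh
        · have := hcompat _ hh
          rwa [inv_mul_cancel_right] at this
      · rintro m (hh | hh)
        · exact hH1 m hh
        · exact absurd hT1 (hT' _ hh)
      · rintro q (hh | hh)
        · exact hH2 q hh
        · exfalso
          have hqT : T q ≠ 0 := hT' _ hh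
          obtain ⟨y, hy⟩ := hHT _ hh
          have h1 : (1 : GL (Fin 3) F) * (typeAMat φ x 0)⁻¹ = typeAMat φ (T (q * p⁻¹)) y := hy
          have h2 : typeAMat φ (T (q * p⁻¹)) y * typeAMat φ x 0 = typeAMat φ 0 0 := by
            rw [← h1, one_mul, inv_mul_cancel, hone]
          rw [typeAMat_mul] at h2
          apply hqT
          have h3 := hT (q * p⁻¹) p
          rw [inv_mul_cancel_right, hp, (typeAMat_inj φ h2).1] at h3
          exact h3
    have hle : H ≤ H' := fun h hh => Or.inl hh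
    exact hx g (hHmax.le_of_ge (y := H') hgood hle (Or.inr (by rw [mul_inv_cancel]; exact one_mem H))) hp
  have huniq : ∀ p, ∃! m, (p, m) ∈ H := by
    intro p
    obtain ⟨⟨p', m'⟩, hh, hpT⟩ := hsurH (T p)
    obtain ⟨z, hz⟩ := hker (p'⁻¹ * p) (by
      have h := hT p' (p'⁻¹ * p)
      rw [mul_inv_cancel_left, hpT] at h
      exact left_eq_add.1 h)
    refine ⟨m' * typeAMat φ 0 z, ?_, fun m hm => ?_⟩
    · have := mul_mem hh (hHD z)
      rwa [Prod.mk_mul_mk, hz, mul_inv_cancel_left] at this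
    · have h2 := mul_mem hh (hHD z)
      rw [Prod.mk_mul_mk, hz, mul_inv_cancel_left] at h2
      have h3 := mul_mem (inv_mem h2) hm
      rw [Prod.inv_mk, Prod.mk_mul_mk, inv_mul_cancel] at h3
      exact (inv_mul_eq_one.1 (hH1 _ h3)).symm
  choose f hf hfu using huniq
  have hfmem : ∀ p, f p ∈ Cfsg.suzukiTypeA F φ := fun p => by
    obtain ⟨y, hy⟩ := hHT _ (hf p)
    exact (mem_suzukiTypeA φ _).2 ⟨_, y, hy⟩
  let Φ : P →* ↥(Cfsg.suzukiTypeA F φ) :=
    { toFun := fun p => ⟨f p, hfmem p⟩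
      map_one' := Subtype.ext (hfu 1 1 (one_mem H)).symm
      map_mul' := fun a b => Subtype.ext (hfu (a * b) _ (mul_mem (hf a) (hf b))).symm }
  refine ⟨MulEquiv.ofBijective Φ ⟨(injective_iff_map_eq_one Φ).2 fun p hp => ?_, fun s => ?_⟩⟩
  · have h1 : f p = 1 := congrArg Subtype.val hp
    exact hH2 p (h1 ▸ hf p)
  · obtain ⟨x, y, hxy⟩ := (mem_suzukiTypeA φ (s : GL (Fin 3) F)).1 s.2
    obtain ⟨⟨p, m⟩, hh, hpx⟩ := hsurH x
    obtain ⟨y', hy'⟩ := hHT _ hh
    refine ⟨p * ι (y + y'), Subtype.ext ((hfu _ _ ?_).symm.trans rfl)⟩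
    have := mul_mem hh (hHD (y + y'))
    rw [Prod.mk_mul_mk] at this
    convert this using 2
    show (s : GL (Fin 3) F) = m * _
    dsimp only at hy' hpx
    rw [hy', hxy, typeAMat_mul, add_zero, mul_zero, add_zero, hpx,
      show y' + (y + y') = y + (y' + y') by ring, CharTwo.add_self_eq_zero, add_zero]

end Cfsg.Lib.Suzuki2
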