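import Cfsg.Agent.Lib.TwoGroup.SuzukiStructure
import Cfsg.Agent.Lib.TwoGroup.SuzukiTypeA
import Mathlib.FieldTheory.Finite.GaloisField

/-!
# Suzuki two-groups of order the square of the centre are of type A
-/

set_option autoImplicit false
set_option linter.unusedSectionVars false
set_option maxHeartbeats 1600000

namespace Cfsg.Lib.Suzuki2

open Cfsg.Agent.S1137
open scoped commutatorElement

universe u

theorem type_a_of_card_sq {P : Type u} [Group P] (h : Cfsg.IsSuzukiTwoGroup P)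
    (hcard : Nat.card P = Nat.card (Subgroup.center P) ^ 2) :
    ∃ (F : Type) (_ : Field F) (_ : Fintype F) (φ : F ≃+* F),
      Fintype.card F = Nat.card (Subgroup.center P) ∧ φ ≠ RingEquiv.refl F ∧ Odd (orderOf φ) ∧
      Nonempty (P ≃* Cfsg.suzukiTypeA F (φ : F →+* F)) := by
  classical
  obtain ⟨hZ, hsq, hcomm, -⟩ := structure_of_suzuki h
  obtain ⟨hfin, hP, ⟨a₀, b₀, hab⟩, hx, K, hKc, hKt⟩ := h
  have hK := isTransOn_of_cyclic hKc hKt
  have htwo : TwoInvol P := hx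
  haveI : Fact (Nat.Prime 2) := ⟨Nat.prime_two⟩
  set Z := Subgroup.center P
  obtain ⟨L, instL, instLf, instLc, ι, hιinj, hιadd, hιsq, hιsur, hKχ, -⟩ := exists_field hP hK htwo
  have hcen : ∀ {z : P}, z * z = 1 → ∀ x : P, x * z = z * x := fun hz x =>
    Subgroup.mem_center_iff.1 ((hZ _).2 hz) x
  have hqL : Nat.card Z = Nat.card L := (Nat.card_congr (Equiv.ofBijective
    (fun x : L => (⟨ι x, (hZ _).2 (hιsq x)⟩ : Z))
    ⟨fun a b hab => hιinj (congrArg Subtype.val hab), fun z => by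
      obtain ⟨x, hx⟩ := hιsur z.1 ((hZ _).1 z.2)
      exact ⟨x, Subtype.ext hx⟩⟩)).symm
  choose! ii hii using hιsur
  have hii_mul : ∀ z w, z * z = 1 → w * w = 1 → ii (z * w) = ii z + ii w := fun z w hz hw => by
    have hzw : (z * w) * (z * w) = 1 := (hZ _).1 (mul_mem ((hZ z).2 hz) ((hZ w).2 hw))
    exact hιinj (by rw [hιadd, hii z hz, hii w hw, hii _ hzw])
  have hι0 : ι 0 = 1 := by
    have := hιadd 0 0
    rwa [add_zero, left_eq_mul] at this
  have hii1 : ii (1 : P) = 0 := hιinj (by rw [hii 1 (one_mul 1), hι0])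
  have hsqval : ∀ p : P, (p * p) * (p * p) = 1 := fun p => (hZ _).1 (hsq p)
  have hcval : ∀ a b : P, ⁅a, b⁆ * ⁅a, b⁆ = 1 := fun a b => (hZ _).1 (hcomm a b)
  -- the squaring map on the quotient
  let sq : P ⧸ Z → L := Quotient.lift (fun p : P => ii (p * p)) fun a b hab => by
    have hz := (hZ _).1 (QuotientGroup.leftRel_apply.1 hab : a⁻¹ * b ∈ Z)
    refine congrArg ii ?_
    conv_rhs => rw [← mul_inv_cancel_left a b]
    rw [mul_assoc a (a⁻¹ * b), ← mul_assoc (a⁻¹ * b) a, ← hcen hz a, mul_assoc a (a⁻¹ * b), hz,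
      mul_one]
  have hsq0 : ∀ w, sq w = 0 → w = 1 := by
    intro w
    induction w using QuotientGroup.induction_on with
    | H p =>
    intro hw
    refine (QuotientGroup.eq_one_iff p).2 ((hZ p).2 ?_)
    rw [← hii _ (hsqval p), show ii (p * p) = 0 from hw, hι0]
  have hnc : ∃ p : P, p ∉ Z := by
    by_contra h
    push Not at h
    exact hab (Subgroup.mem_center_iff.1 (h b₀) a₀)
  have hsqk : ∀ k ∈ K, ∀ χ : L, (∀ x, k (ι x) = ι (χ * x)) → ∀ p : P,
      sq ((k p : P) : P ⧸ Z) = χ * sq (p : P ⧸ Z) := fun k _ χ hχ p => by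
    refine hιinj ?_
    show ι (ii (k p * k p)) = ι (χ * ii (p * p))
    rw [hii _ (hsqval _), ← hχ, hii _ (hsqval _), map_mul]
  have hsqsur : Function.Surjective sq := by
    intro x
    by_cases hx : x = 0
    · exact ⟨1, by rw [hx]; show ii ((1 : P) * 1) = 0; rw [one_mul, hii1]⟩
    obtain ⟨p, hp⟩ := hnc
    obtain ⟨k, hk, hkp⟩ := hK.2 (p * p) (ι x) (fun h => hp ((hZ p).2 h)) (hsqval p)
      (fun h => hx (hιinj (h.trans hι0.symm))) (hιsq x)
    exact ⟨((k p : P) : P ⧸ Z), hιinj (by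
      show ι (ii (k p * k p)) = ι x
      rw [hii _ (hsqval _), ← map_mul, hkp])⟩
  have hWcard : Nat.card (P ⧸ Z) = Nat.card L := by
    have h1 := Subgroup.card_eq_card_quotient_mul_card_subgroup Z
    rw [hcard, pow_two] at h1
    exact (Nat.eq_of_mul_eq_mul_right Nat.card_pos h1).symm.trans hqL
  have hsqbij : Function.Bijective sq :=
    (Nat.bijective_iff_surjective_and_card _).2 ⟨hsqsur, hWcard⟩
  -- the field on the quotient
  let ρ : MulAut P →* MulAut (P ⧸ Z) :=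
    { toFun := fun k => QuotientGroup.congr Z Z k (by
        ext x
        constructor
        · rintro ⟨z, hz, rfl⟩
          exact auto_center k hz
        · intro hx
          exact ⟨k⁻¹ x, auto_center k⁻¹ hx, k.apply_symm_apply x⟩)
      map_one' := MulEquiv.ext fun q => by
        obtain ⟨x, rfl⟩ := QuotientGroup.mk_surjective q; rfl
      map_mul' := fun k l => MulEquiv.ext fun q => by
        obtain ⟨x, rfl⟩ := QuotientGroup.mk_surjective q; rfl }
  have hW2 : ∀ w : P ⧸ Z, w * w = 1 := fun w => by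
    obtain ⟨p, rfl⟩ := QuotientGroup.mk_surjective w
    exact (QuotientGroup.eq_one_iff _).2 (hsq p)
  have hK' : IsTransOn (K.map ρ) := by
    refine ⟨?_, fun x y hx1 _ hy1 _ => ?_⟩
    · rintro _ ⟨k, hk, rfl⟩ _ ⟨l, hl, rfl⟩
      rw [← map_mul, ← map_mul, hK.1 k hk l hl]
    obtain ⟨p, rfl⟩ := QuotientGroup.mk_surjective x
    have hp : p * p ≠ 1 := fun h => hx1 ((QuotientGroup.eq_one_iff p).2 ((hZ p).2 h))
    obtain ⟨q, rfl⟩ := QuotientGroup.mk_surjective y
    have hq : q * q ≠ 1 := fun h => hy1 ((QuotientGroup.eq_one_iff q).2 ((hZ q).2 h))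
    obtain ⟨k, hk, hkp⟩ := hK.2 _ _ hp (hsqval p) hq (hsqval q)
    refine ⟨ρ k, ⟨k, hk, rfl⟩, hsqbij.1 ?_⟩
    show ii (k p * k p) = ii (q * q)
    rw [← map_mul, hkp]
  have hWtwo : TwoInvol (P ⧸ Z) := by
    obtain ⟨x, y, hxy, hx1, hx2, hy1, hy2⟩ := htwo
    obtain ⟨u, hu⟩ := hsqsur (ii x)
    obtain ⟨w, hw⟩ := hsqsur (ii y)
    refine ⟨u, w, fun h => hxy ?_, fun h => hx1 ?_, hW2 u, fun h => hy1 ?_, hW2 w⟩
    · rw [← hii x hx2, ← hu, h, hw, hii y hy2]
    · rw [← hii x hx2, ← hu, h]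
      show ι (ii ((1 : P) * 1)) = 1
      rw [one_mul, hii1, hι0]
    · rw [← hii y hy2, ← hw, h]
      show ι (ii ((1 : P) * 1)) = 1
      rw [one_mul, hii1, hι0]
  obtain ⟨M, instM, instMf, instMc, j, hjinj, hjadd, -, hjsur, -, hχK'⟩ :=
    exists_field (hP.to_quotient Z) hK' hWtwo
  have hjbij : Function.Bijective j := ⟨hjinj, fun w => hjsur w (hW2 w)⟩
  let je := Equiv.ofBijective j hjbij
  obtain ⟨n, hn⟩ : ∃ n, Fintype.card L = 2 ^ n := by
    obtain ⟨n, -, h⟩ := FiniteField.card L 2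
    exact ⟨n, h⟩
  have hn0 : n ≠ 0 := fun h => by
    have := Fintype.one_lt_card (α := L)
    rw [hn, h] at this
    simp at this
  let F := GaloisField 2 n
  letI : Fintype F := Fintype.ofFinite F
  have hF : Fintype.card F = 2 ^ n := by rw [← Nat.card_eq_fintype_card]; exact GaloisField.card 2 n hn0
  have hM : Fintype.card M = 2 ^ n := by
    rw [← hn, ← Nat.card_eq_fintype_card, ← Nat.card_eq_fintype_card, Nat.card_congr je, hWcard]
  let τ : L ≃+* F := FiniteField.ringEquivOfCardEq (hn.trans hF.symm)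
  let σ : M ≃+* F := FiniteField.ringEquivOfCardEq (hM.trans hF.symm)
  -- the quadratic map
  let Q : F → F := fun x => τ (sq (j (σ.symm x)))
  have hj0 : j 0 = 1 := by
    have := hjadd 0 0
    rwa [add_zero, left_eq_mul] at this
  have hQ0 : Q 0 = 0 := by
    show τ _ = 0
    rw [map_zero, hj0]
    show τ (ii ((1 : P) * 1)) = 0
    rw [one_mul, hii1, map_zero]
  have hQinj : Function.Injective Q := fun x y h =>
    σ.symm.injective (hjinj (hsqbij.1 (τ.injective h)))
  have hQscale : ∀ μ : F, μ ≠ 0 → ∃ c : F, ∀ x, Q (μ * x) = c * Q x := by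
    intro μ hμ
    obtain ⟨_, ⟨k, hk, rfl⟩, hkM⟩ := hχK' (σ.symm μ) (by simpa using hμ)
    obtain ⟨χ, -, hχ⟩ := hKχ k hk
    refine ⟨τ χ, fun x => ?_⟩
    show τ (sq (j (σ.symm (μ * x)))) = τ χ * τ (sq (j (σ.symm x)))
    rw [← map_mul, map_mul σ.symm, ← hkM]
    refine congrArg τ ?_
    generalize j (σ.symm x) = w
    induction w using QuotientGroup.induction_on with
    | H p => exact hsqk k hk χ hχ p
  have hQ1 : Q 1 ≠ 0 := fun h => one_ne_zero (hQinj (h.trans hQ0.symm))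
  have hQmul : ∀ x y, Q (x * y) * Q 1 = Q x * Q y := by
    intro x y
    by_cases hx : x = 0
    · simp [hx, hQ0]
    obtain ⟨c, hc⟩ := hQscale x hx
    have h1 := hc 1
    rw [mul_one] at h1
    rw [hc y, h1]
    ring
  -- the polar form
  let C : P → P → L := fun a b => ii ⁅a⁻¹, b⁆
  have hsq2 : ∀ a b : P, ii ((a * b) * (a * b)) = ii (a * a) + ii (b * b) + C a b := by
    intro a b
    rw [← hii_mul _ _ (hsqval a) (hsqval b),
      ← hii_mul _ _ ((hZ _).1 (mul_mem (hsq a) (hsq b))) (hcval _ _)]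
    refine congrArg ii ?_
    rw [mul_assoc (a * a) (b * b), hcen (hcval a⁻¹ b) (b * b), commutatorElement_def]
    group
  have hCl : ∀ a b c : P, C (a * b) c = C a c + C b c := by
    intro a b c
    show ii ⁅(a * b)⁻¹, c⁆ = _
    rw [← hii_mul _ _ (hcval _ _) (hcval _ _)]
    refine congrArg ii ?_
    rw [mul_inv_rev, commutatorElement_mul_left_eq_conj_mul, hcen (hcval a⁻¹ c) b⁻¹,
      mul_inv_cancel_right]
  have hcube : ∀ a b c : P, ii ((a * (b * c)) * (a * (b * c))) + ii ((a * b) * (a * b)) +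
      ii ((a * c) * (a * c)) + ii ((b * c) * (b * c)) + ii (a * a) + ii (b * b) + ii (c * c) = 0 := by
    intro a b c
    have h2 : (2 : L) = 0 := CharTwo.two_eq_zero
    have habc : ii ((a * (b * c)) * (a * (b * c))) =
        ii (a * a) + ii (b * b) + ii (c * c) + C a b + C a c + C b c := by
      rw [← mul_assoc a b c, hsq2 (a * b) c, hsq2 a b, hCl a b c]
      ring
    rw [habc, hsq2 a b, hsq2 a c, hsq2 b c]
    linear_combination (2 * ii (a * a) + 2 * ii (b * b) + 2 * ii (c * c) + C a b + C a c + C b c) * h2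
  have hjm : ∀ x : F, ∃ p : P, (p : P ⧸ Z) = j (σ.symm x) := fun x => QuotientGroup.mk_surjective _
  choose pr hpr using hjm
  have hQpr : ∀ (x : F) (p : P), (p : P ⧸ Z) = j (σ.symm x) → Q x = τ (ii (p * p)) := fun x p hp => by
    show τ (sq (j (σ.symm x))) = _
    rw [← hp]
    rfl
  have hadd : ∀ x y, ((pr x * pr y : P) : P ⧸ Z) = j (σ.symm (x + y)) := fun x y => by
    rw [QuotientGroup.mk_mul, hpr, hpr, map_add, hjadd]
  have hquad : ∀ x y z, Q (x + (y + z)) + Q (x + y) + Q (x + z) + Q (y + z) + Q x + Q y + Q z = 0 := by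
    intro x y z
    rw [hQpr (x + (y + z)) (pr x * (pr y * pr z)) (by
        show ((pr x : P) : P ⧸ Z) * ((pr y * pr z : P) : P ⧸ Z) = _
        rw [hadd y z, hpr, map_add σ.symm x, hjadd]),
      hQpr _ _ (hadd x y), hQpr _ _ (hadd x z), hQpr _ _ (hadd y z), hQpr _ _ (hpr x),
      hQpr _ _ (hpr y), hQpr _ _ (hpr z), ← map_add, ← map_add, ← map_add, ← map_add, ← map_add,
      ← map_add, hcube, map_zero]
  let R : F → F := fun x => Q x / Q 1
  have hnadd : ¬ ∀ x y, R (x + y) = R x + R y := fun hadd' => hab (by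
    have hCzero : ∀ a b : P, C a b = 0 := by
      intro a b
      obtain ⟨u, hu⟩ := hjbij.2 (a : P ⧸ Z)
      obtain ⟨w, hw⟩ := hjbij.2 (b : P ⧸ Z)
      have h := hadd' (σ u) (σ w)
      change Q _ / Q 1 = Q _ / Q 1 + Q _ / Q 1 at h
      rw [← add_div, div_left_inj' hQ1,
        hQpr (σ u + σ w) (a * b) (by rw [map_add, σ.symm_apply_apply, σ.symm_apply_apply, hjadd, hu,
          hw, QuotientGroup.mk_mul]),
        hQpr (σ u) a (by rw [σ.symm_apply_apply, hu]), hQpr (σ w) b (by rw [σ.symm_apply_apply, hw]),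
        hsq2, map_add, map_add, add_eq_left] at h
      exact (map_eq_zero τ).1 h
    have h1 : ⁅a₀⁻¹⁻¹, b₀⁆ = 1 := by
      rw [← hii _ (hcval a₀⁻¹⁻¹ b₀), show ii ⁅a₀⁻¹⁻¹, b₀⁆ = 0 from hCzero a₀⁻¹ b₀, hι0]
    rw [inv_inv] at h1
    exact (commutatorElement_eq_one_iff_commute.1 h1).eq)
  obtain ⟨φ, hφ1, hφodd, b, hRb⟩ := exists_twist hF R (by show Q 0 / Q 1 = 0; rw [hQ0, zero_div])
    (fun x y => by
      show Q (x * y) / Q 1 = Q x / Q 1 * (Q y / Q 1)
      rw [div_mul_div_comm, ← hQmul, mul_div_mul_right _ _ hQ1])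
    (fun x y h => hQinj ((div_left_inj' hQ1).1 h))
    (fun x y z => by
      show Q _ / Q 1 + Q _ / Q 1 + Q _ / Q 1 + Q _ / Q 1 + Q _ / Q 1 + Q _ / Q 1 + Q _ / Q 1 = 0
      rw [← add_div, ← add_div, ← add_div, ← add_div, ← add_div, ← add_div, hquad, zero_div])
    hnadd
  refine ⟨F, inferInstance, inferInstance, φ, by rw [hF, ← hn, hqL, Nat.card_eq_fintype_card],
    hφ1, hφodd, ?_⟩
  let jinv : P ⧸ Z → M := je.symm
  let T : P → F := fun p => σ (jinv (p : P ⧸ Z))
  have hjinv : ∀ w, j (jinv w) = w := fun w => je.apply_symm_apply w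
  let s : F → F := fun y => Q 1 * y ^ 2 ^ b
  have hsinj : Function.Injective s := fun x y h =>
    (iterateFrobeniusEquiv F 2 b).injective (by
      rw [iterateFrobeniusEquiv_def, iterateFrobeniusEquiv_def]; exact mul_left_cancel₀ hQ1 h)
  refine nonempty_equiv_typeA (φ : F →+* F) T ?_ (fun y => ι (τ.symm (s y))) ?_ ?_ ?_ ?_ ?_ ?_ ?_
  · intro p q
    show σ _ = σ _ + σ _
    rw [← map_add]
    refine congrArg σ (hjinj ?_)
    rw [hjadd, hjinv, hjinv, hjinv, QuotientGroup.mk_mul]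
  · intro x y
    rw [← hιadd, ← map_add, ← mul_add, ← add_pow_char_pow]
  · exact fun x y h => hsinj (τ.symm.injective (hιinj h))
  · exact fun x g => hcen (hιsq _) g
  · intro p hp
    have h1 : (p : P ⧸ Z) = 1 := by
      rw [← hjinv (p : P ⧸ Z), (map_eq_zero σ).1 hp, hj0]
    have h2 := (hZ p).1 ((QuotientGroup.eq_one_iff p).1 h1)
    obtain ⟨x, hx⟩ := (iterateFrobeniusEquiv F 2 b).surjective (τ (ii p) / Q 1)
    rw [iterateFrobeniusEquiv_def] at hx
    refine ⟨x, ?_⟩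
    show ι (τ.symm (Q 1 * x ^ 2 ^ b)) = p
    rw [hx, mul_div_cancel₀ _ hQ1, τ.symm_apply_apply, hii p h2]
  · intro x
    have h1 : ((ι (τ.symm (s x)) : P) : P ⧸ Z) = 1 :=
      (QuotientGroup.eq_one_iff _).2 ((hZ _).2 (hιsq _))
    show σ (jinv _) = 0
    rw [h1, show jinv 1 = 0 from hjinj (by rw [hjinv, hj0]), map_zero]
  · intro x
    refine ⟨pr x, ?_⟩
    show σ (jinv _) = x
    rw [hpr, show jinv (j (σ.symm x)) = σ.symm x from hjinj (hjinv _), σ.apply_symm_apply]
  · intro p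
    show p * p = ι (τ.symm (Q 1 * (T p * φ (T p)) ^ 2 ^ b))
    rw [← hRb, show Q 1 * R (T p) = Q (T p) from mul_div_cancel₀ _ hQ1,
      hQpr (T p) p (by show _ = j (σ.symm (σ _)); rw [σ.symm_apply_apply, hjinv]),
      τ.symm_apply_apply, hii _ (hsqval p)]

end Cfsg.Lib.Suzuki2
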