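import Mathlib.FieldTheory.Finite.Basic
import Mathlib.Algebra.Algebra.ZMod
import Mathlib.Algebra.Module.ZMod
import Mathlib.LinearAlgebra.Dimension.Finite
import Mathlib.LinearAlgebra.FiniteDimensional.Basic

/-!
# Additive maps of a finite field of characteristic two

Every additive map is a linearized polynomial, and the weights `λ^(1 - 2^i)` of the multiplication
action on them separate the monomials and generate the field for `i ≠ 0`.
-/

set_option autoImplicit false
set_option linter.unusedSectionVars false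

namespace Cfsg.Lib.Suzuki2

open Polynomial

universe u

variable {L : Type u} [Field L] [Fintype L] [CharP L 2] {n : ℕ}

theorem pow_two_pow_add (hn : Fintype.card L = 2 ^ n) (x : L) (m : ℕ) :
    x ^ 2 ^ m = x ^ 2 ^ (m % n) := by
  conv_lhs => rw [← Nat.div_add_mod m n, pow_add, pow_mul (2 : ℕ), pow_mul, ← hn, FiniteField.pow_card_pow]

theorem coeff_unique (hn : Fintype.card L = 2 ^ n) (a : Fin n → L)
    (h : ∀ x : L, ∑ i : Fin n, a i * x ^ 2 ^ (i : ℕ) = 0) : a = 0 := by
  classical
  let f : L[X] := ∑ i : Fin n, C (a i) * X ^ 2 ^ (i : ℕ)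
  have hd : f.natDegree < Fintype.card L := by
    by_cases hn0 : n = 0
    · subst hn0
      simp [f, Fintype.card_pos]
    refine lt_of_le_of_lt (natDegree_sum_le_of_forall_le (n := 2 ^ (n - 1)) _ _ fun i _ => ?_) ?_
    · exact (natDegree_C_mul_X_pow_le _ _).trans (Nat.pow_le_pow_right (by norm_num) (by omega))
    · rw [hn]; exact Nat.pow_lt_pow_right (by norm_num) (by omega)
  have hf : f = 0 := eq_zero_of_natDegree_lt_card_of_eval_eq_zero f Function.injective_id
    (fun x => by simpa [f, eval_finset_sum] using h x) hd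
  funext i
  have := congrArg (fun g => g.coeff (2 ^ (i : ℕ))) hf
  simp only [f, finset_sum_coeff, coeff_C_mul_X_pow, coeff_zero] at this
  rw [Finset.sum_eq_single i (fun j _ hj => if_neg fun e => hj
    (Fin.ext (Nat.pow_right_injective le_rfl e.symm))) (by simp)] at this
  simpa using this

/-- An additive map is a linearized polynomial. -/
theorem exists_coeff (hn : Fintype.card L = 2 ^ n) (f : L → L) (hf : ∀ x y, f (x + y) = f x + f y) :
    ∃ a : Fin n → L, ∀ x, f x = ∑ i : Fin n, a i * x ^ 2 ^ (i : ℕ) := by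
  classical
  letI : Algebra (ZMod 2) L := ZMod.algebra L 2
  let φ : Fin n → (L →ₗ[ZMod 2] L) := fun i =>
    (((iterateFrobenius L 2 (i : ℕ)).toAddMonoidHom).toZModLinearMap 2)
  have hφ : ∀ i x, φ i x = x ^ 2 ^ (i : ℕ) := fun i x => by simp [φ, iterateFrobenius_def]
  let Λ : (Fin n → L) →ₗ[L] (L →ₗ[ZMod 2] L) := Fintype.linearCombination L φ
  have hΛ : ∀ a x, Λ a x = ∑ i : Fin n, a i * x ^ 2 ^ (i : ℕ) := fun a x => by
    simp [Λ, Fintype.linearCombination_apply, hφ]
  have hinj : Function.Injective Λ := (injective_iff_map_eq_zero Λ).2 fun a ha =>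
    coeff_unique hn a fun x => by rw [← hΛ, ha]; rfl
  have hfin : Module.finrank (ZMod 2) L = n := by
    have h := Module.card_eq_pow_finrank (K := ZMod 2) (V := L)
    rw [hn, ZMod.card] at h
    exact (Nat.pow_right_injective le_rfl h).symm
  have hdim : Module.finrank L (Fin n → L) = Module.finrank L (L →ₗ[ZMod 2] L) := by
    rw [Module.finrank_pi, Fintype.card_fin, Module.finrank_linearMap, hfin, Module.finrank_self,
      mul_one]
  obtain ⟨a, ha⟩ := (LinearMap.injective_iff_surjective_of_finrank_eq_finrank hdim).1 hinj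
    ((AddMonoidHom.mk' f hf).toZModLinearMap 2)
  exact ⟨a, fun x => by rw [← hΛ, ha]; rfl⟩

/-- The weight of the monomial of index `i`. -/
def weight (l : L) (i : ℕ) : L := l / l ^ 2 ^ i

theorem exists_gen (L : Type u) [Field L] [Fintype L] :
    ∃ l : L, l ≠ 0 ∧ orderOf l = Fintype.card L - 1 := by
  classical
  obtain ⟨g, hg⟩ := IsCyclic.exists_ofOrder_eq_natCard (α := Lˣ)
  exact ⟨g, g.ne_zero, by rw [orderOf_units, hg, Nat.card_eq_fintype_card, Fintype.card_units]⟩

/-- Conjugate weights have equal index. -/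
theorem weight_inj (hn : Fintype.card L = 2 ^ n) {l : L} (hl0 : l ≠ 0)
    (hl : orderOf l = Fintype.card L - 1) {i j t : ℕ} (hi : i < n) (hj : j < n) (ht : t < n)
    (h : weight l i = weight l j ^ 2 ^ t) : i = j ∧ (i = 0 ∨ t = 0) := by
  rw [weight, weight, div_pow, ← pow_mul, ← pow_add,
    div_eq_div_iff (pow_ne_zero _ hl0) (pow_ne_zero _ hl0), pow_two_pow_add hn l (j + t),
    ← pow_succ', ← pow_add] at h
  set m := (j + t) % n with hm
  have hmn : m < n := Nat.mod_lt _ (by omega)
  have hfin : IsOfFinOrder l := isOfFinOrder_iff_pow_eq_one.2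
    ⟨Fintype.card L - 1, by have := Fintype.one_lt_card (α := L); omega,
      FiniteField.pow_card_sub_one_eq_one l hl0⟩
  rw [hfin.pow_eq_pow_iff_modEq, hl] at h
  have hb : ∀ a, a < n → 2 * 2 ^ a ≤ 2 ^ n := fun a ha => by
    rw [← pow_succ']; exact Nat.pow_le_pow_right (by norm_num) ha
  have b1 := hb m hmn
  have b2 := hb t ht
  have b3 := hb i hi
  have p1 := Nat.one_le_two_pow (n := m)
  have p2 := Nat.one_le_two_pow (n := t)
  have p3 := Nat.one_le_two_pow (n := i)
  have heq : 2 ^ m + 1 = 2 ^ t + 2 ^ i := by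
    have hmod : 2 ^ m + 1 ≡ 2 ^ t + 2 ^ i [MOD Fintype.card L - 1] := h
    rw [show 2 ^ m + 1 = (2 ^ m + 1 - 2) + 2 by omega,
      show 2 ^ t + 2 ^ i = (2 ^ t + 2 ^ i - 2) + 2 by omega] at hmod
    have := (Nat.ModEq.add_right_cancel' 2 hmod).eq_of_lt_of_lt (by omega) (by omega)
    omega
  have hmj : t = 0 → m = j := fun h0 => by rw [hm, h0, add_zero, Nat.mod_eq_of_lt hj]
  rcases Nat.eq_zero_or_pos t with h0 | h0
  · rw [h0, pow_zero, add_comm 1] at heq
    exact ⟨by rw [← Nat.pow_right_injective le_rfl (Nat.add_right_cancel heq), hmj h0], Or.inr h0⟩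
  rcases Nat.eq_zero_or_pos i with h1 | h1
  · rw [h1, pow_zero] at heq
    have hmt : m = t := Nat.pow_right_injective le_rfl (Nat.add_right_cancel heq)
    refine ⟨?_, Or.inl h1⟩
    rw [h1]
    by_contra hj0
    rw [hm] at hmt
    by_cases hlt : j + t < n
    · rw [Nat.mod_eq_of_lt hlt] at hmt; omega
    · rw [Nat.mod_eq_sub_mod (by omega), Nat.mod_eq_of_lt (by omega)] at hmt; omega
  exfalso
  have e1 : 2 ^ t % 2 = 0 := by
    obtain ⟨t', rfl⟩ := Nat.exists_eq_succ_of_ne_zero h0.ne'
    rw [pow_succ]; omega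
  have e2 : 2 ^ i % 2 = 0 := by
    obtain ⟨i', rfl⟩ := Nat.exists_eq_succ_of_ne_zero h1.ne'
    rw [pow_succ]; omega
  rcases Nat.eq_zero_or_pos m with h2 | h2
  · rw [h2, pow_zero] at heq; omega
  · obtain ⟨m', h2'⟩ := Nat.exists_eq_succ_of_ne_zero h2.ne'
    rw [h2', pow_succ] at heq; omega

/-- A set of coefficient vectors invariant under the weights is closed under projections. -/
theorem proj_mem (hn : Fintype.card L = 2 ^ n) {l : L} (hl0 : l ≠ 0)
    (hl : orderOf l = Fintype.card L - 1) (W : AddSubgroup (Fin n → L))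
    (hW : ∀ a ∈ W, (fun i : Fin n => weight l i * a i) ∈ W) {a : Fin n → L} (ha : a ∈ W) (i : Fin n) :
    Pi.single i (a i) ∈ W := by
  classical
  -- the operators preserving `W`
  let R : Subsemiring (Fin n → L) :=
    { carrier := {r | ∀ a ∈ W, r * a ∈ W}
      one_mem' := fun a ha => by rwa [one_mul]
      mul_mem' := fun {r s} hr hs a ha => by rw [mul_assoc]; exact hr _ (hs a ha)
      zero_mem' := fun a _ => by rw [zero_mul]; exact W.zero_mem
      add_mem' := fun {r s} hr hs a ha => by rw [add_mul]; exact W.add_mem (hr a ha) (hs a ha) }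
  have hwR : (fun i : Fin n => weight l i) ∈ R := hW
  have hsep : ∀ j : Fin n, ∃ r ∈ R, j ≠ i → r j = 0 ∧ r i ≠ 0 := by
    intro j
    let f : L[X] := ∏ t ∈ Finset.range n, (X - C (weight l j ^ 2 ^ t))
    have hper : weight l j ^ 2 ^ n = weight l j := by rw [← hn, FiniteField.pow_card]
    have hfix : f.map (frobenius L 2) = f := by
      simp only [f, Polynomial.map_prod, Polynomial.map_sub, map_X, map_C, frobenius_def, ← pow_mul,
        ← pow_succ]
      have h1 := Finset.prod_range_succ' (fun t => X - C (weight l j ^ 2 ^ t)) n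
      rw [Finset.prod_range_succ, hper] at h1
      simp only [pow_zero, pow_one] at h1
      exact (mul_right_cancel₀ (X_sub_C_ne_zero _) h1).symm
    have hcoef : ∀ t, f.coeff t = 0 ∨ f.coeff t = 1 := by
      intro t
      have h := congrArg (fun g => g.coeff t) hfix
      simp only [coeff_map, frobenius_def, pow_two] at h
      rcases eq_or_ne (f.coeff t) 0 with h0 | h0
      · exact Or.inl h0
      · exact Or.inr (mul_right_cancel₀ h0 (h.trans (one_mul _).symm))
    refine ⟨fun k => f.eval (weight l k), ?_, fun hji => ⟨?_, ?_⟩⟩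
    · have e : (fun k : Fin n => f.eval (weight l k)) =
          ∑ t ∈ Finset.range (f.natDegree + 1),
            if f.coeff t = 0 then 0 else (fun k : Fin n => weight l k) ^ t := by
        funext k
        rw [eval_eq_sum_range, Finset.sum_apply]
        refine Finset.sum_congr rfl fun t _ => ?_
        rcases hcoef t with h | h <;> simp [h]
      rw [e]
      exact R.sum_mem fun t _ => by
        split
        · exact R.zero_mem
        · exact pow_mem hwR t
    · show f.eval (weight l j) = 0
      rw [eval_prod]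
      exact Finset.prod_eq_zero (Finset.mem_range.2 (Fin.pos i)) (by simp)
    · show f.eval (weight l i) ≠ 0
      rw [eval_prod, Finset.prod_ne_zero_iff]
      intro t ht
      rw [eval_sub, eval_X, eval_C, sub_ne_zero]
      exact fun h => hji (Fin.ext (weight_inj hn hl0 hl i.2 j.2 (Finset.mem_range.1 ht) h).1).symm
  choose r hrR hr using hsep
  let e : Fin n → L := (∏ j ∈ Finset.univ.erase i, r j) ^ (Fintype.card L - 1)
  have heR : e ∈ R := pow_mem (prod_mem fun j _ => hrR j) _
  have hcpos : Fintype.card L - 1 ≠ 0 := by have := Fintype.one_lt_card (α := L); omega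
  have he : e * a = Pi.single i (a i) := by
    funext k
    simp only [e, Pi.mul_apply, Pi.pow_apply, Finset.prod_apply]
    by_cases hk : k = i
    · subst hk
      rw [Pi.single_eq_same, FiniteField.pow_card_sub_one_eq_one _
        (Finset.prod_ne_zero_iff.2 fun j hj => (hr j (Finset.ne_of_mem_erase hj)).2), one_mul]
    · rw [Pi.single_eq_of_ne hk, Finset.prod_eq_zero (f := fun c => r c k) (Finset.mem_erase.2 ⟨hk, Finset.mem_univ k⟩)
        (hr k hk).1, zero_pow hcpos, zero_mul]
  exact he ▸ heR a ha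

/-- A nonzero additive subgroup stable under a weight of nonzero index is everything. -/
theorem full_of_weight (hn : Fintype.card L = 2 ^ n) {l : L} (hl0 : l ≠ 0)
    (hl : orderOf l = Fintype.card L - 1) {i : ℕ} (hi : i < n) (hi0 : i ≠ 0) (S : AddSubgroup L)
    (hS : ∀ x ∈ S, weight l i * x ∈ S) {u : L} (hu : u ∈ S) (hu0 : u ≠ 0) : ∀ x, x ∈ S := by
  classical
  let R : Subring L :=
    { carrier := {r | ∀ x ∈ S, r * x ∈ S}
      one_mem' := fun x hx => by rwa [one_mul]
      mul_mem' := fun {r s} hr hs x hx => by rw [mul_assoc]; exact hr _ (hs x hx)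
      zero_mem' := fun x _ => by rw [zero_mul]; exact S.zero_mem
      add_mem' := fun {r s} hr hs x hx => by rw [add_mul]; exact S.add_mem (hr x hx) (hs x hx)
      neg_mem' := fun {r} hr x hx => by rw [neg_mul]; exact S.neg_mem (hr x hx) }
  obtain ⟨d, hd, hRc⟩ : ∃ d ≤ n, Nat.card R = 2 ^ d := by
    have h1 : Nat.card R ∣ 2 ^ n := by
      rw [← hn, ← Nat.card_eq_fintype_card]
      exact AddSubgroup.card_addSubgroup_dvd_card R.toAddSubgroup
    exact (Nat.dvd_prime_pow Nat.prime_two).1 h1
  letI : Fintype R := Fintype.ofFinite R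
  letI : Field R := Fintype.fieldOfDomain R
  have hw : weight l i ^ 2 ^ d = weight l i := by
    have h := FiniteField.pow_card (⟨weight l i, hS⟩ : R)
    rw [← Nat.card_eq_fintype_card, hRc] at h
    exact congrArg Subtype.val h
  have hdn : d = n := by
    rcases hd.eq_or_lt with h | h
    · exact h
    · have h0 := ((weight_inj hn hl0 hl hi hi h hw.symm).2).resolve_left hi0
      rw [h0, pow_zero] at hRc
      have := Finite.one_lt_card (α := R)
      omega
  have htop : ∀ x, x ∈ R := by
    intro x
    have h := AddSubgroup.eq_top_of_card_eq R.toAddSubgroup (by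
      show Nat.card R = _
      rw [hRc, hdn, ← hn, Nat.card_eq_fintype_card])
    exact (SetLike.ext_iff.1 h x).2 trivial
  intro x
  have := htop (x / u) u hu
  rwa [div_mul_cancel₀ x hu0] at this

end Cfsg.Lib.Suzuki2
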