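import Cfsg.Agent.Lib.Fusion.Alperin
import Cfsg.Agent.Lib.Fusion.Basic
import Mathlib

/-!
Invariants of fusion checked on odd local elements, and their transfer.
-/

set_option autoImplicit false
set_option linter.unusedSectionVars false

namespace Cfsg.Lib.TwoGroup.FusionInvariant

open Subgroup
open scoped Pointwise

variable {G : Type*} [Group G] [Finite G]

theorem exists_odd_lift {N : Type*} [Group N] [Finite N] {A : Type*} [Group A] (f : N →* A) (g : N)
    (h : Odd (orderOf (f g))) :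
    ∃ (k : ℕ), Odd (orderOf (g ^ k)) ∧ f (g ^ k) = f g := by
  obtain ⟨i, m, hm, hkm⟩ := Nat.exists_eq_two_pow_mul_odd (orderOf_pos g).ne'
  obtain ⟨a, ha⟩ : ∃ a : ℕ, 2 ^ i * a ≡ 1 [MOD orderOf (f g)] := by
    rcases Nat.lt_or_ge 1 (orderOf (f g)) with h1 | h1
    · obtain ⟨a, ha⟩ := Nat.exists_mul_mod_eq_one_of_coprime
        ((Nat.coprime_two_left.mpr h).pow_left i) h1
      refine ⟨a, ?_⟩
      simp only [Nat.ModEq, Nat.mod_eq_of_lt h1]
      simpa using ha.2
    · refine ⟨0, ?_⟩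
      rw [show orderOf (f g) = 1 by have := h.pos; omega]
      exact Nat.modEq_one
  refine ⟨2 ^ i * a, ?_, ?_⟩
  · refine Odd.of_dvd_nat hm (orderOf_dvd_of_pow_eq_one ?_)
    rw [← pow_mul, show 2 ^ i * a * m = orderOf g * a by rw [hkm]; ring, pow_mul, pow_orderOf_eq_one,
      one_pow]
  · rw [map_pow]
    conv_rhs => rw [← pow_one (f g)]
    exact pow_eq_pow_iff_modEq.mpr ha

/-- An element is a product of an element of odd order and a two-element, both powers of it. -/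
theorem exists_decomp {N : Type*} [Group N] [Finite N] (g : N) :
    ∃ i j : ℤ, ∃ k : ℕ, Odd (orderOf (g ^ i)) ∧ (g ^ j) ^ 2 ^ k = 1 ∧ g = g ^ i * g ^ j := by
  obtain ⟨k, m, hm, hkm⟩ := Nat.exists_eq_two_pow_mul_odd (orderOf_pos g).ne'
  obtain ⟨x, y, hxy⟩ : IsCoprime ((2 : ℤ) ^ k) (m : ℤ) := by
    refine IsCoprime.pow_left ?_
    obtain ⟨t, rfl⟩ := hm
    exact ⟨-(t : ℤ), 1, by push_cast; ring⟩
  refine ⟨x * 2 ^ k, y * m, k, ?_, ?_, ?_⟩
  · refine Odd.of_dvd_nat hm (orderOf_dvd_of_pow_eq_one ?_)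
    rw [← zpow_natCast, ← zpow_mul, ← orderOf_dvd_iff_zpow_eq_one, hkm]
    push_cast
    exact ⟨x, by ring⟩
  · rw [← zpow_natCast, ← zpow_mul, ← orderOf_dvd_iff_zpow_eq_one, hkm]
    push_cast
    exact ⟨y, by ring⟩
  · rw [← zpow_add, hxy, zpow_one]

/-- In a tame step the Sylow subgroup meets the centralizer in a Sylow subgroup of it. -/
theorem sylow_centralizer (S : Sylow 2 G) {D : Subgroup G}
    (htame : ¬ 2 ∣ ((S : Subgroup G) ⊓ normalizer (D : Set G)).relIndex (normalizer (D : Set G))) :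
    ∀ T : Subgroup G, IsPGroup 2 ↥T → T ≤ centralizer (D : Set G) →
      Nat.card T ≤ Nat.card ↥((S : Subgroup G) ⊓ centralizer (D : Set G)) := by
  haveI : Fact (Nat.Prime 2) := ⟨Nat.prime_two⟩
  intro T hT hTC
  set N := normalizer (D : Set G) with hN
  set R := (S : Subgroup G) ⊓ N with hR
  have hCN : centralizer (D : Set G) ≤ N := centralizer_le_normalizer (D : Set G)
  have hRp : IsPGroup 2 ↥(R.subgroupOf N) :=
    ((S.isPGroup'.to_le inf_le_left : IsPGroup 2 ↥R)).of_equiv (subgroupOfEquivOfLe inf_le_right).symm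
  let R' : Sylow 2 ↥N := hRp.toSylow htame
  obtain ⟨Q, hQ⟩ := (hT.of_equiv (subgroupOfEquivOfLe (hTC.trans hCN)).symm :
    IsPGroup 2 ↥(T.subgroupOf N)).exists_le_sylow
  obtain ⟨n, hn⟩ := MulAction.exists_smul_eq ↥N Q R'
  refine (card_map_of_injective (MulAut.conj (n : G)).injective).ge.trans
    (card_le_of_le (?_ : T.map (MulAut.conj (n : G)).toMonoidHom ≤ _))
  rintro _ ⟨t, ht, rfl⟩
  refine ⟨?_, ?_⟩
  · have h1 : n * ⟨t, hCN (hTC ht)⟩ * n⁻¹ ∈ (R' : Subgroup ↥N) := by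
      rw [← hn, Sylow.coe_subgroup_smul, mem_smul_pointwise_iff_exists]
      exact ⟨_, hQ (mem_subgroupOf.mpr ht), rfl⟩
    exact (mem_inf.mp (mem_subgroupOf.mp h1)).1
  · show (n : G) * t * (n : G)⁻¹ ∈ centralizer (D : Set G)
    rw [mem_centralizer_iff]
    intro d hd
    have hd' : (n : G)⁻¹ * d * n ∈ D := by
      have := (mem_normalizer_iff.mp (N.inv_mem n.2) d).mp hd
      simpa using this
    have h1 := mem_centralizer_iff.mp (hTC ht) _ hd'
    show d * ((n : G) * t * (n : G)⁻¹) = (n : G) * t * (n : G)⁻¹ * d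
    calc d * ((n : G) * t * (n : G)⁻¹) = (n : G) * (((n : G)⁻¹ * d * n) * t) * (n : G)⁻¹ := by group
      _ = (n : G) * (t * ((n : G)⁻¹ * d * n)) * (n : G)⁻¹ := by rw [h1]
      _ = (n : G) * t * (n : G)⁻¹ * d := by group

/-- Replace an odd element normalizing a tame `D` by one normalizing a self-centralizing subgroup. -/
theorem odd_step (S : Sylow 2 G) {D : Subgroup G} (hD : D ≤ (S : Subgroup G))
    (htame : ¬ 2 ∣ ((S : Subgroup G) ⊓ normalizer (D : Set G)).relIndex (normalizer (D : Set G)))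
    {g : G} (hg : g ∈ normalizer (D : Set G)) (hodd : Odd (orderOf g)) :
    ∃ (D' : Subgroup ↥(S : Subgroup G)) (g' : G),
      D ≤ D'.map (S : Subgroup G).subtype ∧ centralizer (D' : Set ↥(S : Subgroup G)) ≤ D' ∧
      g' ∈ normalizer (D'.map (S : Subgroup G).subtype : Set G) ∧ Odd (orderOf g') ∧
      (∀ x ∈ D, g * x * g⁻¹ = g' * x * g'⁻¹) ∧
      (IsPGroup 2 (MulAut ↥D') → ∀ x ∈ D'.map (S : Subgroup G).subtype, g' * x * g'⁻¹ = x) := by
  classical
  haveI : Fact (Nat.Prime 2) := ⟨Nat.prime_two⟩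
  set N := normalizer (D : Set G) with hN
  set C := centralizer (D : Set G) with hC
  set P₀ := (S : Subgroup G) ⊓ C with hP₀
  have hCN : C ≤ N := centralizer_le_normalizer (D : Set G)
  have hPp : IsPGroup 2 ↥P₀ := S.isPGroup'.to_le inf_le_left
  have hmax := sylow_centralizer S htame
  have hPC : P₀ ≤ C := inf_le_right
  obtain ⟨P, hP⟩ := (hPp.of_equiv (subgroupOfEquivOfLe hPC).symm : IsPGroup 2 ↥(P₀.subgroupOf C)).exists_le_sylow
  have hPeq : (P : Subgroup ↥C).map C.subtype = P₀ := by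
    symm
    refine eq_of_le_of_card_ge (fun x hx => ⟨⟨x, hPC hx⟩, hP (mem_subgroupOf.mpr hx), rfl⟩) ?_
    exact hmax _ (P.isPGroup'.map _) (map_subtype_le _)
  have hconjC : ∀ c ∈ C, g * c * g⁻¹ ∈ C := by
    intro c hc
    rw [hC, mem_centralizer_iff]
    intro d hd
    have hd' : g⁻¹ * d * g ∈ D := by
      have := (mem_normalizer_iff.mp (N.inv_mem hg) d).mp hd
      simpa using this
    have h1 := mem_centralizer_iff.mp hc _ hd'
    calc d * (g * c * g⁻¹) = g * ((g⁻¹ * d * g) * c) * g⁻¹ := by group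
      _ = g * (c * (g⁻¹ * d * g)) * g⁻¹ := by rw [h1]
      _ = g * c * g⁻¹ * d := by group
  have hP₁C : P₀.map (MulAut.conj g).toMonoidHom ≤ C := by
    rintro _ ⟨x, hx, rfl⟩
    exact hconjC x (hPC hx)
  obtain ⟨P₁, hP₁⟩ := ((hPp.map _).of_equiv (subgroupOfEquivOfLe hP₁C).symm :
    IsPGroup 2 ↥((P₀.map (MulAut.conj g).toMonoidHom).subgroupOf C)).exists_le_sylow
  obtain ⟨c, hc⟩ := MulAction.exists_smul_eq ↥C P₁ P
  set h := (c : G) * g with hh
  have hhD : ∀ x ∈ D, h * x * h⁻¹ = g * x * g⁻¹ := by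
    intro x hx
    have hgx : g * x * g⁻¹ ∈ D := (mem_normalizer_iff.mp hg x).mp hx
    have h1 := mem_centralizer_iff.mp c.2 _ hgx
    calc h * x * h⁻¹ = (c : G) * (g * x * g⁻¹) * (c : G)⁻¹ := by rw [hh]; group
      _ = g * x * g⁻¹ := by rw [← h1, mul_inv_cancel_right]
  have hhN : h ∈ N := mul_mem (hCN c.2) hg
  have hhP : ∀ x ∈ P₀, h * x * h⁻¹ ∈ P₀ := by
    intro x hx
    have h0 : g * x * g⁻¹ ∈ P₀.map (MulAut.conj g).toMonoidHom := ⟨x, hx, rfl⟩
    have h1 : c * ⟨_, hP₁C h0⟩ * c⁻¹ ∈ (P : Subgroup ↥C) := by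
      rw [← hc, Sylow.coe_subgroup_smul, mem_smul_pointwise_iff_exists]
      exact ⟨_, hP₁ (mem_subgroupOf.mpr h0), rfl⟩
    rw [← hPeq]
    exact ⟨_, h1, by rw [hh]; simp [mul_assoc]⟩
  set D₀ := D ⊔ P₀ with hD₀
  have hD₀S : D₀ ≤ (S : Subgroup G) := sup_le hD inf_le_left
  have hhD₀ : h ∈ normalizer (D₀ : Set G) := by
    rw [mem_normalizer_iff_map_conj_eq]
    refine eq_of_le_of_card_ge ?_ (card_map_of_injective (MulAut.conj h).injective).ge
    rw [hD₀, Subgroup.map_sup]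
    refine sup_le_sup ?_ ?_
    · rintro _ ⟨x, hx, rfl⟩; exact (mem_normalizer_iff.mp hhN x).mp hx
    · rintro _ ⟨x, hx, rfl⟩; exact hhP x hx
  -- the odd lift
  let f := D.normalizerMonoidHom
  have hfh : f ⟨h, hhN⟩ = f ⟨g, hg⟩ := by
    ext ⟨x, hx⟩
    exact hhD x hx
  have hoddf : Odd (orderOf (f ⟨h, hhN⟩)) := by
    rw [hfh]
    refine Odd.of_dvd_nat hodd ((orderOf_map_dvd f _).trans ?_)
    rw [Subgroup.orderOf_mk]
  obtain ⟨k, hk, hkf⟩ := exists_odd_lift f ⟨h, hhN⟩ hoddf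
  refine ⟨D₀.subgroupOf (S : Subgroup G), h ^ k, ?_, ?_, ?_, ?_, ?_, ?_⟩
  · rw [map_subgroupOf_eq_of_le hD₀S]; exact le_sup_left
  · intro s hs
    rw [mem_centralizer_iff] at hs
    refine mem_subgroupOf.mpr (mem_sup_right ⟨s.2, ?_⟩)
    show (s : G) ∈ centralizer (D : Set G)
    rw [mem_centralizer_iff]
    intro d hd
    exact congrArg Subtype.val (hs ⟨d, hD hd⟩ (mem_subgroupOf.mpr (mem_sup_left hd)))
  · rw [map_subgroupOf_eq_of_le hD₀S]
    exact pow_mem hhD₀ k
  · rw [← Subgroup.orderOf_coe] at hk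
    simpa using hk
  · intro x hx
    have h1 := DFunLike.congr_fun (hkf.trans hfh) ⟨x, hx⟩
    exact (congrArg Subtype.val h1).symm
  · intro hP2 x hx
    set D₁ := D₀.subgroupOf (S : Subgroup G) with hD₁
    have hmap : D₁.map (S : Subgroup G).subtype = D₀ := map_subgroupOf_eq_of_le hD₀S
    have hn : h ^ k ∈ normalizer (D₁.map (S : Subgroup G).subtype : Set G) := by
      rw [hmap]; exact pow_mem hhD₀ k
    haveI : Finite (MulAut ↥(D₁.map (S : Subgroup G).subtype)) :=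
      Finite.of_injective (fun σ : MulAut ↥(D₁.map (S : Subgroup G).subtype) => (σ : _ → _)) DFunLike.coe_injective
    have hP2' : IsPGroup 2 (MulAut ↥(D₁.map (S : Subgroup G).subtype)) :=
      hP2.of_equiv (MulAut.congr (D₁.equivMapOfInjective _ (S : Subgroup G).subtype_injective))
    let f' := (D₁.map (S : Subgroup G).subtype).normalizerMonoidHom
    obtain ⟨j, hj⟩ := hP2' (f' ⟨h ^ k, hn⟩)
    have d1 : orderOf (f' ⟨h ^ k, hn⟩) ∣ orderOf (h ^ k) :=
      (orderOf_map_dvd f' _).trans (by rw [Subgroup.orderOf_mk])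
    have hk' : Odd (orderOf (h ^ k)) := by
      rw [← Subgroup.orderOf_coe] at hk
      simpa using hk
    have h1 : f' ⟨h ^ k, hn⟩ = 1 := orderOf_eq_one_iff.mp (Nat.eq_one_of_dvd_coprimes
      ((Nat.coprime_two_right.mpr hk').pow_right j) d1 (orderOf_dvd_of_pow_eq_one hj))
    exact congrArg Subtype.val (DFunLike.congr_fun h1 ⟨x, hx⟩)

/-- Fusion invariants only need to be checked on the Sylow subgroup and on odd local elements. -/
theorem invariant (S : Sylow 2 G) {α : Type*} (χ : G → α)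
    (hS : ∀ s ∈ (S : Subgroup G), ∀ x ∈ (S : Subgroup G), χ (s * x * s⁻¹) = χ x)
    (hloc : ∀ (D : Subgroup ↥(S : Subgroup G)), centralizer (D : Set ↥(S : Subgroup G)) ≤ D →
      ¬ IsPGroup 2 (MulAut ↥D) → ∀ g ∈ normalizer (D.map (S : Subgroup G).subtype : Set G),
      Odd (orderOf g) → ∀ x ∈ D.map (S : Subgroup G).subtype, χ (g * x * g⁻¹) = χ x) :
    ∀ x ∈ (S : Subgroup G), ∀ g : G, g * x * g⁻¹ ∈ (S : Subgroup G) → χ (g * x * g⁻¹) = χ x := by
  classical
  haveI : Fact (Nat.Prime 2) := ⟨Nat.prime_two⟩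
  have step : ∀ Q : Sylow 2 G, Cfsg.Lib.Fusion.IsTame S Q → ∀ y ∈ normalizer
      (((S : Subgroup G) ⊓ (Q : Subgroup G) : Subgroup G) : Set G),
      ∀ x ∈ (S : Subgroup G) ⊓ (Q : Subgroup G), χ (y * x * y⁻¹) = χ x := by
    intro Q hQ y hy
    set D := (S : Subgroup G) ⊓ (Q : Subgroup G) with hDdef
    have hD : D ≤ (S : Subgroup G) := inf_le_left
    set N := normalizer (D : Set G) with hN
    let M : Subgroup ↥N :=
      { carrier := {n | ∀ x ∈ D, χ ((n : G) * x * (n : G)⁻¹) = χ x}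
        one_mem' := by intro x _; simp
        mul_mem' := by
          intro a b ha hb x hx
          have hbx : (b : G) * x * (b : G)⁻¹ ∈ D := (mem_normalizer_iff.mp b.2 x).mp hx
          have := ha _ hbx
          rw [hb x hx] at this
          simpa [mul_assoc] using this
        inv_mem' := by
          intro a ha x hx
          have hax : (a : G)⁻¹ * x * a ∈ D := by
            have := (mem_normalizer_iff.mp (N.inv_mem a.2) x).mp hx
            simpa using this
          have := ha _ hax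
          simpa [mul_assoc] using this.symm }
    have hR : ((S : Subgroup G) ⊓ N).subgroupOf N ≤ M := by
      intro n hn x hx
      exact hS _ (mem_inf.mp (mem_subgroupOf.mp hn)).1 x (hD hx)
    have hres : Cfsg.pResidual 2 ↥N ≤ M := by
      rw [Cfsg.pResidual, closure_le]
      intro n hn x hx
      have hodd : Odd (orderOf (n : G)) := by
        rw [Subgroup.orderOf_coe]
        exact Nat.coprime_two_right.mp hn
      obtain ⟨D', g', hDD', hC', hg', hodd', hact, htriv⟩ :=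
        odd_step S hD hQ.1 n.2 hodd
      rw [hact x hx]
      by_cases hP : IsPGroup 2 (MulAut ↥D')
      · rw [htriv hP x (hDD' hx)]
      · exact hloc D' hC' hP g' hg' hodd' x (hDD' hx)
    have hRp : IsPGroup 2 ↥(((S : Subgroup G) ⊓ N).subgroupOf N) :=
      (S.isPGroup'.to_le inf_le_left : IsPGroup 2 ↥((S : Subgroup G) ⊓ N)).of_equiv
        (subgroupOfEquivOfLe inf_le_right).symm
    have htop := Cfsg.Lib.Fusion.sylow_sup_pResidual (hRp.toSylow hQ.1)
    have : (⟨y, hy⟩ : ↥N) ∈ M := (sup_le hR hres) (by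
      rw [show ((S : Subgroup G) ⊓ N).subgroupOf N = ((hRp.toSylow hQ.1 : Sylow 2 ↥N) : Subgroup ↥N) from rfl,
        htop]
      exact mem_top _)
    exact this
  intro x hx g hg
  obtain ⟨l, hl, hprod⟩ := Cfsg.Lib.Fusion.alperin S (zpowers x) g⁻¹ (zpowers_le.mpr hx)
    (Cfsg.Lib.Fusion.conjR_le_iff.mpr fun y hy => by
      obtain ⟨i, rfl⟩ := mem_zpowers_iff.mp hy
      rw [inv_inv, ← conj_zpow]
      exact zpow_mem hg i)
  have key : ∀ (l : List (Sylow 2 G × G)) (D : Subgroup G), Cfsg.Lib.Fusion.Chain S l D →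
      ∀ x ∈ D, χ ((Cfsg.Lib.Fusion.chainProd l)⁻¹ * x * Cfsg.Lib.Fusion.chainProd l) = χ x := by
    intro l
    induction l with
    | nil => intro D _ x _; simp [Cfsg.Lib.Fusion.chainProd]
    | cons b l ih =>
      intro D hD x hx
      obtain ⟨ht, hn, hle, hc⟩ := hD
      have h1 := ih _ hc _ (Cfsg.Lib.Fusion.conj_mem_conjR hx)
      have h2 := step b.1 ht b.2⁻¹ (inv_mem hn) x (hle hx)
      rw [inv_inv] at h2
      have h4 : Cfsg.Lib.Fusion.chainProd (b :: l) = b.2 * Cfsg.Lib.Fusion.chainProd l := by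
        simp [Cfsg.Lib.Fusion.chainProd]
      rw [h4, ← h2, ← h1]
      congr 1
      group
  have := key l _ hl x (mem_zpowers x)
  rw [hprod, inv_inv] at this
  exact this

/-- A fusion invariant character of a Sylow subgroup transfers to a homomorphism of the group. -/
theorem exists_transfer (S : Sylow 2 G) {A : Type*} [CommGroup A] (χ : ↥(S : Subgroup G) →* A)
    (hinv : ∀ (x : ↥(S : Subgroup G)) (g : G) (h : g * x * g⁻¹ ∈ (S : Subgroup G)),
      χ ⟨_, h⟩ = χ x) :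
    ∃ τ : G →* A, ∀ x : ↥(S : Subgroup G), τ x = χ x ^ (S : Subgroup G).index := by
  classical
  haveI : (S : Subgroup G).FiniteIndex := inferInstance
  letI := (S : Subgroup G).fintypeQuotientOfFiniteIndex
  refine ⟨MonoidHom.transfer χ, fun x => ?_⟩
  have hterm : ∀ (m : ℕ) (a : G) (ha : a⁻¹ * (x : G) ^ m * a ∈ (S : Subgroup G)),
      χ ⟨a⁻¹ * (x : G) ^ m * a, ha⟩ = χ x ^ m := by
    intro m a ha
    have h1 := hinv (x ^ m) a⁻¹ (by simpa using ha)
    rw [← map_pow, ← h1]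
    congr 1
    exact Subtype.ext (by simp)
  rw [MonoidHom.transfer_eq_prod_quotient_orbitRel_zpowers_quot,
    Finset.prod_congr rfl (fun q _ => hterm _ _ _), Finset.prod_pow_eq_pow_sum,
    ← Subgroup.index_eq_sum_minimalPeriod]

end Cfsg.Lib.TwoGroup.FusionInvariant
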