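import Cfsg.Agent.Lib.TwoGroup.WreathedX
import Cfsg.Agent.Lib.TwoGroup.FusionInvariant
import Cfsg.Agent.Lib.DihedralAut
import Cfsg.Agent.S1203
import Cfsg.Agent.S1255

/-!
Automizers in groups with wreathed Sylow two-subgroups.
-/

set_option autoImplicit false
set_option linter.unusedSectionVars false

namespace Cfsg.Lib.TwoGroup.WreathedFusion

open Subgroup
open scoped Pointwise
open Cfsg.Lib.TwoGroup

variable {G : Type*} [Group G] [Finite G] {n : ℕ} (S : Sylow 2 G) (d : W ↥(S : Subgroup G) n)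

/-- Kernels with few two-elements lie in the given normalized subgroup. -/
theorem mem_of_kernel (N C K : Subgroup G) (hSN : (S : Subgroup G) ≤ N)
    (hC : ∀ m ∈ N, ∀ c ∈ C, m * c * m⁻¹ ∈ C) (hK : ∀ m ∈ N, ∀ c ∈ K, m * c * m⁻¹ ∈ K)
    (hodd : ∀ g ∈ N, g ∈ K → Odd (orderOf g) → g ∈ C)
    (hS : ∀ s ∈ (S : Subgroup G), s ∈ K → s ∈ C) {g : G} (hgN : g ∈ N) (hgK : g ∈ K) : g ∈ C := by
  haveI : Fact (Nat.Prime 2) := ⟨Nat.prime_two⟩
  obtain ⟨i, j, k, h1, h2, h3⟩ := FusionInvariant.exists_decomp g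
  rw [h3]
  refine mul_mem (hodd _ (zpow_mem hgN i) (zpow_mem hgK i) h1) ?_
  set t := g ^ j with ht
  have htN : t ∈ N := zpow_mem hgN j
  have htp : IsPGroup 2 ↥((zpowers t).subgroupOf N) :=
    (IsPGroup.of_card (n := Classical.choose ((Nat.dvd_prime_pow Nat.prime_two).mp (orderOf_dvd_of_pow_eq_one h2)))
      (by rw [Nat.card_zpowers]; exact (Classical.choose_spec ((Nat.dvd_prime_pow Nat.prime_two).mp (orderOf_dvd_of_pow_eq_one h2))).2) :
      IsPGroup 2 ↥(zpowers t)).of_equiv (subgroupOfEquivOfLe (zpowers_le.mpr htN)).symm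
  obtain ⟨R, hR⟩ := htp.exists_le_sylow
  obtain ⟨m, hm⟩ := MulAction.exists_smul_eq ↥N R (S.subtype hSN)
  have h4 : m * ⟨t, htN⟩ * m⁻¹ ∈ ((S.subtype hSN : Sylow 2 ↥N) : Subgroup ↥N) := by
    rw [← hm, Sylow.coe_subgroup_smul, mem_smul_pointwise_iff_exists]
    exact ⟨_, hR (mem_subgroupOf.mpr (mem_zpowers t)), rfl⟩
  rw [Sylow.coe_subtype, mem_subgroupOf] at h4
  have h5 : (m : G) * t * (m : G)⁻¹ ∈ C := hS _ h4 (hK _ m.2 _ (zpow_mem hgK j))
  have h6 := hC _ (N.inv_mem m.2) _ h5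
  simpa [mul_assoc] using h6

/-- Odd elements act trivially on a subgroup of index two modulo the kernel. -/
theorem map_eq_one_of_card_two {N A : Type*} [Group N] [Group A] (f : N →* A) {g : N}
    (h : Nat.card f.range = 2) (hodd : Odd (orderOf g)) : f g = 1 := by
  have d1 : orderOf (f.rangeRestrict g) ∣ 2 := h ▸ orderOf_dvd_natCard _
  have d2 : orderOf (f.rangeRestrict g) ∣ orderOf g := orderOf_map_dvd _ _
  exact congrArg Subtype.val (orderOf_eq_one_iff.mp
    (Nat.eq_one_of_dvd_coprimes (Nat.coprime_two_left.mpr hodd) d1 d2))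

/-- An odd order element translating by a fixed element fixes. -/
theorem eq_one_of_translate {g x c : G} (hodd : Odd (orderOf g)) {k : ℕ} (hc : c ^ 2 ^ k = 1)
    (hgc : g * c * g⁻¹ = c) (hgx : g * x * g⁻¹ = c * x) : c = 1 := by
  have h : ∀ i : ℕ, g ^ i * x * (g ^ i)⁻¹ = c ^ i * x := by
    intro i
    induction i with
    | zero => simp
    | succ i ih =>
      rw [pow_succ' g]
      calc g * g ^ i * x * (g * g ^ i)⁻¹ = g * (g ^ i * x * (g ^ i)⁻¹) * g⁻¹ := by group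
        _ = (g * c * g⁻¹) ^ i * (g * x * g⁻¹) := by rw [ih, conj_pow]; group
        _ = c ^ (i + 1) * x := by rw [hgc, hgx, ← mul_assoc, ← pow_succ]
  have h1 := h (orderOf g)
  rw [pow_orderOf_eq_one, one_mul, inv_one, mul_one] at h1
  exact orderOf_eq_one_iff.mp (Nat.eq_one_of_dvd_coprimes ((Nat.coprime_two_left.mpr hodd).pow_left k)
    (orderOf_dvd_of_pow_eq_one hc) (orderOf_dvd_of_pow_eq_one (right_eq_mul.mp h1)))

/-- The abelian maximal subgroup. -/
def AG : Subgroup G := d.A.map (S : Subgroup G).subtype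

/-- The centre of the Sylow subgroup. -/
def ZG : Subgroup G := (center ↥(S : Subgroup G)).map (S : Subgroup G).subtype

/-- The four group of involutions of `A` together with one. -/
def TG : Subgroup G :=
  (closure {d.e (W.H n) 0, d.e 0 (W.H n)} : Subgroup ↥(S : Subgroup G)).map (S : Subgroup G).subtype

theorem mem_AG {g : G} : g ∈ AG S d ↔ ∃ a b : ℤ, ((d.e a b : ↥(S : Subgroup G)) : G) = g := by
  constructor
  · rintro ⟨v, ⟨a, b, rfl⟩, rfl⟩
    exact ⟨a, b, rfl⟩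
  · rintro ⟨a, b, rfl⟩
    exact ⟨_, ⟨a, b, rfl⟩, rfl⟩

theorem sylow_le_normalizer_map (M : Subgroup ↥(S : Subgroup G)) [M.Normal] :
    (S : Subgroup G) ≤ normalizer (M.map (S : Subgroup G).subtype : Set G) := by
  intro s hs
  rw [mem_normalizer_iff_map_conj_eq]
  refine eq_of_le_of_card_ge ?_ (card_map_of_injective (MulAut.conj s).injective).ge
  rintro _ ⟨_, ⟨v, hv, rfl⟩, rfl⟩
  exact ⟨⟨s, hs⟩ * v * ⟨s, hs⟩⁻¹, (Subgroup.Normal.conj_mem inferInstance) v hv _, rfl⟩

theorem sylow_le_normalizer_AG : (S : Subgroup G) ≤ normalizer (AG S d : Set G) := by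
  haveI := normal_of_index_eq_two d.index_A
  exact sylow_le_normalizer_map S d.A

theorem AG_comm {x y : G} (hx : x ∈ AG S d) (hy : y ∈ AG S d) : x * y = y * x := by
  obtain ⟨a, b, rfl⟩ := (mem_AG S d).mp hx
  obtain ⟨c, c', rfl⟩ := (mem_AG S d).mp hy
  exact congrArg Subtype.val (d.e_comm a b c c').eq

theorem TG_isKleinFour : IsKleinFour ↥(TG S d) := by
  have hvu : d.e 0 (W.H n) ∉ zpowers (d.e (W.H n) 0) := by
    intro h
    obtain ⟨k, hk⟩ := mem_zpowers_iff.mp h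
    rw [d.e_zpow, d.e_eq] at hk
    apply d.not_N_dvd_H
    simpa using hk.2
  have h := Cfsg.Lib.TwoGroup.isKleinFour_closure d.orderOf_H0
    (Cfsg.Lib.Invol.inv_mul_self d.orderOf_0H) (d.e_comm _ _ _ _) hvu
  have e := (closure {d.e (W.H n) 0, d.e 0 (W.H n)} : Subgroup ↥(S : Subgroup G)).equivMapOfInjective
    _ (S : Subgroup G).subtype_injective
  exact ⟨(Nat.card_congr e.symm.toEquiv).trans h.card_four,
    (Monoid.exponent_eq_of_mulEquiv e.symm).trans h.exponent_two⟩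

theorem u_mem_TG : ((d.e (W.H n) 0 : ↥(S : Subgroup G)) : G) ∈ TG S d :=
  ⟨_, Cfsg.Lib.TwoGroup.mem_closure_left _ _, rfl⟩

theorem v_mem_TG : ((d.e 0 (W.H n) : ↥(S : Subgroup G)) : G) ∈ TG S d :=
  ⟨_, Cfsg.Lib.TwoGroup.mem_closure_right _ _, rfl⟩

theorem w_mem_TG : ((d.e (W.H n) (W.H n) : ↥(S : Subgroup G)) : G) ∈ TG S d := by
  have h : d.e (W.H n) (W.H n) = d.e (W.H n) 0 * d.e 0 (W.H n) := by rw [d.e_mul, add_zero, zero_add]
  rw [h, Subgroup.coe_mul]
  exact mul_mem (u_mem_TG S d) (v_mem_TG S d)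

theorem TG_le_AG : TG S d ≤ AG S d := by
  refine Subgroup.map_mono ((closure_le _).mpr ?_)
  exact Set.insert_subset ⟨_, _, rfl⟩ (Set.singleton_subset_iff.mpr ⟨_, _, rfl⟩)

theorem mem_TG_of_sq {x : G} (hx : x ∈ AG S d) (h2 : x * x = 1) : x ∈ TG S d := by
  by_cases h1 : x = 1
  · rw [h1]; exact one_mem _
  obtain ⟨a, b, rfl⟩ := (mem_AG S d).mp hx
  have ho : orderOf (d.e a b) = 2 :=
    Cfsg.Lib.Invol.orderOf_eq_two_of (fun e => h1 (by rw [e]; rfl)) (Subtype.ext h2)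
  rcases d.involution_cases ho with e | e | e | ⟨_, e⟩
  · rw [e]; exact u_mem_TG S d
  · rw [e]; exact v_mem_TG S d
  · rw [e]; exact w_mem_TG S d
  · exact absurd e (d.e_ne_ez _ _ _ _)

theorem normalizer_AG_le : normalizer (AG S d : Set G) ≤ normalizer (TG S d : Set G) := by
  intro g hg
  rw [mem_normalizer_iff_map_conj_eq]
  refine eq_of_le_of_card_ge ?_ (card_map_of_injective (MulAut.conj g).injective).ge
  rintro _ ⟨t, ht, rfl⟩
  haveI := TG_isKleinFour S d
  refine mem_TG_of_sq S d ((mem_normalizer_iff.mp hg t).mp (TG_le_AG S d ht)) ?_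
  show g * t * g⁻¹ * (g * t * g⁻¹) = 1
  rw [conj_mul, Cfsg.Lib.Invol.klein_mul_self ht, mul_one, mul_inv_cancel]

theorem AG_pow {x : G} (hx : x ∈ AG S d) : x ^ 2 ^ n = 1 := by
  obtain ⟨a, b, rfl⟩ := (mem_AG S d).mp hx
  rw [← SubmonoidClass.coe_pow, d.e_exp]; rfl

theorem odd_fix_AG {g : G} (hg : g ∈ normalizer (AG S d : Set G)) (hodd : Odd (orderOf g))
    (hfix : ∀ t ∈ TG S d, g * t * g⁻¹ = t) : g ∈ centralizer (AG S d : Set G) := by
  have key : ∀ k : ℕ, ∀ x ∈ AG S d, x ^ 2 ^ k = 1 → g * x * g⁻¹ = x := by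
    intro k
    induction k with
    | zero => intro x _ hx; rw [pow_zero, pow_one] at hx; rw [hx]; simp
    | succ k ih =>
      intro x hx hxk
      have h1 : g * (x * x) * g⁻¹ = x * x := by
        refine ih _ (mul_mem hx hx) ?_
        rw [← pow_two, ← pow_mul, ← pow_succ', hxk]
      have hgx : g * x * g⁻¹ ∈ AG S d := (mem_normalizer_iff.mp hg x).mp hx
      set c := g * x * g⁻¹ * x⁻¹ with hc
      have hcA : c ∈ AG S d := mul_mem hgx ((AG S d).inv_mem hx)
      have hc2 : c * c = 1 := by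
        have hcomm : x⁻¹ * (g * x * g⁻¹) = g * x * g⁻¹ * x⁻¹ := AG_comm S d ((AG S d).inv_mem hx) hgx
        calc c * c = g * x * g⁻¹ * (x⁻¹ * (g * x * g⁻¹)) * x⁻¹ := by rw [hc]; group
          _ = g * x * g⁻¹ * (g * x * g⁻¹ * x⁻¹) * x⁻¹ := by rw [hcomm]
          _ = g * (x * x) * g⁻¹ * (x * x)⁻¹ := by group
          _ = 1 := by rw [h1, mul_inv_cancel]
      have hc1 : c = 1 := eq_one_of_translate (x := x) hodd (k := 1)
        (by rw [pow_one, pow_two, hc2]) (hfix c (mem_TG_of_sq S d hcA hc2))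
        (by rw [hc, inv_mul_cancel_right])
      rwa [hc, mul_inv_eq_one] at hc1
  rw [mem_centralizer_iff]
  intro x hx
  exact (mul_inv_eq_iff_eq_mul.mp (key n x hx (AG_pow S d hx))).symm

theorem z_conj_u : (d.z : G) * ((d.e (W.H n) 0 : ↥(S : Subgroup G)) : G) * (d.z : G)⁻¹ =
    ((d.e 0 (W.H n) : ↥(S : Subgroup G)) : G) := by
  have h : d.z * d.e (W.H n) 0 * d.z⁻¹ = d.e 0 (W.H n) := by
    rw [d.z_e, mul_inv_cancel_right]
  exact congrArg Subtype.val h

theorem u_ne_v : ((d.e (W.H n) 0 : ↥(S : Subgroup G)) : G) ≠ ((d.e 0 (W.H n) : ↥(S : Subgroup G)) : G) :=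
  fun h => d.not_N_dvd_H (by simpa using (d.e_eq.mp (Subtype.ext h)).1)

theorem u_ne_w : ((d.e (W.H n) 0 : ↥(S : Subgroup G)) : G) ≠
    ((d.e (W.H n) (W.H n) : ↥(S : Subgroup G)) : G) :=
  fun h => d.not_N_dvd_H (by simpa using (d.e_eq.mp (Subtype.ext h)).2)

/-- The action of the normalizer of `A` on the involutions of `A`. -/
noncomputable def psi : ↥(normalizer (AG S d : Set G)) →* MulAut ↥(TG S d) :=
  (TG S d).normalizerMonoidHom.comp (Subgroup.inclusion (normalizer_AG_le S d))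

theorem psi_ker :
    (psi S d).ker = (centralizer (AG S d : Set G)).subgroupOf (normalizer (AG S d : Set G)) := by
  ext g
  rw [MonoidHom.mem_ker, mem_subgroupOf]
  constructor
  · intro h
    have hgT : ∀ t ∈ TG S d, (g : G) * t * (g : G)⁻¹ = t := fun t ht =>
      congrArg Subtype.val (DFunLike.congr_fun h (⟨t, ht⟩ : ↥(TG S d)))
    refine mem_of_kernel S (normalizer (AG S d : Set G)) (centralizer (AG S d : Set G))
      (centralizer (TG S d : Set G)) (sylow_le_normalizer_AG S d) ?_ ?_ ?_ ?_ g.2 ?_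
    · intro m hm c hc
      exact (Cfsg.Agent.S1254.centralizer_map (AG S d) hm).le ⟨c, hc, rfl⟩
    · intro m hm c hc
      exact (Cfsg.Agent.S1254.centralizer_map (TG S d) (normalizer_AG_le S d hm)).le ⟨c, hc, rfl⟩
    · intro x hx hxT hodd
      refine odd_fix_AG S d hx hodd fun t ht => ?_
      rw [← mem_centralizer_iff.mp hxT t ht, mul_inv_cancel_right]
    · intro s hs hsT
      have hcomm := mem_centralizer_iff.mp hsT _ (u_mem_TG S d)
      obtain ⟨a, b, hab | hab⟩ := d.normal_form ⟨s, hs⟩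
      · have : s ∈ AG S d := (mem_AG S d).mpr ⟨a, b, congrArg Subtype.val hab.symm⟩
        rw [mem_centralizer_iff]
        exact fun x hx => AG_comm S d hx this
      · exfalso
        apply d.not_N_dvd_H
        have h1 : Commute (d.e (W.H n) 0) (d.e a b * d.z) := by
          rw [← hab]; exact Subtype.ext hcomm
        simpa using d.commute_ez.mp h1
    · rw [mem_centralizer_iff]
      intro t ht
      exact (mul_inv_eq_iff_eq_mul.mp (hgT t ht)).symm
  · intro h
    ext ⟨t, ht⟩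
    show (g : G) * t * (g : G)⁻¹ = t
    rw [← mem_centralizer_iff.mp h t (TG_le_AG S d ht), mul_inv_cancel_right]

theorem AG_two_or_six :
    (centralizer (AG S d : Set G)).relIndex (normalizer (AG S d : Set G)) = 2 ∨
      (centralizer (AG S d : Set G)).relIndex (normalizer (AG S d : Set G)) = 6 := by
  haveI := TG_isKleinFour S d
  haveI : Finite ↥(TG S d) := IsKleinFour.instFinite
  refine Cfsg.Agent.S1203.two_or_six Cfsg.Agent.S1203.card_mulAut_dvd_six (psi S d) (psi_ker S d)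
    (s := (d.z : G)) (sylow_le_normalizer_AG S d d.z.2) ?_ (k := 1)
    (by rw [pow_one, pow_two]; exact congrArg Subtype.val d.zz)
  intro h
  apply u_ne_v S d
  rw [← z_conj_u S d]
  have := mem_centralizer_iff.mp h _ (TG_le_AG S d (u_mem_TG S d))
  rw [← this, mul_inv_cancel_right]

theorem AG_range :
    Nat.card (psi S d).range = (centralizer (AG S d : Set G)).relIndex (normalizer (AG S d : Set G)) := by
  rw [Subgroup.relIndex, ← psi_ker, Subgroup.index_ker]

theorem AG_two {g : G} (h2 : (centralizer (AG S d : Set G)).relIndex (normalizer (AG S d : Set G)) = 2)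
    (hg : g ∈ normalizer (AG S d : Set G)) (hodd : Odd (orderOf g)) :
    g ∈ centralizer (AG S d : Set G) := by
  have h := map_eq_one_of_card_two (psi S d) (g := ⟨g, hg⟩) (AG_range S d ▸ h2)
    (by rw [Subgroup.orderOf_mk]; exact hodd)
  rw [← MonoidHom.mem_ker, psi_ker, mem_subgroupOf] at h
  exact h

theorem AG_six (h6 : (centralizer (AG S d : Set G)).relIndex (normalizer (AG S d : Set G)) = 6) :
    ∃ g : G, g ∈ normalizer (AG S d : Set G) ∧ Odd (orderOf g) ∧
      g ^ 3 ∈ centralizer (AG S d : Set G) ∧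
      (∀ x ∈ AG S d, g * x * g⁻¹ = x → x = 1) ∧
      ∀ t ∈ TG S d, ∀ t' ∈ TG S d, t ≠ 1 → t' ≠ 1 → IsConj t t' := by
  haveI := TG_isKleinFour S d
  haveI : Finite ↥(TG S d) := IsKleinFour.instFinite
  haveI : Fact (Nat.Prime 3) := ⟨Nat.prime_three⟩
  have h3 : 3 ∣ Nat.card (psi S d).range := by rw [AG_range, h6]; norm_num
  obtain ⟨σ, hσ⟩ := exists_prime_orderOf_dvd_card' 3 h3
  obtain ⟨g₀, hg₀⟩ := σ.2
  have hσ3 : orderOf (psi S d g₀) = 3 := by rw [hg₀, Subgroup.orderOf_coe, hσ]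
  obtain ⟨k, hk, hkf⟩ := FusionInvariant.exists_odd_lift (psi S d) g₀ (by rw [hσ3]; decide)
  set g := g₀ ^ k with hg
  have hg3 : orderOf (psi S d g) = 3 := by rw [hkf, hσ3]
  refine ⟨g, g.2, by rw [Subgroup.orderOf_coe]; exact hk, ?_, ?_, ?_⟩
  · have h1 : psi S d (g ^ 3) = 1 := by rw [map_pow, ← hg3, pow_orderOf_eq_one]
    rw [← MonoidHom.mem_ker, psi_ker, mem_subgroupOf] at h1
    simpa using h1
  · intro x hx hfix
    have key : ∀ j : ℕ, ∀ y : G, y ∈ AG S d → g * y * (g : G)⁻¹ = y → y ^ 2 ^ j = 1 → y = 1 := by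
      intro j
      induction j with
      | zero => intro y _ _ hy; simpa using hy
      | succ j ih =>
        intro y hy hfy hyj
        have hy2 : y * y = 1 := ih _ (mul_mem hy hy) (by rw [← conj_mul, hfy])
          (by rw [← pow_two, ← pow_mul, ← pow_succ', hyj])
        by_contra hy1
        have hyT := mem_TG_of_sq S d hy hy2
        have hall : ∀ i : ℕ, (psi S d g ^ i) ⟨y, hyT⟩ = ⟨y, hyT⟩ := by
          intro i
          induction i with
          | zero => simp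
          | succ i ihi =>
            rw [pow_succ, MulAut.mul_apply]
            have : psi S d g ⟨y, hyT⟩ = ⟨y, hyT⟩ := Subtype.ext hfy
            rw [this, ihi]
        have huv : ((d.e (W.H n) 0 : ↥(S : Subgroup G)) : G) ≠ 1 := fun e =>
          Cfsg.Lib.Invol.ne_one d.orderOf_H0 (Subtype.ext e)
        have hv1 : ((d.e 0 (W.H n) : ↥(S : Subgroup G)) : G) ≠ 1 := fun e =>
          Cfsg.Lib.Invol.ne_one d.orderOf_0H (Subtype.ext e)
        obtain ⟨i, hi⟩ := Cfsg.Agent.S1255.klein_transitive (psi S d g) hg3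
          (a := ⟨y, hyT⟩) (b := ⟨_, u_mem_TG S d⟩)
          (fun e => hy1 (congrArg Subtype.val e)) (fun e => huv (congrArg Subtype.val e))
        obtain ⟨i', hi'⟩ := Cfsg.Agent.S1255.klein_transitive (psi S d g) hg3
          (a := ⟨y, hyT⟩) (b := ⟨_, v_mem_TG S d⟩)
          (fun e => hy1 (congrArg Subtype.val e)) (fun e => hv1 (congrArg Subtype.val e))
        rw [hall] at hi hi'
        exact u_ne_v S d (congrArg (fun q : ↥(TG S d) => (q : G)) (hi.symm.trans hi'))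
    exact key n x hx hfix (AG_pow S d hx)
  · intro t ht t' ht' h1 h1'
    obtain ⟨i, hi⟩ := Cfsg.Agent.S1255.klein_transitive (psi S d g) hg3 (a := ⟨t, ht⟩) (b := ⟨t', ht'⟩)
      (fun e => h1 (congrArg Subtype.val e)) (fun e => h1' (congrArg Subtype.val e))
    rw [← map_pow] at hi
    exact isConj_iff.mpr ⟨((g ^ i : ↥(normalizer (AG S d : Set G))) : G), congrArg Subtype.val hi⟩

include d in
theorem normalizer_ZG_le : normalizer (ZG S : Set G) ≤ centralizer (ZG S : Set G) := by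
  intro g hg
  have hSN : (S : Subgroup G) ≤ normalizer (ZG S : Set G) := sylow_le_normalizer_map S _
  refine mem_of_kernel S (normalizer (ZG S : Set G)) (centralizer (ZG S : Set G)) ⊤ hSN ?_ ?_ ?_ ?_
    hg (mem_top g)
  · intro m hm c hc
    exact (Cfsg.Agent.S1254.centralizer_map (ZG S) hm).le ⟨c, hc, rfl⟩
  · intros; exact mem_top _
  · intro x hx _ hodd
    haveI : IsCyclic ↥(center ↥(S : Subgroup G)) := by rw [d.center_eq]; infer_instance
    haveI : IsCyclic ↥(ZG S) := isCyclic_of_surjective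
      ((center ↥(S : Subgroup G)).equivMapOfInjective _ (S : Subgroup G).subtype_injective)
      (MulEquiv.surjective _)
    haveI : IsCyclic (⊤ : Subgroup ↥(ZG S)) := isCyclic_of_surjective
      (Subgroup.topEquiv.symm : ↥(ZG S) ≃* (⊤ : Subgroup ↥(ZG S))) Subgroup.topEquiv.symm.surjective
    have hZp : IsPGroup 2 ↥(ZG S) := S.isPGroup'.to_le (map_subtype_le _)
    let σ : MulAut ↥(ZG S) := (ZG S).normalizerMonoidHom ⟨x, hx⟩
    have hσm : σ ^ orderOf x = 1 := by
      rw [← map_pow]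
      have : (⟨x, hx⟩ : ↥(normalizer (ZG S : Set G))) ^ orderOf x = 1 := Subtype.ext (pow_orderOf_eq_one x)
      rw [this, map_one]
    have hσ := Cfsg.Lib.DihedralAut.eq_one_of_stable_cyclic hZp σ hodd hσm ⊤ (by simp)
      fun q _ => mem_top _
    rw [mem_centralizer_iff]
    intro y hy
    exact (mul_inv_eq_iff_eq_mul.mp (congrArg Subtype.val (DFunLike.congr_fun hσ ⟨y, hy⟩))).symm
  · intro s hs _
    rw [mem_centralizer_iff]
    rintro _ ⟨y, hy, rfl⟩
    exact (congrArg Subtype.val (mem_center_iff.mp hy ⟨s, hs⟩)).symm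

section X

variable {c : ℤ} {X : Subgroup ↥(S : Subgroup G)} (hX : d.IsX c X)

/-- Image of a subgroup of the Sylow subgroup. -/
def XG (X : Subgroup ↥(S : Subgroup G)) : Subgroup G := X.map (S : Subgroup G).subtype

/-- The standard quaternion subgroup of `X`. -/
def QG (c : ℤ) : Subgroup G :=
  (closure {d.qa, d.qb c} : Subgroup ↥(S : Subgroup G)).map (S : Subgroup G).subtype

include hX

theorem ZG_le_XG : ZG S ≤ XG S X := Subgroup.map_mono (W.IsX.center_le d hX)

theorem XG_eq : XG S X = QG S d c ⊔ ZG S := by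
  rw [XG, QG, ZG, ← Subgroup.map_sup, ← W.IsX.eq_gen d hX]

theorem normalizer_XG_center {g : G} (hg : g ∈ normalizer (XG S X : Set G)) :
    g ∈ centralizer (ZG S : Set G) := by
  refine normalizer_ZG_le S d ?_
  rw [mem_normalizer_iff_map_conj_eq]
  refine eq_of_le_of_card_ge ?_ (card_map_of_injective (MulAut.conj g).injective).ge
  rintro _ ⟨y, hy, rfl⟩
  obtain ⟨ζ, hζ, rfl⟩ := hy
  obtain ⟨v, hv, hvg⟩ := (mem_normalizer_iff.mp hg _).mp (ZG_le_XG S d hX ⟨ζ, hζ, rfl⟩)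
  have hcomm : ∀ x ∈ X, Commute v x := by
    intro x hx
    obtain ⟨x', hx', hxg⟩ := (mem_normalizer_iff.mp ((normalizer (XG S X : Set G)).inv_mem hg) _).mp
      (⟨x, hx, rfl⟩ : ((x : ↥(S : Subgroup G)) : G) ∈ XG S X)
    apply Subtype.ext
    show (v : G) * x = x * v
    have h0 : (ζ : G) * x' = x' * ζ := (congrArg Subtype.val (mem_center_iff.mp hζ x')).symm
    have hxg' : (x : G) = g * x' * g⁻¹ := by
      have hxg0 : (x' : G) = g⁻¹ * x * g⁻¹⁻¹ := hxg
      rw [hxg0]; group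
    have hvg' : (v : G) = g * ζ * g⁻¹ := hvg
    rw [hxg', hvg', conj_mul, conj_mul, h0]
  exact ⟨v, W.center_of_commute d (hcomm _ (W.IsX.mem_qa d hX)) (hcomm _ (W.IsX.mem_qb d hX)), hvg⟩

theorem normalizer_XG_qtype {g : G} (hg : g ∈ normalizer (XG S X : Set G)) {v : ↥(S : Subgroup G)}
    (hv : v ∈ X) (hnc : v ∉ center ↥(S : Subgroup G)) (hsq : v * v = d.e (W.H n) (W.H n)) :
    ∃ v' ∈ X, (v' : G) = g * v * g⁻¹ ∧ v' ∉ center ↥(S : Subgroup G) ∧
      v' * v' = d.e (W.H n) (W.H n) := by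
  have hgC := normalizer_XG_center S d hX hg
  obtain ⟨v', hv', hvg⟩ := (mem_normalizer_iff.mp hg _).mp (⟨v, hv, rfl⟩ : (v : G) ∈ XG S X)
  have hvg' : (v' : G) = g * v * g⁻¹ := hvg
  refine ⟨v', hv', hvg', fun hc => hnc ?_, Subtype.ext ?_⟩
  · have h1 := mem_centralizer_iff.mp ((centralizer (ZG S : Set G)).inv_mem hgC) _ ⟨v', hc, rfl⟩
    have h2 : (v : G) = (v' : G) := by
      calc (v : G) = g⁻¹ * (v' : G) * g := by rw [hvg']; group
        _ = g⁻¹ * ((v' : G) * g⁻¹⁻¹) := by group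
        _ = (v' : G) := by
          have h1' : (v' : G) * g⁻¹ = g⁻¹ * (v' : G) := h1
          rw [inv_inv, ← mul_assoc, ← h1', inv_mul_cancel_right]
    exact (Subtype.ext h2 : v = v') ▸ hc
  · have hwZ : ((d.e (W.H n) (W.H n) : ↥(S : Subgroup G)) : G) ∈ ZG S :=
      ⟨_, d.mem_center_e.mpr (by simp), rfl⟩
    rw [Subgroup.coe_mul, hvg', conj_mul, ← Subgroup.coe_mul, hsq,
      ← mem_centralizer_iff.mp hgC _ hwZ, mul_inv_cancel_right]

theorem normalizer_XG_le : normalizer (XG S X : Set G) ≤ normalizer (QG S d c : Set G) := by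
  intro g hg
  rw [mem_normalizer_iff_map_conj_eq]
  refine eq_of_le_of_card_ge ?_ (card_map_of_injective (MulAut.conj g).injective).ge
  rw [QG, MonoidHom.map_closure, MonoidHom.map_closure, closure_le]
  rintro _ ⟨_, ⟨v, hv, rfl⟩, rfl⟩
  have hmem : v ∈ X ∧ v ∉ center ↥(S : Subgroup G) ∧ v * v = d.e (W.H n) (W.H n) := by
    rcases hv with rfl | rfl
    exacts [⟨W.IsX.mem_qa d hX, d.qa_notMem_center, d.qa_sq⟩,
      ⟨W.IsX.mem_qb d hX, d.qb_notMem_center c, d.qb_sq c⟩]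
  obtain ⟨v', hv', he, hnc, hsq⟩ := normalizer_XG_qtype S d hX hg hmem.1 hmem.2.1 hmem.2.2
  have := W.IsX.qtype_mem d hX hv' hnc hsq
  rw [← MonoidHom.map_closure]
  exact ⟨v', this, he⟩

theorem XG_hom : ∃ (A : Type) (_ : Group A) (_ : Finite A), Nat.card A ∣ 6 ∧
    ∃ f : ↥(normalizer (XG S X : Set G)) →* A,
      f.ker = (XG S X ⊔ centralizer (XG S X : Set G)).subgroupOf (normalizer (XG S X : Set G)) := by
  obtain ⟨A, _, _, hA, f₀, hf₀⟩ := Cfsg.Agent.S1203.quat_hom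
  obtain ⟨e₀⟩ := d.q_equiv c
  let eQ : ↥(QG S d c) ≃* QuaternionGroup 2 :=
    ((closure {d.qa, d.qb c} : Subgroup ↥(S : Subgroup G)).equivMapOfInjective _
      (S : Subgroup G).subtype_injective).symm.trans e₀
  refine ⟨A, _, ‹_›, hA, f₀.comp ((MulAut.congr eQ).toMonoidHom.comp
    ((QG S d c).normalizerMonoidHom.comp (Subgroup.inclusion (normalizer_XG_le S d hX)))), ?_⟩
  ext g
  rw [mem_subgroupOf, MonoidHom.mem_ker]
  set g' : ↥(normalizer (QG S d c : Set G)) := Subgroup.inclusion (normalizer_XG_le S d hX) g with hg'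
  have hgg : (g' : G) = g := rfl
  have hmem : f₀ ((MulAut.congr eQ) ((QG S d c).normalizerMonoidHom g')) = 1 ↔
      (MulAut.congr eQ) ((QG S d c).normalizerMonoidHom g') ∈
        (MulAut.conj (G := QuaternionGroup 2)).range := by
    rw [← hf₀, MonoidHom.mem_ker]
  show f₀ ((MulAut.congr eQ) ((QG S d c).normalizerMonoidHom g')) = 1 ↔ _
  rw [hmem, MonoidHom.mem_range]
  have hQX : QG S d c ≤ XG S X := (XG_eq S d hX) ▸ le_sup_left
  constructor
  · rintro ⟨q, hq⟩
    set a : G := ((eQ.symm q : ↥(QG S d c)) : G) with ha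
    have haQ : a ∈ QG S d c := (eQ.symm q).2
    have hq' : ∀ x ∈ QG S d c, (g : G) * x * (g : G)⁻¹ = a * x * a⁻¹ := by
      intro x hx
      have h1 := congrArg eQ.symm (DFunLike.congr_fun hq (eQ ⟨x, hx⟩))
      simp [MulAut.congr] at h1
      exact (congrArg Subtype.val h1).symm
    have hC : a⁻¹ * g ∈ centralizer (XG S X : Set G) := by
      have hle : XG S X ≤ centralizer (zpowers (a⁻¹ * (g : G)) : Set G) := by
        refine (XG_eq S d hX).le.trans (sup_le (fun x hx => ?_) (fun x hx => ?_))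
        · rw [mem_centralizer_iff]
          intro y hy
          obtain ⟨k, rfl⟩ := mem_zpowers_iff.mp hy
          refine ((?_ : Commute (a⁻¹ * (g : G)) x).zpow_left k).eq
          show a⁻¹ * (g : G) * x = x * (a⁻¹ * g)
          calc a⁻¹ * (g : G) * x = a⁻¹ * ((g : G) * x * (g : G)⁻¹) * g := by group
              _ = a⁻¹ * (a * x * a⁻¹) * g := by rw [hq' x hx]
              _ = x * (a⁻¹ * g) := by group
        · rw [mem_centralizer_iff]
          intro y hy
          obtain ⟨k, rfl⟩ := mem_zpowers_iff.mp hy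
          have h1 : Commute (a⁻¹ * (g : G)) x := by
            have ha1 : x * a⁻¹ = a⁻¹ * x := by
              obtain ⟨ζ, hζ, rfl⟩ := hx
              obtain ⟨a₀, ha₀⟩ : ∃ a₀ : ↥(S : Subgroup G), (a₀ : G) = a :=
                ⟨⟨a, map_subtype_le _ haQ⟩, rfl⟩
              rw [← ha₀]
              exact (congrArg Subtype.val (mem_center_iff.mp hζ a₀⁻¹)).symm
            have hg1 : x * (g : G) = g * x := mem_centralizer_iff.mp (normalizer_XG_center S d hX g.2) x hx
            show a⁻¹ * (g : G) * x = x * (a⁻¹ * g)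
            rw [mul_assoc, ← hg1, ← mul_assoc, ← ha1, mul_assoc]
          exact (h1.zpow_left k).eq
      rw [mem_centralizer_iff]
      intro x hx
      exact (mem_centralizer_iff.mp (hle hx) _ (mem_zpowers _)).symm
    have := mul_mem (mem_sup_left (T := centralizer (XG S X : Set G)) (hQX haQ))
      (mem_sup_right (S := XG S X) hC)
    simpa using this
  · intro hgm
    obtain ⟨x, hx, c', hc', hxc⟩ := Set.mem_mul.mp (Cfsg.Agent.S1203.mem_mul_centralizer (XG S X) _ hgm)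
    rw [XG_eq S d hX] at hx
    have hx' : x ∈ ((QG S d c : Set G) * (ZG S : Set G)) := by
      rw [← Subgroup.coe_mul_of_right_le_normalizer_left]
      · exact hx
      · intro ζ hζ
        refine centralizer_le_normalizer _ ?_
        rw [mem_centralizer_iff]
        rintro q ⟨q₀, -, rfl⟩
        obtain ⟨ζ₀, hζ₀, rfl⟩ := hζ
        exact congrArg Subtype.val (mem_center_iff.mp hζ₀ q₀)
    obtain ⟨a, ha, ζ, hζ, hax⟩ := Set.mem_mul.mp hx'
    refine ⟨eQ ⟨a, ha⟩, ?_⟩
    ext y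
    obtain ⟨⟨y, hy⟩, rfl⟩ := eQ.surjective y
    have : ((QG S d c).normalizerMonoidHom g' ⟨y, hy⟩ : ↥(QG S d c)) = ⟨a, ha⟩ * ⟨y, hy⟩ * ⟨a, ha⟩⁻¹ := by
      apply Subtype.ext
      show (g : G) * y * (g : G)⁻¹ = a * y * a⁻¹
      rw [← hxc, ← hax]
      have h1 : y * c' = c' * y := mem_centralizer_iff.mp hc' y (hQX hy)
      have h2 : ζ * y = y * ζ := by
        obtain ⟨ζ₀, hζ₀, rfl⟩ := hζ
        obtain ⟨y₀, -, rfl⟩ := hy
        exact (congrArg Subtype.val (mem_center_iff.mp hζ₀ y₀)).symm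
      calc a * ζ * c' * y * (a * ζ * c')⁻¹ = a * ζ * (c' * y) * c'⁻¹ * ζ⁻¹ * a⁻¹ := by group
        _ = a * ζ * (y * c') * c'⁻¹ * ζ⁻¹ * a⁻¹ := by rw [h1]
        _ = a * (ζ * y) * ζ⁻¹ * a⁻¹ := by group
        _ = a * (y * ζ) * ζ⁻¹ * a⁻¹ := by rw [h2]
        _ = a * y * a⁻¹ := by group
    simp [MulAut.congr, this]
    rw [← map_mul]
    rfl

theorem XG_two_or_six :
    (XG S X ⊔ centralizer (XG S X : Set G)).relIndex (normalizer (XG S X : Set G)) = 2 ∨
      (XG S X ⊔ centralizer (XG S X : Set G)).relIndex (normalizer (XG S X : Set G)) = 6 := by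
  obtain ⟨A, _, _, hA, f, hf⟩ := XG_hom S d hX
  have hr := W.IsX.relIndex d hX
  have hlt : ¬ normalizer (X : Set ↥(S : Subgroup G)) ≤ X := fun h => by
    rw [relIndex_eq_one.mpr h] at hr; omega
  obtain ⟨s, hsN, hsX⟩ := SetLike.not_le_iff_exists.mp hlt
  have hsN' : (s : G) ∈ normalizer (XG S X : Set G) := by
    rw [mem_normalizer_iff_map_conj_eq]
    refine eq_of_le_of_card_ge ?_ (card_map_of_injective (MulAut.conj (s : G)).injective).ge
    rintro _ ⟨_, ⟨v, hv, rfl⟩, rfl⟩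
    exact ⟨s * v * s⁻¹, (mem_normalizer_iff.mp hsN v).mp hv, rfl⟩
  have hsC : (s : G) ∉ XG S X ⊔ centralizer (XG S X : Set G) := by
    intro h
    obtain ⟨x, hx, c', hc', hxc⟩ := Set.mem_mul.mp (Cfsg.Agent.S1203.mem_mul_centralizer (XG S X) _ h)
    obtain ⟨x₀, hx₀, rfl⟩ := hx
    have hcc : c' = ((x₀⁻¹ * s : ↥(S : Subgroup G)) : G) := by
      rw [Subgroup.coe_mul, Subgroup.coe_inv, ← hxc]; exact (inv_mul_cancel_left _ _).symm
    have hcomm : ∀ y ∈ X, Commute (x₀⁻¹ * s) y := by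
      intro y hy
      apply Subtype.ext
      have := mem_centralizer_iff.mp hc' _ (⟨y, hy, rfl⟩ : (y : G) ∈ XG S X)
      rw [hcc] at this
      exact this.symm
    have hmem := W.IsX.center_le d hX
      (W.center_of_commute d (hcomm _ (W.IsX.mem_qa d hX)) (hcomm _ (W.IsX.mem_qb d hX)))
    exact hsX (by simpa using X.mul_mem hx₀ hmem)
  obtain ⟨j, hj⟩ := S.isPGroup' s
  exact Cfsg.Agent.S1203.two_or_six hA f hf hsN' hsC (congrArg Subtype.val hj)

theorem XG_two {g : G}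
    (h2 : (XG S X ⊔ centralizer (XG S X : Set G)).relIndex (normalizer (XG S X : Set G)) = 2)
    (hg : g ∈ normalizer (XG S X : Set G)) (hodd : Odd (orderOf g)) :
    g ∈ centralizer (XG S X : Set G) := by
  obtain ⟨A, _, _, hA, f, hf⟩ := XG_hom S d hX
  have hrange : Nat.card f.range = 2 := by
    rw [← Subgroup.index_ker, hf]; exact h2
  have h := map_eq_one_of_card_two f (g := ⟨g, hg⟩) hrange (by rw [Subgroup.orderOf_mk]; exact hodd)
  rw [← MonoidHom.mem_ker, hf, mem_subgroupOf] at h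
  obtain ⟨x, hx, c', hc', hxc⟩ := Set.mem_mul.mp (Cfsg.Agent.S1203.mem_mul_centralizer (XG S X) _ h)
  let f₀ := (XG S X).normalizerMonoidHom
  have hxN : x ∈ normalizer (XG S X : Set G) := le_normalizer hx
  have hfe : f₀ ⟨g, hg⟩ = f₀ ⟨x, hxN⟩ := by
    ext ⟨y, hy⟩
    show g * y * g⁻¹ = x * y * x⁻¹
    have hxc' : x * c' = g := hxc
    rw [← hxc']
    have := mem_centralizer_iff.mp hc' y hy
    calc x * c' * y * (x * c')⁻¹ = x * (c' * y) * c'⁻¹ * x⁻¹ := by group
      _ = x * (y * c') * c'⁻¹ * x⁻¹ := by rw [← this]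
      _ = x * y * x⁻¹ := by group
  obtain ⟨j, hj⟩ := S.isPGroup' ⟨x, map_subtype_le _ hx⟩
  have d1 : orderOf (f₀ ⟨g, hg⟩) ∣ orderOf g :=
    (orderOf_map_dvd f₀ _).trans (by rw [Subgroup.orderOf_mk])
  have d2 : orderOf (f₀ ⟨g, hg⟩) ∣ 2 ^ j := by
    rw [hfe]
    refine (orderOf_map_dvd f₀ _).trans ?_
    rw [Subgroup.orderOf_mk]
    exact orderOf_dvd_of_pow_eq_one (congrArg Subtype.val hj)
  have h1 : f₀ ⟨g, hg⟩ = 1 := orderOf_eq_one_iff.mp (Nat.eq_one_of_dvd_coprimes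
    ((Nat.coprime_two_right.mpr hodd).pow_right j) d1 d2)
  rw [← MonoidHom.mem_ker, (XG S X).normalizerMonoidHom_ker, mem_subgroupOf] at h1
  exact h1

theorem XG_six
    (h6 : (XG S X ⊔ centralizer (XG S X : Set G)).relIndex (normalizer (XG S X : Set G)) = 6) :
    ∃ g : G, g ∈ normalizer (XG S X : Set G) ∧ Odd (orderOf g) ∧
      ∃ v : ↥(S : Subgroup G), v ∈ X ∧ (v : G) = g * (d.qa : G) * g⁻¹ ∧ v ∉ d.A ∧
        ∃ p r : ℤ, v = d.e p r * d.z ∧ W.N n ∣ p + r - W.H n := by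
  haveI : Fact (Nat.Prime 3) := ⟨Nat.prime_three⟩
  obtain ⟨A, _, _, hA, f, hf⟩ := XG_hom S d hX
  have h3 : 3 ∣ Nat.card f.range := by
    rw [← Subgroup.index_ker, hf, show ((XG S X ⊔ centralizer (XG S X : Set G)).subgroupOf
      (normalizer (XG S X : Set G))).index = 6 from h6]
    norm_num
  obtain ⟨σ, hσ⟩ := exists_prime_orderOf_dvd_card' 3 h3
  obtain ⟨g₀, hg₀⟩ := σ.2
  have hσ3 : orderOf (f g₀) = 3 := by rw [hg₀, Subgroup.orderOf_coe, hσ]
  obtain ⟨k, hk, hkf⟩ := FusionInvariant.exists_odd_lift f g₀ (by rw [hσ3]; decide)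
  set g := g₀ ^ k with hg
  have hodd : Odd (orderOf (g : G)) := by rw [Subgroup.orderOf_coe]; exact hk
  refine ⟨g, g.2, hodd, ?_⟩
  obtain ⟨v, hv, hvg, hnc, hsq⟩ := normalizer_XG_qtype S d hX g.2 (W.IsX.mem_qa d hX)
    d.qa_notMem_center d.qa_sq
  rcases W.IsX.qtype_cases d hX hv hnc hsq with ⟨l, hl, hvl, -⟩ | ⟨p, r, -, hvp, hpr, -⟩
  swap
  · exact ⟨v, hv, hvg, hvp ▸ d.ez_notMem p r, p, r, hvp, hpr⟩
  exfalso
  have hne : f g ≠ 1 := fun e => by rw [hkf, ← orderOf_eq_one_iff, hσ3] at e; omega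
  apply hne
  rw [← MonoidHom.mem_ker, hf, mem_subgroupOf]
  refine mem_sup_right ?_
  set α : G := (d.qa : G) with hα
  have hα4 : orderOf α = 4 := by rw [hα, Subgroup.orderOf_coe, d.orderOf_qa]
  have hgα : (g : G) * α * (g : G)⁻¹ = α ^ l := by
    rw [hα, ← hvg, hvl, Subgroup.coe_zpow]
  have hfixα : (g : G) * α * (g : G)⁻¹ = α := by
    obtain ⟨i, rfl⟩ := hl
    have hc : α ^ (2 * i) * α = (g : G) * α * (g : G)⁻¹ := by rw [hgα, zpow_add, zpow_one]
    have hc1 : α ^ (2 * i) = 1 := by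
      refine eq_one_of_translate (x := α) hodd (k := 1) ?_ ?_ hc.symm
      · rw [pow_one, ← zpow_natCast, ← zpow_mul, ← orderOf_dvd_iff_zpow_eq_one, hα4]
        exact ⟨i, by push_cast; ring⟩
      · rw [← conj_zpow, hgα, ← zpow_mul, zpow_eq_iff_dvd, hα4]
        exact ⟨i * i, by push_cast; ring⟩
    rw [← hc, hc1, one_mul]
  -- the element outside
  obtain ⟨w, hw, hwg, hwnc, hwsq⟩ := normalizer_XG_qtype S d hX g.2 (W.IsX.mem_qb d hX)
    (d.qb_notMem_center c) (d.qb_sq c)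
  set β : G := (d.qb c : G) with hβ
  have hfixβ : (g : G) * β * (g : G)⁻¹ = β := by
    rcases W.IsX.qtype_cases d hX hw hwnc hwsq with ⟨l', -, hwl, -⟩ | ⟨_, _, j, -, -, hwj⟩
    · exfalso
      have h1 : (g : G) * β * (g : G)⁻¹ = α ^ l' := by rw [hβ, ← hwg, hwl, Subgroup.coe_zpow]
      have h2 : (g : G) * α ^ l' * (g : G)⁻¹ = α ^ l' := by rw [← conj_zpow, hfixα]
      have h3 : β = α ^ l' := by
        have := h1.trans h2.symm
        exact mul_left_cancel (mul_right_cancel this)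
      rw [hβ, hα, ← Subgroup.coe_zpow] at h3
      exact d.ez_notMem _ _ ((Subtype.ext h3 : d.qb c = d.qa ^ l') ▸
        zpow_mem (d.mem_A.mpr ⟨_, _, rfl⟩ : d.qa ∈ d.A) l')
    · have h1 : (g : G) * β * (g : G)⁻¹ = α ^ j * β := by
        rw [hβ, ← hwg, hwj, Subgroup.coe_mul, Subgroup.coe_zpow]
      have hc1 : α ^ j = 1 := by
        refine eq_one_of_translate (x := β) hodd (k := 2) ?_ ?_ h1
        · rw [← zpow_natCast, ← zpow_mul, ← orderOf_dvd_iff_zpow_eq_one, hα4]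
          exact ⟨j, by push_cast; ring⟩
        · rw [← conj_zpow, hfixα]
      rw [h1, hc1, one_mul]
  have hle : XG S X ≤ centralizer ({(g : G)} : Set G) := by
    refine (XG_eq S d hX).le.trans (sup_le ?_ ?_)
    rw [QG, MonoidHom.map_closure, closure_le]
    · rintro _ ⟨x, rfl | rfl, rfl⟩
      · exact mem_centralizer_singleton_iff.mpr (mul_inv_eq_iff_eq_mul.mp hfixα).symm
      · exact mem_centralizer_singleton_iff.mpr (mul_inv_eq_iff_eq_mul.mp hfixβ).symm
    · intro x hx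
      exact mem_centralizer_singleton_iff.mpr
        (mem_centralizer_iff.mp (normalizer_XG_center S d hX g.2) x hx)
  rw [mem_centralizer_iff]
  intro x hx
  exact mem_centralizer_singleton_iff.mp (hle hx)

end X

end Cfsg.Lib.TwoGroup.WreathedFusion
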