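import Mathlib.GroupTheory.PGroup
import Mathlib.GroupTheory.QuotientGroup.Basic
import Mathlib.GroupTheory.Commutator.Basic
import Mathlib.LinearAlgebra.Dual.Lemmas
import Mathlib.Algebra.Module.ZMod
import Mathlib.Algebra.Field.ZMod
import Mathlib.LinearAlgebra.FreeModule.Finite.Matrix
import Mathlib.FieldTheory.Finiteness

/-!
# The order bound for a two-group whose involutions are its centre

If the squares and commutators of a two-group lie in its centre, an elementary abelian group
consisting of exactly the elements of order at most two, then the order is at most the cube of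
the order of the centre: the squaring map is an anisotropic quadratic map, and its exponential
sums are divisible by a high power of two.
-/

set_option autoImplicit false
set_option linter.unusedSectionVars false

namespace Cfsg.Lib.Suzuki2

open scoped commutatorElement

universe u

/-- The sign of an element of `ZMod 2`. -/
def sgn (a : ZMod 2) : ℤ := if a = 0 then 1 else -1

theorem sgn_add : ∀ a b : ZMod 2, sgn (a + b) = sgn a * sgn b := by decide

theorem sgn_zero : sgn 0 = 1 := rfl

/-- A sum of signs that is multiplicative is zero or the order. -/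
theorem sum_sgn_hom {Q : Type*} [Group Q] [Fintype Q] (χ : Q → ℤ)
    (hχ : ∀ a b, χ (a * b) = χ a * χ b) (hv : ∀ a, χ a = 1 ∨ χ a = -1) :
    (Fintype.card Q : ℤ) ∣ ∑ a, χ a := by
  by_cases h : ∀ a, χ a = 1
  · simp [h]
  push Not at h
  obtain ⟨b, hb⟩ := h
  have hb' : χ b = -1 := (hv b).resolve_left hb
  have : ∑ a, χ a = -∑ a, χ a := by
    calc ∑ a, χ a = ∑ a, χ (a * b) := (Fintype.sum_equiv (Equiv.mulRight b) _ _ fun _ => rfl).symm
      _ = _ := by simp [hχ, hb']
  rw [show ∑ a, χ a = 0 by omega]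
  exact dvd_zero _

theorem pow_dvd_of_pow_dvd_sq {w : ℕ} {S : ℤ} (h : (2 : ℤ) ^ w ∣ S * S) :
    (2 : ℤ) ^ ((w + 1) / 2) ∣ S := by
  rcases eq_or_ne S 0 with rfl | hS
  · exact dvd_zero _
  have h' : 2 ^ w ∣ S.natAbs * S.natAbs := by
    have := Int.natAbs_dvd_natAbs.2 h
    simpa [Int.natAbs_mul, Int.natAbs_pow] using this
  have hne : S.natAbs ≠ 0 := Int.natAbs_ne_zero.2 hS
  rw [Nat.prime_two.pow_dvd_iff_le_factorization (Nat.mul_ne_zero hne hne),
    Nat.factorization_mul hne hne, Finsupp.add_apply] at h'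
  have h2 : 2 ^ ((w + 1) / 2) ∣ S.natAbs :=
    (Nat.prime_two.pow_dvd_iff_le_factorization hne).2 (by omega)
  have := Int.natCast_dvd.2 h2
  push_cast at this
  exact this

theorem card_le_cube {P : Type u} [Group P] [Finite P] (hP : IsPGroup 2 P)
    (hcomm : ∀ a b : P, ⁅a, b⁆ ∈ Subgroup.center P) (hsq : ∀ x : P, x * x ∈ Subgroup.center P)
    (hZ : ∀ x : P, x ∈ Subgroup.center P ↔ x * x = 1) :
    Nat.card P ≤ Nat.card (Subgroup.center P) ^ 3 := by
  classical
  haveI : Fact (Nat.Prime 2) := ⟨Nat.prime_two⟩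
  let Z := Subgroup.center P
  letI : CommGroup Z :=
    { (inferInstance : Group Z) with
      mul_comm := fun a b => Subtype.ext (Subgroup.mem_center_iff.1 b.2 a) }
  let V := Additive Z
  letI : Module (ZMod 2) V := AddCommGroup.zmodModule fun v => by
    show (2 : ℕ) • v = 0
    rw [two_nsmul]
    exact Additive.toMul.injective (Subtype.ext ((hZ _).1 v.toMul.2))
  haveI : Module.Finite (ZMod 2) V := Module.Finite.of_finite
  let D := Module.Dual (ZMod 2) V
  haveI : Finite D := Module.finite_of_finite (ZMod 2)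
  letI : Fintype D := Fintype.ofFinite D
  haveI : Fintype (P ⧸ Z) := Fintype.ofFinite _
  have hcen : ∀ {z : P}, z ∈ Z → ∀ x : P, x * z = z * x := fun hz x => Subgroup.mem_center_iff.1 hz x
  let sq : P ⧸ Z → V := Quotient.lift (fun x : P => Additive.ofMul (⟨x * x, hsq x⟩ : Z))
    (fun a b hab => by
      have hz : a⁻¹ * b ∈ Z := QuotientGroup.leftRel_apply.1 hab
      refine congrArg Additive.ofMul (Subtype.ext ?_)
      show a * a = b * b
      conv_rhs => rw [← mul_inv_cancel_left a b]
      rw [mul_assoc a (a⁻¹ * b), ← mul_assoc (a⁻¹ * b) a, ← hcen hz a, mul_assoc a (a⁻¹ * b),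
        (hZ _).1 hz, mul_one])
  let cm : P → P → V := fun x d => Additive.ofMul (⟨⁅x⁻¹, d⁆, hcomm _ _⟩ : Z)
  have hcm : ∀ x y d, cm (x * y) d = cm x d + cm y d := fun x y d => by
    refine congrArg Additive.ofMul (Subtype.ext ?_)
    show ⁅(x * y)⁻¹, d⁆ = ⁅x⁻¹, d⁆ * ⁅y⁻¹, d⁆
    rw [mul_inv_rev, commutatorElement_mul_left_eq_conj_mul, hcen (hcomm _ _) y⁻¹,
      mul_inv_cancel_right]
  have hsqmul : ∀ x d : P, sq (x * d : P) = sq (x : P) + sq (d : P) + cm x d := fun x d => by
    refine congrArg Additive.ofMul (Subtype.ext ?_)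
    show x * d * (x * d) = x * x * (d * d) * ⁅x⁻¹, d⁆
    rw [mul_assoc (x * x) (d * d), hcen (hcomm x⁻¹ d) (d * d), commutatorElement_def]
    group
  let f : D → P ⧸ Z → ℤ := fun φ q => sgn (φ (sq q))
  let S : D → ℤ := fun φ => ∑ q, f φ q
  have hdiv : ∀ φ, (Fintype.card (P ⧸ Z) : ℤ) ∣ S φ * S φ := by
    intro φ
    have e : S φ * S φ = ∑ d, ∑ a, f φ a * f φ (a * d) := by
      show (∑ q, f φ q) * _ = _
      rw [Finset.sum_mul_sum, Finset.sum_comm (f := fun d a => f φ a * f φ (a * d))]
      exact Finset.sum_congr rfl fun a _ =>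
        (Fintype.sum_equiv (Equiv.mulLeft a) _ _ fun _ => rfl).symm
    rw [e]
    refine Finset.dvd_sum fun d _ => ?_
    induction d using QuotientGroup.induction_on with
    | H d =>
    let χ : P ⧸ Z → ℤ := Quotient.lift (fun x => sgn (φ (cm x d))) fun a b hab => by
      have hz : a⁻¹ * b ∈ Z := QuotientGroup.leftRel_apply.1 hab
      have h0 : cm (a⁻¹ * b) d = 0 := congrArg Additive.ofMul (Subtype.ext
        (commutatorElement_eq_one_iff_commute.2 (hcen (inv_mem hz) d).symm))
      show sgn _ = sgn (φ (cm b d))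
      conv_rhs => rw [← mul_inv_cancel_left a b, hcm, h0, add_zero]
    have e2 : ∀ a : P ⧸ Z, f φ a * f φ (a * (d : P ⧸ Z)) = sgn (φ (sq (d : P ⧸ Z))) * χ a := by
      intro a
      induction a using QuotientGroup.induction_on with
      | H a =>
      show sgn _ * sgn (φ (sq ((a * d : P) : P ⧸ Z))) = _ * sgn _
      rw [hsqmul, map_add, map_add, sgn_add, sgn_add, ← mul_assoc, ← mul_assoc, ← sgn_add,
        CharTwo.add_self_eq_zero, sgn_zero, one_mul]
    rw [Finset.sum_congr rfl fun a _ => e2 a, ← Finset.mul_sum]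
    refine Dvd.dvd.mul_left (sum_sgn_hom χ ?_ ?_) _
    · intro a b
      induction a using QuotientGroup.induction_on with
      | H a =>
      induction b using QuotientGroup.induction_on with
      | H b =>
      show sgn (φ (cm (a * b) d)) = sgn _ * sgn _
      rw [hcm, map_add, sgn_add]
    · intro a
      induction a using QuotientGroup.induction_on with
      | H a =>
      show sgn _ = 1 ∨ sgn _ = -1
      unfold sgn
      split_ifs <;> simp
  have horth : ∀ v : V, v ≠ 0 → ∑ φ : D, sgn (φ v) = 0 := by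
    intro v hv
    obtain ⟨ψ, hψ⟩ : ∃ ψ : D, ψ v ≠ 0 := by
      by_contra h
      push Not at h
      exact hv ((Module.forall_dual_apply_eq_zero_iff (ZMod 2) v).1 h)
    have h1 : ψ v = 1 := by
      have : ∀ a : ZMod 2, a ≠ 0 → a = 1 := fun a => Fin.eq_one_of_ne_zero a
      exact this _ hψ
    have : ∑ φ : D, sgn (φ v) = -∑ φ : D, sgn (φ v) := by
      calc ∑ φ : D, sgn (φ v) = ∑ φ : D, sgn ((φ + ψ) v) :=
            (Fintype.sum_equiv (Equiv.addRight ψ) _ _ fun _ => rfl).symm
        _ = _ := by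
          rw [← Finset.sum_neg_distrib]
          exact Finset.sum_congr rfl fun φ _ => by
            rw [LinearMap.add_apply, sgn_add, h1]
            show _ * (-1 : ℤ) = _
            ring
    omega
  have hD : Fintype.card D = Nat.card Z := by
    rw [← Nat.card_eq_fintype_card, Module.natCard_eq_pow_finrank (K := ZMod 2) (V := D),
      Subspace.dual_finrank_eq, ← Module.natCard_eq_pow_finrank]
    rfl
  have hsum : ∑ φ, S φ = (Nat.card Z : ℤ) := by
    show ∑ φ, ∑ q, f φ q = _
    rw [Finset.sum_comm, Finset.sum_eq_single (1 : P ⧸ Z)]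
    · have h1 : sq (1 : P ⧸ Z) = 0 := congrArg Additive.ofMul (Subtype.ext (one_mul (1 : P)))
      simp [f, h1, sgn_zero, hD]
    · intro q _ hq
      refine horth _ ?_
      induction q using QuotientGroup.induction_on with
      | H q =>
      intro h
      apply hq
      have h2 : q * q = 1 := congrArg (fun v : V => (v.toMul : P)) h
      exact (QuotientGroup.eq_one_iff _).2 ((hZ q).2 h2)
    · simp
  obtain ⟨n, hn⟩ := IsPGroup.iff_card.1 (hP.to_subgroup Z)
  obtain ⟨w, hw⟩ := IsPGroup.iff_card.1 (hP.to_quotient Z)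
  have hdvd : (2 : ℤ) ^ ((w + 1) / 2) ∣ (2 : ℤ) ^ n := by
    have h2 : ((Nat.card Z : ℕ) : ℤ) = 2 ^ n := by rw [hn]; push_cast; rfl
    rw [← h2, ← hsum]
    refine Finset.dvd_sum fun φ _ => pow_dvd_of_pow_dvd_sq ?_
    have := hdiv φ
    rwa [← Nat.card_eq_fintype_card, hw, Nat.cast_pow] at this
  have hle : (w + 1) / 2 ≤ n := by
    have h2 : 2 ^ ((w + 1) / 2) ∣ 2 ^ n := by exact_mod_cast hdvd
    exact (Nat.pow_dvd_pow_iff_le_right (by norm_num)).1 h2
  rw [Subgroup.card_eq_card_quotient_mul_card_subgroup Z, hw, hn, ← pow_add, ← pow_mul]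
  exact Nat.pow_le_pow_right (by norm_num) (by omega)

end Cfsg.Lib.Suzuki2
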