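import Cfsg.Agent.Lib.TwoGroup.SuzukiClassTwo
import Cfsg.Agent.Lib.TwoGroup.SuzukiCard
import Cfsg.Agent.S3774

/-!
# Suzuki two-groups: centre, squares, order
-/

set_option autoImplicit false
set_option linter.unusedSectionVars false

namespace Cfsg.Lib.Suzuki2

open Cfsg.Agent.S1137
open scoped commutatorElement

universe u

variable {P : Type u} [Group P]

/-- Squares and commutators are central, the centre consists of the elements of order at most
two, and the order is the square or the cube of that of the centre. -/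
theorem structure_of_suzuki (h : Cfsg.IsSuzukiTwoGroup P) :
    (∀ x : P, x ∈ Subgroup.center P ↔ x * x = 1) ∧ (∀ x : P, x * x ∈ Subgroup.center P) ∧
      (∀ a b : P, ⁅a, b⁆ ∈ Subgroup.center P) ∧
      (Nat.card P = Nat.card (Subgroup.center P) ^ 2 ∨ Nat.card P = Nat.card (Subgroup.center P) ^ 3) := by
  obtain ⟨hmain1, hmain2⟩ := Cfsg.Agent.S1137.main h
  obtain ⟨hfin, hP, hna, hx, K, hKc, hKt⟩ := h
  have hK := isTransOn_of_cyclic hKc hKt
  have htwo : TwoInvol P := hx
  have hcomm := class_two hP hK htwo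
  have hZ : ∀ x : P, x ∈ Subgroup.center P ↔ x * x = 1 := fun x =>
    ⟨hmain2 x, fun hx => involution_central hP hK hx⟩
  have hsq : ∀ x : P, x * x ∈ Subgroup.center P := fun x => by
    refine Subgroup.mem_center_iff.2 fun g => ?_
    have h1 : ⁅x * x, g⁆ = 1 := by
      rw [commutatorElement_mul_left_eq_conj_mul,
        Subgroup.mem_center_iff.1 (hcomm x g) x, mul_inv_cancel_right]
      exact (hZ _).1 (hcomm x g)
    exact (commutatorElement_eq_one_iff_commute.1 h1).eq.symm
  refine ⟨hZ, hsq, hcomm, ?_⟩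
  have hle := card_le_cube hP hcomm hsq hZ
  obtain ⟨a, b, hab⟩ := hna
  haveI : Nontrivial P := nontrivial_of_ne (a * b) (b * a) hab
  obtain ⟨-, m, hm⟩ := Cfsg.Agent.S3774.result hP (fun x y hx1 hx2 hy1 hy2 => by
    obtain ⟨k, -, hk⟩ := hK.2 x y hx1 (by rw [← pow_two]; exact hx2) hy1 (by rw [← pow_two]; exact hy2)
    exact ⟨k, hk⟩)
  have hq : Nat.card {z : P // z ^ 2 = 1} = Nat.card (Subgroup.center P) :=
    Nat.card_congr (Equiv.subtypeEquivRight fun x => by rw [hZ, pow_two])
  rw [hq] at hm
  have hlt : Nat.card (Subgroup.center P) < Nat.card P := by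
    refine lt_of_le_of_ne (Subgroup.card_le_card_group _) fun he => hab ?_
    have htop := Subgroup.eq_top_of_card_eq _ he
    exact Subgroup.mem_center_iff.1 (htop ▸ Subgroup.mem_top b) a
  have h1 : 1 < Nat.card (Subgroup.center P) := by
    haveI := hP.center_nontrivial
    exact Finite.one_lt_card
  rw [hm] at hle hlt ⊢
  have hm2 : 1 < m := (Nat.pow_lt_pow_iff_right h1).1 (by simpa using hlt)
  have hm3 : m ≤ 3 := (Nat.pow_le_pow_iff_right h1).1 hle
  interval_cases m
  · exact Or.inl rfl
  · exact Or.inr rfl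

end Cfsg.Lib.Suzuki2
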