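import Cfsg.Agent.Lib.TwoGroup.WreathedAut

/-!
The subgroups of a wreathed group which are quaternion of order eight times the centre.
-/

set_option autoImplicit false
set_option linter.unusedSectionVars false

namespace Cfsg.Lib.TwoGroup.W

open Subgroup

variable {S : Type*} [Group S] [Finite S] {n : ℕ} (d : W S n)

/-- The generator of the part in `A` of a quaternion subgroup. -/
def qa : S := d.e (Q n) (-Q n)

/-- A generator outside `A` of a quaternion subgroup. -/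
def qb (c : ℤ) : S := d.e (c + H n) (-c) * d.z

include d in
theorem Q_facts : N n = 4 * Q n ∧ H n = 2 * Q n ∧ 0 < Q n :=
  ⟨by rw [d.pow_facts.1, d.pow_facts.2.1]; ring, d.pow_facts.2.1, d.pow_facts.2.2⟩

theorem qa_sq : d.qa * d.qa = d.e (H n) (H n) := by
  rw [qa, d.e_mul, d.e_eq, d.Q_facts.1, d.Q_facts.2.1]
  exact ⟨⟨0, by ring⟩, ⟨-1, by ring⟩⟩

theorem qb_sq (c : ℤ) : d.qb c * d.qb c = d.e (H n) (H n) := by
  rw [qb, d.ez_ez, d.e_eq]
  exact ⟨by simp, by simp⟩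

theorem orderOf_qa : orderOf d.qa = 4 := by
  haveI : Fact (Nat.Prime 2) := ⟨Nat.prime_two⟩
  refine orderOf_eq_prime_pow (p := 2) (n := 1) ?_ ?_
  · rw [pow_one, pow_two, d.qa_sq]; exact Cfsg.Lib.Invol.ne_one d.orderOf_HH
  · rw [show (2 : ℕ) ^ (1 + 1) = 2 * 2 by norm_num, pow_mul, pow_two d.qa, d.qa_sq, pow_two,
      Cfsg.Lib.Invol.inv_mul_self d.orderOf_HH]

theorem qb_conj (c : ℤ) : d.qb c * d.qa * (d.qb c)⁻¹ = d.qa⁻¹ := by
  rw [qb, qa, d.conj_ez_e, d.e_inv, neg_neg]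

theorem q_equiv (c : ℤ) :
    Nonempty (↥(closure {d.qa, d.qb c} : Subgroup S) ≃* QuaternionGroup 2) := by
  refine equiv_quaternion d.orderOf_qa ?_ (d.qb_conj c) ?_
  · rw [pow_two, d.qa_sq, d.qb_sq]
  · intro hh
    exact d.ez_notMem _ _ ((zpowers_le.mpr (d.mem_A.mpr ⟨_, _, rfl⟩)) hh)

theorem qa_notMem_center : d.qa ∉ center S := by
  rw [qa, d.mem_center_e, d.Q_facts.1]
  intro h
  have := Int.le_of_dvd (by linarith [d.Q_facts.2.2]) h
  linarith [d.Q_facts.2.2]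

theorem qb_notMem_center (c : ℤ) : d.qb c ∉ center S := fun h =>
  d.qa_notMem_center (by
    have h1 := d.qb_conj c
    rw [← mem_center_iff.mp h d.qa, mul_inv_cancel_right, eq_inv_iff_mul_eq_one, d.qa_sq] at h1
    exact absurd h1 (Cfsg.Lib.Invol.ne_one d.orderOf_HH))

theorem IsX.mem_qa {c : ℤ} {X : Subgroup S} (h : d.IsX c X) : d.qa ∈ X :=
  (h _ _).1.mpr ⟨1, by rw [d.Q_facts.2.1]; ring⟩

theorem IsX.mem_qb {c : ℤ} {X : Subgroup S} (h : d.IsX c X) : d.qb c ∈ X :=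
  (h _ _).2.mpr ⟨1, by ring⟩

theorem IsX.center_le {c : ℤ} {X : Subgroup S} (h : d.IsX c X) : center S ≤ X := by
  intro g hg
  rw [d.center_eq, mem_zpowers_iff] at hg
  obtain ⟨k, rfl⟩ := hg
  rw [d.e_zpow]
  exact (h _ _).1.mpr (by simp)

theorem IsX.le_gen {c : ℤ} {X : Subgroup S} (h : d.IsX c X) :
    X ≤ closure {d.qa, d.qb c} ⊔ center S := by
  obtain ⟨hN, hH, hQpos⟩ := d.Q_facts
  intro g hg
  have hmemA : ∀ p r, H n ∣ p - r → d.e p r ∈ closure {d.qa, d.qb c} ⊔ center S := fun p r hd => by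
    obtain ⟨t, ht⟩ := hd
    have e1 : d.e p r = d.qa ^ t * d.e (p - t * Q n) (r + t * Q n) := by
      rw [qa, d.e_zpow, d.e_mul]; congr 1 <;> ring
    rw [e1]
    refine mul_mem (zpow_mem (mem_sup_left (mem_closure_left _ _)) t)
      (mem_sup_right (d.mem_center_e.mpr ?_))
    rw [hH] at ht
    exact ⟨0, by linarith⟩
  obtain ⟨p, r, rfl | rfl⟩ := d.normal_form g
  · exact hmemA p r ((h p r).1.mp hg)
  · have e1 : d.e p r * d.z = d.e (p - (c + H n)) (r + c) * d.qb c := by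
      rw [qb, d.e_ez]; congr 2 <;> ring
    rw [e1]
    obtain ⟨t, ht⟩ := (h p r).2.mp hg
    exact mul_mem (hmemA _ _ ⟨t - 1, by linarith⟩) (mem_sup_left (mem_closure_right _ _))

theorem IsX.eq_gen {c : ℤ} {X : Subgroup S} (h : d.IsX c X) :
    X = closure {d.qa, d.qb c} ⊔ center S :=
  le_antisymm (IsX.le_gen d h) (sup_le ((closure_le _).mpr
    (Set.insert_subset (IsX.mem_qa d h) (Set.singleton_subset_iff.mpr (IsX.mem_qb d h)))) (IsX.center_le d h))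

/-- An element commuting with both generators is central. -/
theorem center_of_commute {c : ℤ} {v : S} (ha : Commute v d.qa) (hb : Commute v (d.qb c)) :
    v ∈ center S := by
  obtain ⟨p, r, rfl | rfl⟩ := d.normal_form v
  · exact d.mem_center_e.mpr (d.commute_ez.mp hb)
  · exfalso
    have h := d.commute_ez.mp ha.symm
    rw [d.Q_facts.1] at h
    have := Int.le_of_dvd (by linarith [d.Q_facts.2.2]) h
    linarith [d.Q_facts.2.2]

/-- The non-central elements of `X` squaring to the central involution. -/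
theorem IsX.qtype_cases {c : ℤ} {X : Subgroup S} (h : d.IsX c X) {v : S} (hv : v ∈ X)
    (hnc : v ∉ center S) (hsq : v * v = d.e (H n) (H n)) :
    (∃ k : ℤ, Odd k ∧ v = d.qa ^ k ∧ ∃ p r : ℤ, v = d.e p r ∧ N n ∣ p + r) ∨
      ∃ p r j : ℤ, v = d.e p r * d.z ∧ N n ∣ p + r - H n ∧ v = d.qa ^ j * d.qb c := by
  obtain ⟨hN, hH, hQpos⟩ := d.Q_facts
  obtain ⟨p, r, rfl | rfl⟩ := d.normal_form v
  · left
    rw [d.e_mul, d.e_eq] at hsq
    obtain ⟨t, ht⟩ := (h p r).1.mp hv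
    obtain ⟨s, hs⟩ := hsq.1
    rcases Int.even_or_odd' t with ⟨l, rfl | rfl⟩
    · exfalso
      exact hnc (d.mem_center_e.mpr ⟨l, by rw [hN]; rw [hH] at ht; linarith⟩)
    · refine ⟨1 + 4 * 0 + 2 * s, ⟨s, by ring⟩, ?_, p, r, rfl, ⟨s - l, ?_⟩⟩
      · rw [qa, d.e_zpow, d.e_eq, hN]
        rw [hH] at ht hs
        rw [hN] at hs
        exact ⟨⟨0, by linarith⟩, ⟨s - l, by linarith⟩⟩
      · rw [hN] at hs ⊢
        rw [hH] at ht hs
        linarith
  · right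
    rw [d.ez_ez, d.e_eq] at hsq
    obtain ⟨t, ht⟩ := (h p r).2.mp hv
    obtain ⟨s, hs⟩ := hsq.1
    refine ⟨p, r, t + 2 * s - 1, rfl, ⟨s, hs⟩, ?_⟩
    rw [qa, qb, d.e_zpow, d.e_ez, mul_left_inj, d.e_eq]
    rw [hN] at hs ⊢
    rw [hH] at ht hs ⊢
    exact ⟨⟨0, by linarith⟩, ⟨s, by linarith⟩⟩

theorem IsX.qtype_mem {c : ℤ} {X : Subgroup S} (h : d.IsX c X) {v : S} (hv : v ∈ X)
    (hnc : v ∉ center S) (hsq : v * v = d.e (H n) (H n)) : v ∈ closure {d.qa, d.qb c} := by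
  rcases IsX.qtype_cases d h hv hnc hsq with ⟨k, _, hk, _⟩ | ⟨_, _, j, _, _, hj⟩
  · rw [hk]; exact zpow_mem (mem_closure_left _ _) k
  · rw [hj]; exact mul_mem (zpow_mem (mem_closure_left _ _) j) (mem_closure_right _ _)

/-- A quaternion subgroup of order eight, with the centre, has the standard form. -/
theorem isX_of_quat {Q' : Subgroup S} (hQ : Nonempty (Q' ≃* QuaternionGroup 2)) :
    ∃ c, d.IsX c (Q' ⊔ center S) := by
  obtain ⟨f⟩ := hQ
  obtain ⟨hN, hH, hQpos⟩ := d.Q_facts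
  haveI := normal_of_index_eq_two d.index_A
  have f1 : ∀ a : QuaternionGroup 2, a * a ≠ 1 → (a * a) * (a * a) = 1 := by decide
  have f2 : ∀ a b : QuaternionGroup 2, a * a ≠ 1 → b * b ≠ 1 → a * a = b * b := by decide
  have f3 : ∀ a : QuaternionGroup 2, a * a ≠ 1 → ∃ b, b * a * b⁻¹ = a⁻¹ ∧ b * b ≠ 1 ∧
      ∀ x : QuaternionGroup 2, ∃ i j : Fin 4, x = a ^ (i : ℕ) * b ^ (j : ℕ) := by decide
  -- two generators, the second outside `A`
  obtain ⟨a, b, ha, hb, hba, hgen, hbA, haA⟩ : ∃ a b : Q', a * a ≠ 1 ∧ b * b ≠ 1 ∧ b * a * b⁻¹ = a⁻¹ ∧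
      (∀ x : Q', ∃ i j : Fin 4, x = a ^ (i : ℕ) * b ^ (j : ℕ)) ∧ (b : S) ∉ d.A ∧ (a : S) ∈ d.A := by
    set a₀ := f.symm (QuaternionGroup.a 1) with ha₀
    set b₀ := f.symm (QuaternionGroup.xa 0) with hb₀
    have transfer : ∀ {a b : Q'}, f a * f a ≠ 1 → f b * f a * (f b)⁻¹ = (f a)⁻¹ → f b * f b ≠ 1 →
        (∀ x, ∃ i j : Fin 4, x = f a ^ (i : ℕ) * f b ^ (j : ℕ)) →
        a * a ≠ 1 ∧ b * b ≠ 1 ∧ b * a * b⁻¹ = a⁻¹ ∧
          ∀ x : Q', ∃ i j : Fin 4, x = a ^ (i : ℕ) * b ^ (j : ℕ) := by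
      intro a b h1 h2 h3 h4
      refine ⟨fun e => h1 (by rw [← map_mul, e, map_one]), fun e => h3 (by rw [← map_mul, e, map_one]),
        f.injective (by simpa using h2), fun x => ?_⟩
      obtain ⟨i, j, hij⟩ := h4 (f x)
      exact ⟨i, j, f.injective (by simpa using hij)⟩
    have hnot : ¬ ((a₀ : S) ∈ d.A ∧ (b₀ : S) ∈ d.A) := by
      rintro ⟨h1, h2⟩
      have h3 : a₀ * b₀ = b₀ * a₀ :=
        Subtype.ext (congrArg Subtype.val (d.A_comm.is_comm.comm ⟨_, h1⟩ ⟨_, h2⟩) :)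
      have h4 := congrArg f h3
      rw [map_mul, map_mul, ha₀, hb₀, f.apply_symm_apply, f.apply_symm_apply] at h4
      revert h4; decide
    by_cases hb0 : (b₀ : S) ∈ d.A
    · refine ⟨b₀, a₀, ?_⟩
      obtain ⟨h1, h2, h3, h4⟩ := transfer (a := b₀) (b := a₀)
        (by rw [hb₀, f.apply_symm_apply]; decide)
        (by rw [ha₀, hb₀, f.apply_symm_apply, f.apply_symm_apply]; decide)
        (by rw [ha₀, f.apply_symm_apply]; decide)
        (by rw [ha₀, hb₀, f.apply_symm_apply, f.apply_symm_apply]; decide)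
      exact ⟨h1, h2, h3, h4, fun h => hnot ⟨h, hb0⟩, hb0⟩
    · by_cases ha0 : (a₀ : S) ∈ d.A
      · refine ⟨a₀, b₀, ?_⟩
        obtain ⟨h1, h2, h3, h4⟩ := transfer (a := a₀) (b := b₀)
          (by rw [ha₀, f.apply_symm_apply]; decide)
          (by rw [ha₀, hb₀, f.apply_symm_apply, f.apply_symm_apply]; decide)
          (by rw [hb₀, f.apply_symm_apply]; decide)
          (by rw [ha₀, hb₀, f.apply_symm_apply, f.apply_symm_apply]; decide)
        exact ⟨h1, h2, h3, h4, hb0, ha0⟩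
      · refine ⟨a₀ * b₀, b₀, ?_⟩
        obtain ⟨h1, h2, h3, h4⟩ := transfer (a := a₀ * b₀) (b := b₀)
          (by rw [map_mul, ha₀, hb₀, f.apply_symm_apply, f.apply_symm_apply]; decide)
          (by rw [map_mul, ha₀, hb₀, f.apply_symm_apply, f.apply_symm_apply]; decide)
          (by rw [hb₀, f.apply_symm_apply]; decide)
          (by rw [map_mul, ha₀, hb₀, f.apply_symm_apply, f.apply_symm_apply]; decide)
        exact ⟨h1, h2, h3, h4, hb0, by
          rw [Subgroup.coe_mul]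
          exact (mul_mem_iff_of_index_two d.index_A).mpr (iff_of_false ha0 hb0)⟩
  -- the common square is the central involution
  obtain ⟨s, t, hbv | hbv⟩ := d.normal_form (b : S)
  · exact absurd (d.mem_A.mpr ⟨s, t, hbv⟩) hbA
  set w := d.e (H n) (H n) with hw
  have hbsq : ((b * b : Q') : S) = w := by
    have ho : orderOf ((b * b : Q') : S) = 2 := by
      refine Cfsg.Lib.Invol.orderOf_eq_two_of (fun e => hb (Subtype.ext e)) ?_
      rw [← Subgroup.coe_mul, show (b * b) * (b * b) = 1 from f.injective (by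
        rw [map_mul, map_mul, map_one]
        exact f1 _ (fun e => hb (f.injective (by rw [map_mul, e, map_one]))))]
      rfl
    rw [Subgroup.coe_mul, hbv, d.ez_ez] at ho ⊢
    rcases d.involution_cases ho with e | e | e | ⟨_, e⟩
    · exfalso
      rw [d.e_eq, sub_zero] at e
      apply d.not_N_dvd_H
      obtain ⟨⟨i, hi⟩, ⟨j, hj⟩⟩ := e
      exact ⟨j - i, by linarith⟩
    · exfalso
      rw [d.e_eq, sub_zero] at e
      apply d.not_N_dvd_H
      obtain ⟨⟨i, hi⟩, ⟨j, hj⟩⟩ := e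
      exact ⟨i - j, by linarith⟩
    · exact e
    · exact absurd e (d.e_ne_ez _ _ _ _)
  have hasq : ((a * a : Q') : S) = w := by
    rw [← hbsq]
    congr 1
    refine f.injective ?_
    rw [map_mul, map_mul]
    exact f2 _ _ (fun e => ha (f.injective (by rw [map_mul, e, map_one])))
      (fun e => hb (f.injective (by rw [map_mul, e, map_one])))
  rw [Subgroup.coe_mul, hbv, d.ez_ez, hw, d.e_eq] at hbsq
  obtain ⟨τ, hτ⟩ := hbsq.1
  set c := Q n + τ * H n * 1 - t + (τ * H n - τ * H n) with hc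
  -- the candidate subgroup
  let X : Subgroup S :=
    { carrier := {g | ∀ p r : ℤ, (g = d.e p r → H n ∣ p - r) ∧
        (g = d.e p r * d.z → H n ∣ p - r - 2 * c)}
      one_mem' := by
        intro p r
        constructor
        · intro e
          rw [← d.e_zero, d.e_eq] at e
          obtain ⟨⟨i, hi⟩, ⟨j, hj⟩⟩ := e
          exact ⟨2 * (j - i), by rw [hN] at hi hj; rw [hH]; linarith⟩
        · intro e
          rw [← d.e_zero] at e
          exact absurd e (d.e_ne_ez _ _ _ _)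
      mul_mem' := by
        intro g k hg hk p r
        obtain ⟨p₁, r₁, e1 | e1⟩ := d.normal_form g <;> obtain ⟨p₂, r₂, e2 | e2⟩ := d.normal_form k
        · obtain ⟨i, hi⟩ := (hg p₁ r₁).1 e1
          obtain ⟨j, hj⟩ := (hk p₂ r₂).1 e2
          rw [e1, e2, d.e_mul]
          refine ⟨fun e => ?_, fun e => absurd e (d.e_ne_ez _ _ _ _)⟩
          obtain ⟨⟨x, hx⟩, ⟨y, hy⟩⟩ := d.e_eq.mp e
          exact ⟨i + j - 2 * x + 2 * y, by rw [hN] at hx hy; rw [hH] at hi hj ⊢; linarith⟩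
        · obtain ⟨i, hi⟩ := (hg p₁ r₁).1 e1
          obtain ⟨j, hj⟩ := (hk p₂ r₂).2 e2
          rw [e1, e2, d.e_ez]
          refine ⟨fun e => absurd e.symm (d.e_ne_ez _ _ _ _), fun e => ?_⟩
          obtain ⟨⟨x, hx⟩, ⟨y, hy⟩⟩ := d.e_eq.mp (mul_right_cancel e)
          exact ⟨i + j - 2 * x + 2 * y, by rw [hN] at hx hy; rw [hH] at hi hj ⊢; linarith⟩
        · obtain ⟨i, hi⟩ := (hg p₁ r₁).2 e1
          obtain ⟨j, hj⟩ := (hk p₂ r₂).1 e2
          rw [e1, e2, d.ez_e]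
          refine ⟨fun e => absurd e.symm (d.e_ne_ez _ _ _ _), fun e => ?_⟩
          obtain ⟨⟨x, hx⟩, ⟨y, hy⟩⟩ := d.e_eq.mp (mul_right_cancel e)
          exact ⟨i - j - 2 * x + 2 * y, by rw [hN] at hx hy; rw [hH] at hi hj ⊢; linarith⟩
        · obtain ⟨i, hi⟩ := (hg p₁ r₁).2 e1
          obtain ⟨j, hj⟩ := (hk p₂ r₂).2 e2
          rw [e1, e2, d.ez_ez]
          refine ⟨fun e => ?_, fun e => absurd e (d.e_ne_ez _ _ _ _)⟩
          obtain ⟨⟨x, hx⟩, ⟨y, hy⟩⟩ := d.e_eq.mp e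
          exact ⟨i - j - 2 * x + 2 * y, by rw [hN] at hx hy; rw [hH] at hi hj ⊢; linarith⟩
      inv_mem' := by
        intro g hg p r
        obtain ⟨p₁, r₁, e1 | e1⟩ := d.normal_form g
        · obtain ⟨i, hi⟩ := (hg p₁ r₁).1 e1
          rw [e1, d.e_inv]
          refine ⟨fun e => ?_, fun e => absurd e (d.e_ne_ez _ _ _ _)⟩
          obtain ⟨⟨x, hx⟩, ⟨y, hy⟩⟩ := d.e_eq.mp e
          exact ⟨-i - 2 * x + 2 * y, by rw [hN] at hx hy; rw [hH] at hi ⊢; linarith⟩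
        · obtain ⟨i, hi⟩ := (hg p₁ r₁).2 e1
          rw [e1, d.ez_inv]
          refine ⟨fun e => absurd e.symm (d.e_ne_ez _ _ _ _), fun e => ?_⟩
          obtain ⟨⟨x, hx⟩, ⟨y, hy⟩⟩ := d.e_eq.mp (mul_right_cancel e)
          exact ⟨i - 2 * x + 2 * y, by rw [hN] at hx hy; rw [hH] at hi ⊢; linarith⟩ }
  have haX : (a : S) ∈ X ∧ ∃ p r, (a : S) = d.e p r ∧ ∃ l : ℤ, p - r = H n * (2 * l + 1) ∨ (a : S) ∉ d.A := by
    have hrel := congrArg (fun q : Q' => (q : S)) hba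
    obtain ⟨p, r, hav | hav⟩ := d.normal_form (a : S)
    · simp only [Subgroup.coe_mul, Subgroup.coe_inv] at hrel
      rw [Subgroup.coe_mul, hav, d.e_mul, hw, d.e_eq] at hasq
      rw [hbv, hav, d.conj_ez_e, d.e_inv, d.e_eq] at hrel
      obtain ⟨⟨i, hi⟩, ⟨j, hj⟩⟩ := hrel
      obtain ⟨⟨x, hx⟩, ⟨y, hy⟩⟩ := hasq
      rw [hN] at hi hj hx hy
      rw [hH] at hx hy
      refine ⟨fun p' r' => ⟨fun e => ?_, fun e => absurd (hav ▸ e) (d.e_ne_ez _ _ _ _)⟩,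
        p, r, hav, x - i, Or.inl (by rw [hH]; linarith)⟩
      obtain ⟨⟨u, hu⟩, ⟨v, hv⟩⟩ := d.e_eq.mp (hav ▸ e)
      rw [hN] at hu hv
      exact ⟨2 * (x - i) + 1 - 2 * u + 2 * v, by rw [hH]; linarith⟩
    · exact absurd (hav ▸ haA) (d.ez_notMem _ _)
  have hbX : (b : S) ∈ X := by
    intro p r
    rw [hbv]
    refine ⟨fun e => absurd e.symm (d.e_ne_ez _ _ _ _), fun e => ?_⟩
    obtain ⟨⟨x, hx⟩, ⟨y, hy⟩⟩ := d.e_eq.mp (mul_right_cancel e)
    rw [hN] at hx hy hτ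
    rw [hH] at hτ
    exact ⟨-2 * x + 2 * y, by rw [hH, hc, hH]; linarith⟩
  have hle : Q' ⊔ center S ≤ X := by
    refine sup_le (fun q hq => ?_) (fun g hg => ?_)
    · obtain ⟨i, j, hij⟩ := hgen ⟨q, hq⟩
      have : q = (a : S) ^ (i : ℕ) * (b : S) ^ (j : ℕ) := by simpa using congrArg Subtype.val hij
      rw [this]
      exact mul_mem (pow_mem haX.1 _) (pow_mem hbX _)
    · rw [d.center_eq, mem_zpowers_iff] at hg
      obtain ⟨k, rfl⟩ := hg
      intro p r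
      rw [d.e_zpow]
      refine ⟨fun e => ?_, fun e => absurd e (d.e_ne_ez _ _ _ _)⟩
      obtain ⟨⟨x, hx⟩, ⟨y, hy⟩⟩ := d.e_eq.mp e
      exact ⟨-2 * x + 2 * y, by rw [hN] at hx hy; rw [hH]; linarith⟩
  obtain ⟨-, p, r, hav, l, hl⟩ := haX
  have hl' : p - r = H n * (2 * l + 1) := hl.resolve_right fun h => h (d.mem_A.mpr ⟨p, r, hav⟩)
  have hH0 : d.e (H n) 0 ∈ Q' ⊔ center S := by
    have e1 : d.e (H n) 0 = d.e p r * d.e (-r - 2 * l * H n) (-r) := by
      rw [d.e_mul, d.e_eq]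
      exact ⟨⟨0, by linear_combination -hl'⟩, ⟨0, by ring⟩⟩
    rw [e1, ← hav]
    exact mul_mem (mem_sup_left a.2)
      (mem_sup_right (d.mem_center_e.mpr ⟨-l, by rw [d.pow_facts.1]; ring⟩))
  have hA : ∀ p r : ℤ, H n ∣ p - r → d.e p r ∈ Q' ⊔ center S := by
    rintro p r ⟨t, ht⟩
    have e1 : d.e p r = d.e (H n) 0 ^ t * d.e r r := by
      rw [d.e_zpow, d.e_mul, d.e_eq]
      exact ⟨⟨0, by linear_combination ht⟩, ⟨0, by ring⟩⟩
    rw [e1]
    exact mul_mem (zpow_mem hH0 t) (mem_sup_right (d.mem_center_e.mpr (by simp)))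
  refine ⟨c, fun p r => ⟨⟨fun hm => (hle hm p r).1 rfl, hA p r⟩, fun hm => (hle hm p r).2 rfl, ?_⟩⟩
  rintro ⟨k, hk⟩
  have e1 : d.e p r * d.z = d.e (p - s) (r - t) * (b : S) := by
    rw [hbv, d.e_ez]; congr 2 <;> ring
  rw [e1]
  refine mul_mem (hA _ _ ⟨k - 2 * 0, ?_⟩) (mem_sup_left b.2)
  rw [hN] at hτ
  rw [hc, hH] at hk
  rw [hH] at hτ ⊢
  linarith

end Cfsg.Lib.TwoGroup.W
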