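import Mathlib.LinearAlgebra.Matrix.GeneralLinearGroup.Defs
import Mathlib.GroupTheory.SpecificGroups.Alternating
import Mathlib.Data.ZMod.Basic
import Mathlib.RingTheory.Nilpotent.Basic
import Mathlib.Data.Set.Card
import Mathlib.LinearAlgebra.Matrix.NonsingularInverse
import Mathlib.Tactic

/-!
Subgroups of `GL₂(ℤ/2^k)` isomorphic to the alternating group of degree 4.
-/

set_option autoImplicit false

namespace Cfsg.Lib.TwoGroup.AltFourGL2

open Subgroup

variable {k : ℕ}

local notation "R" => ZMod (2 ^ k)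
local notation "M2" => Matrix (Fin 2) (Fin 2) (ZMod (2 ^ k))

/-- Reduction modulo two. -/
noncomputable def red (hk : k ≠ 0) : R →+* ZMod 2 := ZMod.castHom (dvd_pow_self 2 hk) (ZMod 2)

theorem red_eq_zero (hk : k ≠ 0) {a : R} (h : red hk a = 0) : ∃ b : R, a = 2 * b := by
  haveI : NeZero (2 ^ k) := ⟨pow_ne_zero _ two_ne_zero⟩
  rw [← ZMod.natCast_zmod_val a, map_natCast, ZMod.natCast_eq_zero_iff_even] at h
  obtain ⟨m, hm⟩ := h
  refine ⟨(m : R), ?_⟩
  conv_lhs => rw [← ZMod.natCast_zmod_val a, hm]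
  push_cast
  ring

theorem matrix_red_eq_zero (hk : k ≠ 0) {A : M2} (h : (red hk).mapMatrix A = 0) :
    ∃ B : M2, A = 2 * B := by
  have h' : ∀ i j, ∃ b : R, A i j = 2 * b := fun i j => red_eq_zero hk (by
    simpa using congrFun (congrFun h i) j)
  choose B hB using h'
  refine ⟨Matrix.of B, ?_⟩
  ext i j
  rw [two_mul, Matrix.add_apply, Matrix.of_apply, hB, two_mul]

theorem two_pow_eq_zero : (2 : R) ^ k = 0 := by
  have : ((2 ^ k : ℕ) : R) = 0 := ZMod.natCast_self _
  push_cast at this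
  exact this

theorem two_pow_eq_zero' : (2 : M2) ^ k = 0 := by
  have : (2 : M2) = algebraMap R M2 2 := (map_ofNat _ 2).symm
  rw [this, ← map_pow, two_pow_eq_zero, map_zero]

theorem isNilpotent_two_mul (A : M2) : IsNilpotent (2 * A) :=
  ⟨k, by rw [(Commute.ofNat_left 2 A).mul_pow, two_pow_eq_zero', zero_mul]⟩

theorem isUnit_one_add_two_mul (A : M2) : IsUnit (1 + 2 * A) :=
  (isNilpotent_two_mul A).isUnit_one_add

theorem isUnit_of_red_one (hk : k ≠ 0) {a : R} (h : red hk a = 1) : IsUnit a := by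
  obtain ⟨b, hb⟩ := red_eq_zero hk (a := a - 1) (by rw [map_sub, h, map_one, sub_self])
  have : a = 1 + 2 * b := by rw [← hb]; ring
  rw [this]
  exact IsNilpotent.isUnit_one_add ⟨k, by rw [mul_pow, two_pow_eq_zero, zero_mul]⟩

/-- The companion matrix of `X² + X + 1`. -/
def X0 (A : Type*) [CommRing A] : Matrix (Fin 2) (Fin 2) A := !![0, -1; 1, -1]

theorem red_X0 (hk : k ≠ 0) : (red hk).mapMatrix (X0 R) = X0 (ZMod 2) := by
  ext i j
  fin_cases i <;> fin_cases j <;> simp [X0]

theorem mod_two_step1 : ∀ a b c d : ZMod 2, !![a, b; c, d] * !![a, b; c, d] = 1 →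
    !![a, b; c, d] * (X0 (ZMod 2) * !![a, b; c, d] * (X0 (ZMod 2) * X0 (ZMod 2))) =
      X0 (ZMod 2) * X0 (ZMod 2) * !![a, b; c, d] * X0 (ZMod 2) →
    !![a, b; c, d] = 1 := by
  decide

theorem mod_two_step2 : ∀ a b c d : ZMod 2, !![a, b; c, d] * !![a, b; c, d] = !![a, b; c, d] →
    !![a, b; c, d] + X0 (ZMod 2) * !![a, b; c, d] * (X0 (ZMod 2) * X0 (ZMod 2)) =
      X0 (ZMod 2) * X0 (ZMod 2) * !![a, b; c, d] * X0 (ZMod 2) →
    !![a, b; c, d] = 0 := by
  decide

theorem mod_two_order_three : ∀ a b c d : ZMod 2,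
    !![a, b; c, d] * !![a, b; c, d] * !![a, b; c, d] = 1 → !![a, b; c, d] ≠ 1 →
    c = 1 ∧ (a - 1) * (d - 1) - b * c = 1 := by
  decide

theorem X0_cube (A : Type*) [CommRing A] : X0 A * X0 A * X0 A = 1 := by
  ext i j
  fin_cases i <;> fin_cases j <;> simp [X0, Matrix.mul_apply, Fin.sum_univ_two]

theorem four_mul_eq_zero_of_mul_unit {D U : M2} (hU : IsUnit U) (h : D * U = 0) : D = 0 :=
  hU.mul_left_eq_zero.1 h

/-- The four matrices forming the invariant four group. -/
def InW (E : M2) : Prop :=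
  ∃ u q : R, 2 * u = 0 ∧ 2 * q = 0 ∧ E = !![1 + u, q; u + q, 1 + u]

theorem key (hk : 2 ≤ k) {E : M2} (hE : E * E = 1)
    (hprod : E * (X0 R * E * (X0 R * X0 R)) = X0 R * X0 R * E * X0 R) : InW E := by
  have hk0 : k ≠ 0 := by omega
  set X := X0 R with hX
  set π := (red (k := k) hk0).mapMatrix (m := Fin 2)
  have hX3 : X * X * X = 1 := X0_cube _
  have hπE : π E = 1 := by
    rw [Matrix.eta_fin_two (π E)]
    refine mod_two_step1 _ _ _ _ ?_ ?_
    · rw [← Matrix.eta_fin_two (π E), ← map_mul, hE, map_one]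
    · rw [← Matrix.eta_fin_two (π E)]
      have hπX : π X = X0 (ZMod 2) := red_X0 hk0
      have := congrArg π hprod
      simp only [map_mul, hπX] at this
      exact this
  obtain ⟨m, hm⟩ := matrix_red_eq_zero hk0 (A := E - 1) (show π (E - 1) = 0 by
    rw [map_sub, hπE, map_one, sub_self])
  have hEm : E = 1 + 2 * m := by rw [← hm]; abel
  set m' := X * m * (X * X) with hm'
  set m'' := X * X * m * X with hm''
  have hF : X * E * (X * X) = 1 + 2 * m' := by
    rw [hEm, hm', mul_add, add_mul, mul_one, ← mul_assoc X X X, hX3]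
    noncomm_ring
  have hG : X * X * E * X = 1 + 2 * m'' := by
    rw [hEm, hm'', mul_add, add_mul, mul_one, hX3]
    noncomm_ring
  have hsq : 4 * (m + m * m) = 0 := by
    have : (1 + 2 * m) * (1 + 2 * m) = 1 + 4 * (m + m * m) := by noncomm_ring
    rw [← hEm, hE] at this
    simpa using this.symm
  have hrel : 2 * (m + m' - m'') + 4 * (m * m') = 0 := by
    have : (1 + 2 * m) * (1 + 2 * m') - (1 + 2 * m'') = 2 * (m + m' - m'') + 4 * (m * m') := by
      noncomm_ring
    rw [← this, ← hEm, ← hF, ← hG, hprod, sub_self]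
  have h4 : 4 * m = 0 := by
    by_cases hk2 : k = 2
    · have : (4 : M2) = 0 := by
        have h0 := two_pow_eq_zero' (k := k)
        have e : (2 : M2) ^ k = 2 ^ 2 := congrArg _ hk2
        rw [e] at h0
        norm_num at h0
        exact h0
      rw [this, zero_mul]
    · -- reduce modulo two once more
      have hdiv : ∀ (j : ℕ), j < k → ∀ A : M2, (2 : M2) ^ j * A = 0 → π A = 0 := by
        intro j hj A hA
        have hent : ∀ i l, (2 : R) ^ j * A i l = 0 := by
          intro i l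
          have h2 : (2 : M2) ^ j = algebraMap R M2 (2 ^ j) := by rw [map_pow, map_ofNat]
          rw [h2] at hA
          simpa [Algebra.algebraMap_eq_smul_one] using congrFun (congrFun hA i) l
        have hz : ∀ a : R, (2 : R) ^ j * a = 0 → red hk0 a = 0 := by
          intro a ha
          haveI : NeZero (2 ^ k) := ⟨pow_ne_zero _ two_ne_zero⟩
          rw [← ZMod.natCast_zmod_val a] at ha ⊢
          rw [map_natCast, ZMod.natCast_eq_zero_iff_even]
          have : ((2 ^ j * a.val : ℕ) : R) = 0 := by push_cast; exact ha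
          rw [ZMod.natCast_eq_zero_iff] at this
          obtain ⟨e, he⟩ : ∃ e, k = j + (e + 1) := ⟨k - j - 1, by omega⟩
          obtain ⟨t, ht⟩ := this
          refine even_iff_two_dvd.2 ⟨2 ^ e * t, ?_⟩
          have ht' : 2 ^ j * a.val = 2 ^ j * (2 * (2 ^ e * t)) :=
            ht.trans (by rw [show (2 : ℕ) ^ k = 2 ^ (j + (e + 1)) by rw [← he]]; ring)
          exact Nat.eq_of_mul_eq_mul_left (by positivity) ht'
        ext i l
        simpa [π] using hz _ (hent i l)
      have e1 : π (m + m * m) = 0 := hdiv 2 (by omega) _ (by rw [show (2 : M2) ^ 2 = 4 by norm_num]; exact hsq)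
      have e2 : π (m + m' - m'' + 2 * (m * m')) = 0 := hdiv 1 (by omega) _ (by
        rw [pow_one, mul_add, ← mul_assoc, show (2 : M2) * 2 = 4 by norm_num]; exact hrel)
      have e3 : π m = 0 := by
        have hneg : ∀ A : Matrix (Fin 2) (Fin 2) (ZMod 2), -A = A := fun A => by
          ext i j; exact ZMod.neg_eq_self_mod_two _
        rw [Matrix.eta_fin_two (π m)]
        refine mod_two_step2 _ _ _ _ ?_ ?_
        · rw [← Matrix.eta_fin_two (π m)]
          rw [map_add, map_mul, add_eq_zero_iff_eq_neg] at e1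
          rw [← hneg (π m * π m)]
          exact e1.symm
        · rw [← Matrix.eta_fin_two (π m)]
          have hπX : π X = X0 (ZMod 2) := red_X0 hk0
          have h2 : π (2 * (m * m')) = 0 := by
            ext i j
            rw [two_mul, map_add]
            exact CharTwo.add_self_eq_zero _
          rw [map_add, h2, add_zero, map_sub, sub_eq_zero, map_add, hm', hm''] at e2
          simp only [map_mul, hπX] at e2
          exact e2
      obtain ⟨n, hn⟩ := matrix_red_eq_zero hk0 e3
      have h8 : 8 * n * (1 + 2 * n) = 0 := by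
        rw [← hsq, hn]
        noncomm_ring
      rw [hn]
      have := four_mul_eq_zero_of_mul_unit (isUnit_one_add_two_mul n) h8
      rw [← this]
      noncomm_ring
  -- linear equations
  set d := E - 1 with hd
  have hd2 : 2 * d = 0 := by rw [hm, ← mul_assoc, show (2 : M2) * 2 = 4 by norm_num, h4]
  have hlin : d + X * d * (X * X) - X * X * d * X = 0 := by
    have h44 : 4 * (m * m') = 0 := by rw [← mul_assoc, h4, zero_mul]
    rw [h44, add_zero] at hrel
    rw [hm, ← hrel, hm', hm'']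
    noncomm_ring
  have h2e : ∀ i j, 2 * d i j = 0 := fun i j => by
    have := congrFun (congrFun hd2 i) j
    rw [two_mul, Matrix.add_apply, ← two_mul] at this
    exact this
  rw [Matrix.eta_fin_two d] at hlin
  have c00 := congrFun (congrFun hlin 0) 0
  have c11 := congrFun (congrFun hlin 1) 1
  simp [hX, X0, Matrix.mul_apply, Fin.sum_univ_two] at c00 c11
  refine ⟨d 0 0, d 0 1, h2e 0 0, h2e 0 1, ?_⟩
  have hEd : E = 1 + d := by rw [hd]; abel
  rw [hEd]
  ext i j
  fin_cases i <;> fin_cases j <;> simp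
  · linear_combination c00 - h2e 0 0 - h2e 0 1
  · linear_combination c11 - c00 + h2e 1 0 + h2e 0 1

theorem eq_zero_or_half (hk : k ≠ 0) {u : R} (h : 2 * u = 0) : u = 0 ∨ u = 2 ^ (k - 1) := by
  haveI : NeZero (2 ^ k) := ⟨pow_ne_zero _ two_ne_zero⟩
  obtain ⟨e, rfl⟩ : ∃ e, k = e + 1 := ⟨k - 1, by omega⟩
  rw [← ZMod.natCast_zmod_val u] at h ⊢
  have hd : 2 ^ (e + 1) ∣ 2 * u.val := by
    rw [← ZMod.natCast_eq_zero_iff]; push_cast; exact h
  have hd2 : 2 ^ e ∣ u.val := Nat.dvd_of_mul_dvd_mul_left two_pos (by rwa [← pow_succ'])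
  obtain ⟨t, ht⟩ := hd2
  have hlt : 2 ^ e * t < 2 ^ e * 2 := by rw [← ht, ← pow_succ]; exact u.val_lt
  have ht2 : t < 2 := Nat.lt_of_mul_lt_mul_left hlt
  rw [ht]
  interval_cases t <;> simp

theorem ncard_inW_le (hk : k ≠ 0) : {g : GL (Fin 2) R | InW g.val}.ncard ≤ 4 := by
  classical
  set f : R → R → M2 := fun u q => !![1 + u, q; u + q, 1 + u]
  set h : R := 2 ^ (k - 1)
  have hsub : (fun g : GL (Fin 2) R => g.val) '' {g | InW g.val} ⊆
      ↑({f 0 0, f 0 h, f h 0, f h h} : Finset M2) := by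
    rintro _ ⟨g, ⟨u, q, hu, hq, hg⟩, rfl⟩
    simp only [Finset.coe_insert, Finset.coe_singleton, Set.mem_insert_iff, Set.mem_singleton_iff]
    rcases eq_zero_or_half hk hu with rfl | rfl <;> rcases eq_zero_or_half hk hq with rfl | rfl <;>
      simp [f, h, hg]
  rw [← Set.ncard_image_of_injective _ (fun a b hab => Units.ext hab)]
  exact ((Set.ncard_le_ncard hsub (Finset.finite_toSet _)).trans_eq (Set.ncard_coe_finset _)).trans
    Finset.card_le_four

/-- A three cycle in `A₄`. -/
def cyc : alternatingGroup (Fin 4) := ⟨Equiv.swap 0 1 * Equiv.swap 1 2, Equiv.Perm.mem_alternatingGroup.2 (by decide)⟩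

theorem A4_rel : ∀ a : alternatingGroup (Fin 4), a * a = 1 →
    a * (cyc * a * (cyc * cyc)) = cyc * cyc * a * cyc := by decide

theorem A4_gen : ∀ a : alternatingGroup (Fin 4), ∃ i : Fin 3,
    (cyc ^ (i : ℕ))⁻¹ * a * ((cyc ^ (i : ℕ))⁻¹ * a) = 1 := by decide

theorem A4_card : (Finset.univ.filter fun a : alternatingGroup (Fin 4) => a * a = 1).card = 4 := by
  decide

theorem cyc_cube : cyc * cyc * cyc = 1 := by decide

theorem cyc_ne_one : cyc ≠ 1 := by decide

/-- The companion matrix as a unit. -/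
def x0 (k : ℕ) : GL (Fin 2) (ZMod (2 ^ k)) :=
  ⟨X0 _, X0 _ * X0 _, by rw [← mul_assoc, X0_cube], X0_cube _⟩

theorem map_conj_range {G A : Type*} [Group G] [Group A] (φ : A →* G) (g : G) :
    φ.range.map (MulAut.conj g).toMonoidHom = ((MulAut.conj g).toMonoidHom.comp φ).range :=
  MonoidHom.map_range _ _

theorem range_eq (hk : 2 ≤ k) (φ : alternatingGroup (Fin 4) →* GL (Fin 2) R)
    (hφ : Function.Injective φ) (hx : φ cyc = x0 k) :
    φ.range = closure (insert (x0 k) {g | InW g.val}) := by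
  classical
  set I := Finset.univ.filter fun a : alternatingGroup (Fin 4) => a * a = 1
  have hsub : φ '' ↑I ⊆ {g : GL (Fin 2) R | InW g.val} := by
    rintro _ ⟨a, ha, rfl⟩
    have ha' : a * a = 1 := (Finset.mem_filter.1 ha).2
    refine key hk ?_ ?_
    · rw [← Units.val_mul, ← map_mul, ha', map_one, Units.val_one]
    · have := congrArg (fun b => (φ b).val) (A4_rel a ha')
      simpa only [map_mul, hx, Units.val_mul, x0] using this
  have heq : φ '' ↑I = {g : GL (Fin 2) R | InW g.val} := by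
    haveI : NeZero (2 ^ k) := ⟨pow_ne_zero _ two_ne_zero⟩
    refine Set.eq_of_subset_of_ncard_le hsub ?_ (Set.toFinite _)
    rw [Set.ncard_image_of_injective _ hφ, Set.ncard_coe_finset, A4_card]
    exact ncard_inW_le (by omega)
  refine le_antisymm ?_ ((closure_le _).2 ?_)
  · rintro _ ⟨a, rfl⟩
    obtain ⟨i, hi⟩ := A4_gen a
    have : a = cyc ^ (i : ℕ) * ((cyc ^ (i : ℕ))⁻¹ * a) := by group
    rw [this, map_mul, map_pow, hx]
    refine mul_mem (pow_mem (subset_closure (Set.mem_insert _ _)) _) (subset_closure (Set.mem_insert_of_mem _ ?_))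
    rw [← heq]
    exact ⟨_, Finset.mem_filter.2 ⟨Finset.mem_univ _, hi⟩, rfl⟩
  · rintro g (rfl | hg)
    · exact ⟨cyc, hx⟩
    · rw [← heq] at hg
      obtain ⟨a, -, rfl⟩ := hg
      exact ⟨a, rfl⟩

theorem exists_conj_eq (hk : 2 ≤ k) (H : Subgroup (GL (Fin 2) R))
    (h : Nonempty (↥H ≃* ↥(alternatingGroup (Fin 4)))) :
    ∃ g : GL (Fin 2) R, H.map (MulAut.conj g).toMonoidHom =
      closure (insert (x0 k) {g | InW g.val}) := by
  have hk0 : k ≠ 0 := by omega
  obtain ⟨e⟩ := h
  set φ := H.subtype.comp e.symm.toMonoidHom with hφdef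
  have hφ : Function.Injective φ := H.subtype_injective.comp e.symm.injective
  have hran : φ.range = H := by
    rw [hφdef, MonoidHom.range_comp, MonoidHom.range_eq_top.2 e.symm.surjective,
      ← MonoidHom.range_eq_map, Subgroup.range_subtype]
  set X : M2 := (φ cyc).val with hX
  have hX3 : X * X * X = 1 := by
    rw [hX, ← Units.val_mul, ← Units.val_mul, ← map_mul, ← map_mul, cyc_cube, map_one, Units.val_one]
  set π := (red (k := k) hk0).mapMatrix (m := Fin 2)
  have hπne : π X ≠ 1 := by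
    intro h1
    obtain ⟨m, hm⟩ := matrix_red_eq_zero hk0 (A := X - 1) (show π (X - 1) = 0 by
      rw [map_sub, h1, map_one, sub_self])
    have hXm : X = 1 + 2 * m := by rw [← hm]; abel
    have h0 : 2 * m * (1 + 2 * (1 + 3 * m + 2 * (m * m))) = 0 := by
      have : (1 + 2 * m) * (1 + 2 * m) * (1 + 2 * m) - 1 =
          2 * m * (1 + 2 * (1 + 3 * m + 2 * (m * m))) := by noncomm_ring
      rw [← this, ← hXm, hX3, sub_self]
    have := four_mul_eq_zero_of_mul_unit (isUnit_one_add_two_mul _) h0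
    rw [this, add_zero] at hXm
    exact cyc_ne_one (hφ (by rw [map_one]; exact Units.ext hXm))
  have hmod := mod_two_order_three _ _ _ _
    (by rw [← Matrix.eta_fin_two (π X), ← map_mul, ← map_mul, hX3, map_one])
    (by rw [← Matrix.eta_fin_two (π X)]; exact hπne)
  simp [π] at hmod
  have hc : IsUnit (X 1 0) := isUnit_of_red_one hk0 hmod.1
  have hdet : IsUnit (X - 1) := by
    rw [Matrix.isUnit_iff_isUnit_det, Matrix.det_fin_two]
    refine isUnit_of_red_one hk0 ?_
    simp [hmod.2]
  have hquad : X * X + X + 1 = 0 := by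
    refine hdet.mul_right_eq_zero.1 ?_
    calc (X - 1) * (X * X + X + 1) = X * X * X - 1 := by noncomm_ring
      _ = 0 := by rw [hX3, sub_self]
  set P : M2 := !![1, X 0 0; 0, X 1 0] with hP
  have hPu : IsUnit P := by
    rw [Matrix.isUnit_iff_isUnit_det, Matrix.det_fin_two]
    simpa [hP] using hc
  have hXP : X * P = P * X0 R := by
    have e0 := congrFun (congrFun hquad 0) 0
    have e1 := congrFun (congrFun hquad 1) 0
    simp [Matrix.mul_apply, Fin.sum_univ_two] at e0 e1
    ext i j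
    fin_cases i <;> fin_cases j <;> simp [hP, X0, Matrix.mul_apply, Fin.sum_univ_two]
    · linear_combination e0
    · linear_combination e1
  obtain ⟨Pu, hPu⟩ := hPu
  refine ⟨Pu⁻¹, ?_⟩
  rw [← hran, map_conj_range]
  refine range_eq hk _ ((MulAut.conj Pu⁻¹).injective.comp hφ) ?_
  have hval : φ cyc * Pu = Pu * x0 k := Units.ext (by
    rw [Units.val_mul, Units.val_mul, hPu, ← hX]
    exact hXP)
  simp [MulAut.conj_apply, mul_assoc, hval]

end Cfsg.Lib.TwoGroup.AltFourGL2
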