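import Mathlib

/-!
The dihedral subgroups of a dihedral Sylow 2-subgroup fall into two classes in the whole group.
-/

set_option autoImplicit false
set_option linter.style.haveILetI false

namespace Cfsg.Lib.TwoGroup.Dihedral4

open Subgroup DihedralGroup

variable {a : ℕ}

theorem two_pow_dvd_iff {t : ℕ} {l : ZMod (2 ^ a)} (ht : t ≤ a) :
    ((2 ^ t : ℕ) : ZMod (2 ^ a)) ∣ l ↔ 2 ^ t ∣ l.val := by
  constructor
  · rintro ⟨c, rfl⟩
    rw [ZMod.val_mul, ZMod.val_natCast, Nat.dvd_mod_iff (pow_dvd_pow 2 ht)]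
    exact Dvd.dvd.mul_right ((Nat.dvd_mod_iff (pow_dvd_pow 2 ht)).mpr dvd_rfl) _
  · rintro ⟨c, hc⟩
    exact ⟨c, by rw [← Nat.cast_mul, ← hc, ZMod.natCast_zmod_val]⟩

/-- The dihedral subgroup generated by `r ^ (2 ^ t)` and `sr i`. -/
def P (a t : ℕ) (i : ZMod (2 ^ a)) : Subgroup (DihedralGroup (2 ^ a)) where
  carrier := {x | ∃ j, ((2 ^ t : ℕ) : ZMod (2 ^ a)) ∣ j ∧ (x = r j ∨ x = sr (i + j))}
  one_mem' := ⟨0, dvd_zero _, Or.inl rfl⟩
  mul_mem' := by
    rintro _ _ ⟨j, hj, rfl | rfl⟩ ⟨k, hk, rfl | rfl⟩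
    · exact ⟨j + k, dvd_add hj hk, Or.inl (by rw [r_mul_r])⟩
    · exact ⟨k - j, dvd_sub hk hj, Or.inr (by rw [r_mul_sr, add_sub_assoc])⟩
    · exact ⟨j + k, dvd_add hj hk, Or.inr (by rw [sr_mul_r, add_assoc])⟩
    · exact ⟨k - j, dvd_sub hk hj, Or.inl (by rw [sr_mul_sr, add_sub_add_left_eq_sub])⟩
  inv_mem' := by
    rintro _ ⟨j, hj, rfl | rfl⟩
    · exact ⟨-j, dvd_neg.mpr hj, Or.inl (by rw [inv_r])⟩
    · exact ⟨j, hj, Or.inr (by rw [inv_sr])⟩

theorem r_mem {t : ℕ} {i l : ZMod (2 ^ a)} :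
    r l ∈ P a t i ↔ ((2 ^ t : ℕ) : ZMod (2 ^ a)) ∣ l := by
  constructor
  · rintro ⟨j, hj, h | h⟩
    · rwa [r.inj h]
    · cases h
  · exact fun h => ⟨l, h, Or.inl rfl⟩

theorem sr_mem {t : ℕ} {i l : ZMod (2 ^ a)} :
    sr l ∈ P a t i ↔ ((2 ^ t : ℕ) : ZMod (2 ^ a)) ∣ l - i := by
  constructor
  · rintro ⟨j, hj, h | h⟩
    · cases h
    · rw [sr.inj h]; simpa using hj
  · exact fun h => ⟨l - i, h, Or.inr (by rw [add_sub_cancel])⟩

theorem sr_self_mem {t : ℕ} (i : ZMod (2 ^ a)) : sr i ∈ P a t i :=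
  sr_mem.mpr (by simp)

theorem P_zero (i : ZMod (2 ^ a)) : P a 0 i = ⊤ := by
  refine eq_top_iff.mpr fun x _ => ?_
  rcases x with l | l
  · exact r_mem.mpr (by simp)
  · exact sr_mem.mpr (by simp)

theorem mem_rot {x : DihedralGroup (2 ^ a)} : x ∈ zpowers (r 1) ↔ ∃ l, x = r l := by
  constructor
  · rintro ⟨k, rfl⟩
    exact ⟨_, r_one_zpow k⟩
  · rintro ⟨l, rfl⟩
    exact ⟨(l.val : ℤ), by simp [ZMod.natCast_zmod_val]⟩

theorem index_rot : (zpowers (r 1 : DihedralGroup (2 ^ a))).index = 2 := by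
  have h := Subgroup.card_mul_index (zpowers (r 1 : DihedralGroup (2 ^ a)))
  rw [Nat.card_zpowers, orderOf_r_one, DihedralGroup.nat_card, mul_comm 2] at h
  exact Nat.eq_of_mul_eq_mul_left (by positivity) h

theorem card_eq_two_mul {H : Subgroup (DihedralGroup (2 ^ a))} {i : ZMod (2 ^ a)} (hi : sr i ∈ H) :
    Nat.card H = 2 * Nat.card (zpowers (r 1) ⊓ H : Subgroup (DihedralGroup (2 ^ a))) := by
  have hn : (zpowers (r 1 : DihedralGroup (2 ^ a))).Normal := normal_of_index_eq_two index_rot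
  have h2 : (zpowers (r 1 : DihedralGroup (2 ^ a))).relIndex H = 2 := by
    refine ((Nat.prime_two.eq_one_or_self_of_dvd _
      ?_).resolve_left fun h => ?_)
    · haveI := hn
      exact (relIndex_dvd_index_of_normal _ H).trans index_rot.dvd
    · obtain ⟨l, hl⟩ := mem_rot.mp (relIndex_eq_one.mp h hi)
      cases hl
  rw [← relIndex_bot_left H, ← relIndex_mul_relIndex ⊥ _ H bot_le inf_le_right, inf_relIndex_right,
    h2, relIndex_bot_left, mul_comm]

theorem card_P {t : ℕ} (ht : t ≤ a) (i : ZMod (2 ^ a)) :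
    Nat.card (P a t i) = 2 * 2 ^ (a - t) := by
  rw [card_eq_two_mul (sr_self_mem i)]
  have e : zpowers (r 1) ⊓ P a t i =
      zpowers ((r 1 : DihedralGroup (2 ^ a)) ^ (2 ^ t)) := by
    ext x
    constructor
    · rintro ⟨h1, h2⟩
      obtain ⟨l, rfl⟩ := mem_rot.mp h1
      obtain ⟨c, hc⟩ := r_mem.mp h2
      refine ⟨(c.val : ℤ), ?_⟩
      simp only [r_one_pow, zpow_natCast]
      simp [hc, ZMod.natCast_zmod_val]
    · intro h
      refine ⟨(zpowers_le.mpr (pow_mem (mem_zpowers _) _)) h, ?_⟩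
      refine (zpowers_le.mpr ?_) h
      rw [r_one_pow]
      exact r_mem.mpr dvd_rfl
  rw [e, Nat.card_zpowers, orderOf_pow, orderOf_r_one,
    Nat.gcd_eq_right (pow_dvd_pow 2 ht), Nat.pow_div ht two_pos]

theorem eq_P {t : ℕ} (ht : t ≤ a) {H : Subgroup (DihedralGroup (2 ^ a))} {i : ZMod (2 ^ a)}
    (hi : sr i ∈ H) (hc : Nat.card H = 2 * 2 ^ (a - t)) : H = P a t i := by
  have hK := card_eq_two_mul hi
  have hrot : ∀ l, r l ∈ H → ((2 ^ t : ℕ) : ZMod (2 ^ a)) ∣ l := by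
    intro l hl
    have h1 : orderOf (⟨r l, mem_rot.mpr ⟨l, rfl⟩, hl⟩ :
        (zpowers (r 1) ⊓ H : Subgroup (DihedralGroup (2 ^ a)))) ∣ 2 ^ (a - t) := by
      have := orderOf_dvd_natCard (⟨r l, mem_rot.mpr ⟨l, rfl⟩, hl⟩ :
        (zpowers (r 1) ⊓ H : Subgroup (DihedralGroup (2 ^ a))))
      rwa [show Nat.card (zpowers (r 1) ⊓ H : Subgroup (DihedralGroup (2 ^ a))) = 2 ^ (a - t) by
        omega] at this
    rw [← Subgroup.orderOf_coe, orderOf_r] at h1
    rw [two_pow_dvd_iff ht]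
    have hg : (2 ^ a).gcd l.val ∣ 2 ^ a := Nat.gcd_dvd_left _ _
    obtain ⟨k, hk, hk'⟩ := (Nat.dvd_prime_pow Nat.prime_two).mp hg
    rw [hk', Nat.pow_div hk two_pos, Nat.pow_dvd_pow_iff_le_right one_lt_two] at h1
    exact (pow_dvd_pow 2 (by omega : t ≤ k)).trans (hk' ▸ Nat.gcd_dvd_right _ _)
  refine eq_of_le_of_card_ge (fun x hx => ?_) (le_of_eq ((card_P ht i).trans hc.symm))
  rcases x with l | l
  · exact r_mem.mpr (hrot l hx)
  · refine sr_mem.mpr (hrot _ ?_)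
    simpa using mul_mem hi hx

theorem exists_sr {H : Subgroup (DihedralGroup (2 ^ a))} {x y : DihedralGroup (2 ^ a)}
    (hx : x ∈ H) (hy : y ∈ H) (hx1 : x ≠ 1) (hy1 : y ≠ 1) (hx2 : x * x = 1) (hy2 : y * y = 1)
    (hxy : x ≠ y) : ∃ i, sr i ∈ H := by
  rcases x with j | i
  · rcases y with k | i
    · refine absurd ?_ hxy
      have key : ∀ c : ZMod (2 ^ a), (r c : DihedralGroup (2 ^ a)) ≠ 1 →
          (r c : DihedralGroup (2 ^ a)) * r c = 1 → c.val + c.val = 2 ^ a := by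
        intro c h0 hc
        rw [r_mul_r, one_def] at hc
        have h1 : ((c.val + c.val : ℕ) : ZMod (2 ^ a)) = 0 := by
          push_cast; rw [ZMod.natCast_zmod_val]; exact r.inj hc
        obtain ⟨q, hq⟩ := (ZMod.natCast_eq_zero_iff _ _).mp h1
        have hlt := c.val_lt
        have hpos : 0 < c.val := Nat.pos_of_ne_zero fun e => h0 (by
          rw [(ZMod.val_eq_zero c).mp e]; rfl)
        rcases q with _ | _ | q
        · omega
        · omega
        · rw [Nat.mul_add, Nat.mul_add] at hq; omega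
      congr 1
      apply ZMod.val_injective
      have := key j hx1 hx2
      have := key k hy1 hy2
      omega
    · exact ⟨i, hy⟩
  · exact ⟨i, hx⟩

theorem mem_P_of_conj {t : ℕ} (ht : t + 1 ≤ a) {i : ZMod (2 ^ a)} {x : DihedralGroup (2 ^ a)}
    (hx : ∀ y ∈ P a (t + 1) i, x * y * x⁻¹ ∈ P a (t + 1) i) : x ∈ P a t i := by
  have key : ∀ l, ((2 ^ (t + 1) : ℕ) : ZMod (2 ^ a)) ∣ 2 * l →
      ((2 ^ t : ℕ) : ZMod (2 ^ a)) ∣ l := by
    intro l hl
    rw [two_pow_dvd_iff (by omega)] at hl ⊢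
    rw [ZMod.val_mul, Nat.dvd_mod_iff (pow_dvd_pow 2 ht)] at hl
    have h2 : (2 : ZMod (2 ^ a)).val = 2 % 2 ^ a := ZMod.val_natCast _ 2
    rw [h2] at hl
    rcases Nat.eq_or_lt_of_le (show 1 ≤ a by omega) with h | h
    · subst h
      have ht0 : t = 0 := by omega
      subst ht0
      simp
    · rw [Nat.mod_eq_of_lt (by calc 2 < 4 := by norm_num
                                    _ = 2 ^ 2 := rfl
                                    _ ≤ 2 ^ a := Nat.pow_le_pow_right two_pos h)] at hl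
      rwa [pow_succ, mul_comm _ 2, Nat.mul_dvd_mul_iff_left two_pos] at hl
  have h := hx _ (sr_self_mem i)
  rcases x with l | l
  · rw [r_mem]
    rw [r_mul_sr, inv_r, sr_mul_r, sr_mem] at h
    refine key l ((dvd_neg).mp ?_)
    convert h using 1
    ring
  · rw [sr_mem]
    rw [sr_mul_sr, inv_sr, r_mul_sr, sr_mem] at h
    refine key _ ?_
    convert h using 1
    ring

theorem conj_sr (x i : ZMod (2 ^ a)) :
    r x * sr i * (r x)⁻¹ = sr (i - 2 * x) := by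
  rw [r_mul_sr, inv_r, sr_mul_r]
  congr 1
  ring

end Cfsg.Lib.TwoGroup.Dihedral4
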