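import Cfsg.Agent.Lib.Coprime.Action
import Cfsg.Agent.Lib.PGroup.Basic

/-!
A `2`-group `E` acting on a class-two `2`-group `U` with all involutions in a central subgroup `V`, while
both normalize an abelian group `K` of odd order which is fixed-point-free on `U / V`, cannot be such that
all involutions of `U E` lie in `V`, if a group of operators permutes `V` transitively.
-/

set_option autoImplicit false

namespace Cfsg.Lib.TwoGroup.OneClass

open Subgroup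
open scoped commutatorElement

universe u

section Average

variable {Y : Type u} [CommGroup Y] {R : Type*} [Group R] [Fintype R]

/-- The product over the orbit of the operators. -/
def avg (act : R →* MulAut Y) : Y →* Y where
  toFun y := ∏ r, act r y
  map_one' := by simp
  map_mul' a b := by simp [Finset.prod_mul_distrib]

theorem avg_apply (act : R →* MulAut Y) (y : Y) : avg act y = ∏ r, act r y := rfl

theorem act_avg (act : R →* MulAut Y) (s : R) (y : Y) : act s (avg act y) = avg act y := by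
  rw [avg_apply, map_prod]
  exact Fintype.prod_equiv (Equiv.mulLeft s) _ _ fun r => by
    rw [Equiv.coe_mulLeft, map_mul, MulAut.mul_apply]

/-- Averaging commutes with automorphisms permuting the operators. -/
theorem avg_comm (act : R →* MulAut Y) (x : MulAut Y) (σ : R ≃ R)
    (h : ∀ r y, x (act r y) = act (σ r) (x y)) (y : Y) : x (avg act y) = avg act (x y) := by
  rw [avg_apply, avg_apply, map_prod]
  exact Fintype.prod_equiv σ _ _ fun r => h r y

theorem avg_of_fixed (act : R →* MulAut Y) (hodd : Odd (Nat.card R)) (hexp : ∀ y : Y, y * y = 1) {y : Y}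
    (h : ∀ r, act r y = y) : avg act y = y := by
  rw [avg_apply, Finset.prod_congr rfl fun r _ => h r, Finset.prod_const, Finset.card_univ,
    ← Nat.card_eq_fintype_card]
  obtain ⟨j, hj⟩ := hodd
  rw [hj, pow_succ, pow_mul, sq, hexp, one_pow, one_mul]

/-- A fixed point of an inverting involution is its average times an element `b * g b`. -/
theorem exists_avg_mul (act : R →* MulAut Y) (hodd : Odd (Nat.card R)) (hexp : ∀ y : Y, y * y = 1)
    (g : MulAut Y) (hinv : ∀ r y, g (act r y) = act r⁻¹ (g y)) {a : Y} (ha : g a = a) :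
    ∃ b, a = avg act a * (b * g b) := by
  classical
  let e := Fintype.equivFin R
  set H := Finset.univ.filter fun r : R => e r < e r⁻¹ with hH
  set H' := Finset.univ.filter fun r : R => e r⁻¹ < e r with hH'
  have hself : ∀ r : R, r⁻¹ = r → r = 1 := by
    intro r hr
    have h2 : r ^ 2 = 1 := by
      rw [sq]; nth_rewrite 1 [← hr]; exact inv_mul_cancel r
    have hco : Nat.Coprime 2 (Nat.card R) := Nat.coprime_two_left.mpr hodd
    exact orderOf_eq_one_iff.mp (Nat.eq_one_of_dvd_coprimes hco (orderOf_dvd_of_pow_eq_one h2)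
      (_root_.orderOf_dvd_natCard r))
  have hun : (Finset.univ : Finset R) = insert 1 (H ∪ H') := by
    ext r
    simp only [Finset.mem_univ, Finset.mem_insert, Finset.mem_union, hH, hH', Finset.mem_filter, true_and,
      true_iff]
    by_cases h : r = 1
    · exact Or.inl h
    · right
      rcases lt_trichotomy (e r) (e r⁻¹) with h1 | h1 | h1
      · exact Or.inl h1
      · exact absurd (hself r (e.injective h1).symm) h
      · exact Or.inr h1
  have h1 : (1 : R) ∉ H ∪ H' := by simp [hH, hH']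
  have hd : Disjoint H H' := by
    rw [Finset.disjoint_left]
    intro r hr hr'
    simp only [hH, hH', Finset.mem_filter] at hr hr'
    exact lt_asymm hr.2 hr'.2
  set b := ∏ r ∈ H, act r a
  have hgb : g b = ∏ r ∈ H', act r a := by
    rw [map_prod]
    refine Finset.prod_bij' (fun r _ => r⁻¹) (fun r _ => r⁻¹) ?_ ?_ ?_ ?_ ?_
    · intro r hr; simp only [hH, hH', Finset.mem_filter, Finset.mem_univ, true_and, inv_inv] at hr ⊢; exact hr
    · intro r hr; simp only [hH, hH', Finset.mem_filter, Finset.mem_univ, true_and, inv_inv] at hr ⊢; exact hr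
    · intro r _; exact inv_inv r
    · intro r _; exact inv_inv r
    · intro r _; rw [hinv, ha]
  have havg : avg act a = a * (b * g b) := by
    rw [avg_apply, hun, Finset.prod_insert h1, Finset.prod_union hd, hgb, map_one, MulAut.one_apply]
  refine ⟨b, ?_⟩
  rw [havg, mul_assoc, hexp, mul_one]

end Average

variable {G : Type u} [Group G] [Finite G]

/-- The data of the configuration. -/
structure Config (V U K E X : Subgroup G) : Prop where
  vNormal : V.Normal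
  uNormal : U.Normal
  v_le : V ≤ U
  v_exp : ∀ v ∈ V, v * v = 1
  v_comm : ∀ v ∈ V, ∀ w, w ∈ U ⊔ E ∨ w ∈ K → Commute v w
  u_sq : ∀ u ∈ U, u * u ∈ V
  u_commutator : ∀ u ∈ U, ∀ w ∈ U, ⁅u, w⁆ ∈ V
  two_group : IsPGroup 2 ↥(U ⊔ E)
  involution : ∀ y ∈ U ⊔ E, y * y = 1 → y ∈ V
  k_comm : ∀ k ∈ K, ∀ l ∈ K, Commute k l
  k_odd : Odd (Nat.card K)
  k_fpf : ∀ u ∈ U, (∀ k ∈ K, Commute k u) → u ∈ V
  e_sq : ∀ g ∈ E, g * g ∈ V
  e_commutator : ∀ g ∈ E, ∀ h ∈ E, ⁅g, h⁆ ∈ V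
  e_inf : ∀ g ∈ E, g ∈ U → g ∈ V
  e_norm : E ≤ normalizer (K : Set G)
  x_norm : X ≤ normalizer (K : Set G)
  x_norm' : X ≤ normalizer (E : Set G)
  transitive : ∀ v ∈ V, ∀ w ∈ V, v ≠ 1 → w ≠ 1 → ∃ x ∈ X, x * v * x⁻¹ = w
  two_elements : ∃ v ∈ V, ∃ w ∈ V, v ≠ 1 ∧ w ≠ 1 ∧ v ≠ w
  e_nontrivial : ∃ g ∈ E, g ∉ V
  u_nontrivial : ∃ u ∈ U, u ∉ V

namespace Config

variable {V U K E X : Subgroup G} (c : Config V U K E X)
include c

theorem comm_u {v u : G} (hv : v ∈ V) (hu : u ∈ U) : Commute v u :=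
  c.v_comm v hv u (Or.inl (mem_sup_left hu))

theorem comm_e {v g : G} (hv : v ∈ V) (hg : g ∈ E) : Commute v g :=
  c.v_comm v hv g (Or.inl (mem_sup_right hg))

theorem comm_k {v k : G} (hv : v ∈ V) (hk : k ∈ K) : Commute v k := c.v_comm v hv k (Or.inr hk)

theorem conj_e {v g : G} (hv : v ∈ V) (hg : g ∈ E) : g * v * g⁻¹ = v := by
  rw [← (c.comm_e hv hg).eq, mul_inv_cancel_right]

theorem inv_eq {v : G} (hv : v ∈ V) : v⁻¹ = v := inv_eq_of_mul_eq_one_left (c.v_exp v hv)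

theorem k_conj {g k : G} (hg : g ∈ normalizer (K : Set G)) (hk : k ∈ K) : g * k * g⁻¹ ∈ K :=
  (mem_normalizer_iff.mp hg k).mp hk

theorem u_conj {u : G} (g : G) (hu : u ∈ U) : g * u * g⁻¹ ∈ U := c.uNormal.conj_mem u hu g

theorem v_conj {v : G} (g : G) (hv : v ∈ V) : g * v * g⁻¹ ∈ V := c.vNormal.conj_mem v hv g

theorem commutator_k {g k : G} (hg : g ∈ E) (hk : k ∈ K) : ⁅k, g⁆ ∈ K := by
  have h := mul_mem hk (c.k_conj (c.e_norm hg) (inv_mem hk))
  rwa [show k * (g * k⁻¹ * g⁻¹) = ⁅k, g⁆ by rw [commutatorElement_def]; group] at h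

/-- The commutators of `K` with one element of `E`. -/
def rad (g : G) (hg : g ∈ E) : Subgroup G where
  carrier := {r | ∃ k ∈ K, ⁅k, g⁆ = r}
  one_mem' := ⟨1, one_mem _, commutatorElement_one_left g⟩
  mul_mem' := by
    rintro _ _ ⟨k, hk, rfl⟩ ⟨l, hl, rfl⟩
    refine ⟨k * l, mul_mem hk hl, ?_⟩
    have h1 := c.commutator_k hg hl
    calc ⁅k * l, g⁆ = k * ⁅l, g⁆ * k⁻¹ * ⁅k, g⁆ := by simp only [commutatorElement_def]; group
      _ = ⁅l, g⁆ * ⁅k, g⁆ := by rw [(c.k_comm k hk _ h1).eq, mul_inv_cancel_right]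
      _ = ⁅k, g⁆ * ⁅l, g⁆ := (c.k_comm _ h1 _ (c.commutator_k hg hk)).eq
  inv_mem' := by
    rintro _ ⟨k, hk, rfl⟩
    refine ⟨k⁻¹, inv_mem hk, ?_⟩
    have h1 := inv_mem (c.commutator_k hg hk)
    calc ⁅k⁻¹, g⁆ = k⁻¹ * ⁅k, g⁆⁻¹ * k := by simp only [commutatorElement_def]; group
      _ = ⁅k, g⁆⁻¹ := by rw [(c.k_comm k⁻¹ (inv_mem hk) _ h1).eq, inv_mul_cancel_right]

theorem rad_le {g : G} (hg : g ∈ E) : c.rad g hg ≤ K := by
  rintro _ ⟨k, hk, rfl⟩
  exact c.commutator_k hg hk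

theorem rad_odd {g : G} (hg : g ∈ E) : Odd (Nat.card (c.rad g hg)) :=
  c.k_odd.of_dvd_nat (card_dvd_of_le (c.rad_le hg))

theorem rad_inverted {g r : G} (hg : g ∈ E) (hr : r ∈ c.rad g hg) : g * r * g⁻¹ = r⁻¹ := by
  obtain ⟨k, hk, rfl⟩ := hr
  have h : g * g * k⁻¹ = k⁻¹ * (g * g) := (c.comm_k (c.e_sq g hg) (inv_mem hk)).eq
  calc g * ⁅k, g⁆ * g⁻¹ = g * k * (g * k⁻¹) * (g * g)⁻¹ := by rw [commutatorElement_def]; group
    _ = g * k * g⁻¹ * (g * g * k⁻¹) * (g * g)⁻¹ := by group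
    _ = g * k * g⁻¹ * k⁻¹ := by rw [h]; group
    _ = ⁅k, g⁆⁻¹ := by rw [commutatorElement_def]; group

theorem rad_mul_v {g v : G} (hg : g ∈ E) (hv : v ∈ V) (k : G) (hk : k ∈ K) : ⁅k, g * v⁆ = ⁅k, g⁆ := by
  have h : k * v = v * k := ((c.comm_k hv hk).eq).symm
  calc ⁅k, g * v⁆ = k * g * (v * k⁻¹) * v⁻¹ * g⁻¹ := by rw [commutatorElement_def]; group
    _ = k * g * (k⁻¹ * v) * v⁻¹ * g⁻¹ := by rw [(c.comm_k hv (inv_mem hk)).eq]
    _ = ⁅k, g⁆ := by rw [commutatorElement_def]; group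

/-- An element centralizes the commutators of `K` with `g`. -/
def Fix (g : G) (u : G) : Prop := ∀ k ∈ K, Commute ⁅k, g⁆ u

omit c in
theorem fix_iff (g u : G) : Fix (K := K) g u ↔ ∀ k ∈ K, ⁅k, g⁆ * u = u * ⁅k, g⁆ := Iff.rfl

theorem fix_v {g v : G} (hg : g ∈ E) (hv : v ∈ V) : Fix (K := K) g v := fun k hk =>
  (c.comm_k hv (c.commutator_k hg hk)).symm

/-- The centralizer of `E` modulo `V`. -/
def cent : Subgroup G where
  carrier := {u | u ∈ U ∧ ∀ g ∈ E, ⁅g, u⁆ ∈ V}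
  one_mem' := ⟨one_mem _, fun g _ => by rw [commutatorElement_one_right]; exact one_mem _⟩
  mul_mem' := by
    rintro a b ⟨ha, ha'⟩ ⟨hb, hb'⟩
    refine ⟨mul_mem ha hb, fun g hg => ?_⟩
    have e : ⁅g, a * b⁆ = ⁅g, a⁆ * (a * ⁅g, b⁆ * a⁻¹) := by simp only [commutatorElement_def]; group
    rw [e]
    exact mul_mem (ha' g hg) (c.v_conj a (hb' g hg))
  inv_mem' := by
    rintro a ⟨ha, ha'⟩
    refine ⟨inv_mem ha, fun g hg => ?_⟩
    have e : ⁅g, a⁻¹⁆ = a⁻¹ * ⁅g, a⁆⁻¹ * a⁻¹⁻¹ := by simp only [commutatorElement_def]; group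
    rw [e]
    exact c.v_conj _ (inv_mem (ha' g hg))

theorem cent_le : c.cent ≤ U := fun _ h => h.1

theorem v_le_cent : V ≤ c.cent := fun v hv => ⟨c.v_le hv, fun g hg => by
  rw [commutatorElement_eq_one_iff_commute.mpr (c.comm_e hv hg).symm]; exact one_mem _⟩

theorem commutator_mul_left {g h a : G} (hg : g ∈ E) (hh : h ∈ E) (ha : a ∈ c.cent) :
    ⁅g * h, a⁆ = ⁅h, a⁆ * ⁅g, a⁆ := by
  have e : ⁅g * h, a⁆ = g * ⁅h, a⁆ * g⁻¹ * ⁅g, a⁆ := by simp only [commutatorElement_def]; group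
  rw [e, c.conj_e (ha.2 h hh) hg]

theorem commutator_mul_right {g a b : G} (hg : g ∈ E) (ha : a ∈ c.cent) (hb : b ∈ c.cent) :
    ⁅g, a * b⁆ = ⁅g, a⁆ * ⁅g, b⁆ := by
  have e : ⁅g, a * b⁆ = ⁅g, a⁆ * (a * ⁅g, b⁆ * a⁻¹) := by simp only [commutatorElement_def]; group
  rw [e, ← (c.comm_u (hb.2 g hg) ha.1).eq, mul_inv_cancel_right]

theorem u_commutator_mul_right {a b d : G} (ha : a ∈ U) (hb : b ∈ U) (hd : d ∈ U) :
    ⁅a, b * d⁆ = ⁅a, b⁆ * ⁅a, d⁆ := by
  have e : ⁅a, b * d⁆ = ⁅a, b⁆ * (b * ⁅a, d⁆ * b⁻¹) := by simp only [commutatorElement_def]; group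
  rw [e, ← (c.comm_u (c.u_commutator a ha d hd) hb).eq, mul_inv_cancel_right]

theorem u_commutator_mul_left {a b d : G} (ha : a ∈ U) (hb : b ∈ U) (hd : d ∈ U) :
    ⁅a * b, d⁆ = ⁅b, d⁆ * ⁅a, d⁆ := by
  have e : ⁅a * b, d⁆ = a * ⁅b, d⁆ * a⁻¹ * ⁅a, d⁆ := by simp only [commutatorElement_def]; group
  rw [e, ← (c.comm_u (c.u_commutator b hb d hd) ha).eq, mul_inv_cancel_right]

/-- The square of a product. -/
theorem sq_mul {a b : G} (ha : a ∈ U) (hb : b ∈ U) : a * b * (a * b) = a * a * (b * b) * ⁅b, a⁆ := by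
  have h1 := c.comm_u (c.u_commutator b hb a ha) hb
  calc a * b * (a * b) = a * (b * a) * b := by group
    _ = a * (⁅b, a⁆ * a * b) * b := by rw [commutatorElement_def]; group
    _ = a * ⁅b, a⁆ * (a * b * b) := by group
    _ = ⁅b, a⁆ * (a * a * (b * b)) := by rw [← (c.comm_u (c.u_commutator b hb a ha) ha).eq]; group
    _ = _ := (c.comm_u (c.u_commutator b hb a ha) (mul_mem (mul_mem ha ha) (mul_mem hb hb))).eq

/-- No square of an element of `E` outside `V` is the value `g a g⁻¹ a`. -/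
theorem sigma_ne {g a : G} (hg : g ∈ E) (hgV : g ∉ V) (ha : a ∈ U) : g * a * g⁻¹ * a ≠ g * g := by
  intro h
  have h0 := c.comm_u (c.e_sq g hg) ha
  have h1 : g⁻¹ * a * g = g * a * g⁻¹ := by
    calc g⁻¹ * a * g = g⁻¹ * (a * (g * g)) * g⁻¹ := by group
      _ = g⁻¹ * (g * g * a) * g⁻¹ := by rw [h0.eq]
      _ = g * a * g⁻¹ := by group
  have h2 : g * a * (g * a) = 1 := by
    calc g * a * (g * a) = g * g * (g⁻¹ * a * g * a) := by group
      _ = g * g * (g * g) := by rw [h1, h]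
      _ = 1 := c.v_exp _ (c.e_sq g hg)
  have h3 := c.v_le (c.involution _ (mul_mem (mem_sup_right hg) (mem_sup_left ha)) h2)
  exact hgV (c.e_inf g hg (by simpa using mul_mem h3 (inv_mem ha)))

/-- The image of `U` modulo `V` is elementary abelian. -/
theorem image_comm [V.Normal] (a b : ↥(U.map (QuotientGroup.mk' V))) : a * b = b * a := by
  obtain ⟨_, x, hx, rfl⟩ := a
  obtain ⟨_, y, hy, rfl⟩ := b
  refine Subtype.ext ?_
  show QuotientGroup.mk' V x * QuotientGroup.mk' V y = QuotientGroup.mk' V y * QuotientGroup.mk' V x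
  rw [← map_mul, ← map_mul]
  refine QuotientGroup.eq.mpr ?_
  rw [show (x * y)⁻¹ * (y * x) = ⁅y⁻¹, x⁻¹⁆ by simp [commutatorElement_def, mul_assoc]]
  exact c.u_commutator _ (inv_mem hy) _ (inv_mem hx)

/-- Elements centralized modulo `V` by the commutators with `g` are centralized. -/
theorem fix_of_mod {g u : G} (hg : g ∈ E) (hu : u ∈ U) (h : ∀ r ∈ c.rad g hg, ⁅u, r⁆ ∈ V) :
    Fix (K := K) g u := by
  have := c.uNormal
  have := c.vNormal
  have hUp : IsPGroup 2 U := c.two_group.to_le le_sup_left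
  have hR : Nat.Coprime (Nat.card (c.rad g hg)) (Nat.card U) := by
    obtain ⟨n, hn⟩ := IsPGroup.iff_card.mp hUp
    rw [hn]
    exact (Nat.coprime_two_right.mpr (c.rad_odd hg)).pow_right n
  obtain ⟨v, hv, d, hd, rfl⟩ := Coprime.exists_mul_centralizer_of_commutator_mem
    (A := c.rad g hg) (by rw [normalizer_eq_top]; exact le_top) hR
    (Or.inr (haveI := hUp.isNilpotent; inferInstance)) c.v_le (by rw [normalizer_eq_top]; exact le_top) hu h
  intro k hk
  exact ((c.comm_k hv (c.commutator_k hg hk)).symm).mul_right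
    (mem_centralizer_iff.mp (mem_inf.mp hd).2 ⁅k, g⁆ ⟨k, hk, rfl⟩)

/-- Such elements of `U` fixed by `g` modulo `V` commute with `g`. -/
theorem commute_of_fix {g m : G} (hg : g ∈ E) (hm : m ∈ U) (hfix : Fix (K := K) g m) (hmg : ⁅g, m⁆ ∈ V) :
    ⁅g, m⁆ = 1 := by
  have := c.uNormal
  have := c.vNormal
  let A : Subgroup G :=
    { carrier := {u | u ∈ U ∧ Fix (K := K) g u ∧ ⁅g, u⁆ ∈ V}
      one_mem' := ⟨one_mem _, fun k _ => Commute.one_right _, by rw [commutatorElement_one_right]; exact one_mem _⟩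
      mul_mem' := by
        rintro a b ⟨ha, fa, ha'⟩ ⟨hb, fb, hb'⟩
        refine ⟨mul_mem ha hb, fun k hk => (fa k hk).mul_right (fb k hk), ?_⟩
        have e : ⁅g, a * b⁆ = ⁅g, a⁆ * (a * ⁅g, b⁆ * a⁻¹) := by simp only [commutatorElement_def]; group
        rw [e]
        exact mul_mem ha' (c.v_conj a hb')
      inv_mem' := by
        rintro a ⟨ha, fa, ha'⟩
        refine ⟨inv_mem ha, fun k hk => (fa k hk).inv_right, ?_⟩
        have e : ⁅g, a⁻¹⁆ = a⁻¹ * ⁅g, a⁆⁻¹ * a⁻¹⁻¹ := by simp only [commutatorElement_def]; group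
        rw [e]
        exact c.v_conj _ (inv_mem ha') }
  have hAU : A ≤ U := fun _ h => h.1
  have hmul : ∀ a ∈ A, ∀ b ∈ A, ⁅g, a * b⁆ = ⁅g, a⁆ * ⁅g, b⁆ := by
    intro a ha b hb
    have e : ⁅g, a * b⁆ = ⁅g, a⁆ * (a * ⁅g, b⁆ * a⁻¹) := by simp only [commutatorElement_def]; group
    rw [e, ← (c.comm_u hb.2.2 ha.1).eq, mul_inv_cancel_right]
  have hk : ∀ k ∈ K, ∀ a ∈ A, k * a * k⁻¹ ∈ A ∧ ⁅g, k * a * k⁻¹⁆ = ⁅g, a⁆ := by
    intro k hk a ha
    have hr := c.commutator_k hg (inv_mem hk)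
    have hra : ⁅k⁻¹, g⁆ * a = a * ⁅k⁻¹, g⁆ := ha.2.1 k⁻¹ (inv_mem hk)
    set r := ⁅k⁻¹, g⁆ with hrdef
    have e2 : ⁅r * g, a⁆ = ⁅g, a⁆ := by
      calc ⁅r * g, a⁆ = r * ⁅g, a⁆ * (a * r⁻¹ * a⁻¹) := by simp only [commutatorElement_def]; group
        _ = r * ⁅g, a⁆ * r⁻¹ := by
          rw [← (show Commute r a from hra).inv_left.eq]; group
        _ = ⁅g, a⁆ := by rw [← (c.comm_k ha.2.2 hr).eq, mul_inv_cancel_right]
    have e1 : ⁅g, k * a * k⁻¹⁆ = ⁅g, a⁆ := by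
      calc ⁅g, k * a * k⁻¹⁆ = k * ⁅r * g, a⁆ * k⁻¹ := by simp only [hrdef, commutatorElement_def]; group
        _ = ⁅g, a⁆ := by rw [e2, ← (c.comm_k ha.2.2 hk).eq, mul_inv_cancel_right]
    refine ⟨⟨c.u_conj k ha.1, fun l hl => ?_, e1.symm ▸ ha.2.2⟩, e1⟩
    have h1 := c.k_comm _ (c.commutator_k hg hl) k hk
    exact (h1.mul_right (ha.2.1 l hl)).mul_right h1.inv_right
  let Ker : Subgroup G :=
    { carrier := {a | a ∈ A ∧ ⁅g, a⁆ = 1}
      one_mem' := ⟨one_mem A, commutatorElement_one_right g⟩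
      mul_mem' := fun {a b} ha hb => ⟨mul_mem ha.1 hb.1, by rw [hmul a ha.1 b hb.1, ha.2, hb.2, one_mul]⟩
      inv_mem' := fun {a} ha => ⟨inv_mem ha.1, by
        have h := hmul a ha.1 a⁻¹ (inv_mem ha.1)
        rw [mul_inv_cancel, commutatorElement_one_right, ha.2, one_mul] at h
        exact h.symm⟩ }
  have hKA : K ≤ normalizer (A : Set G) := by
    intro k hk'
    refine mem_normalizer_iff.mpr fun a => ⟨fun ha => (hk k hk' a ha).1, fun ha => ?_⟩
    have h := (hk k⁻¹ (inv_mem hk') _ ha).1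
    rwa [show k⁻¹ * (k * a * k⁻¹) * k⁻¹⁻¹ = a by group] at h
  have hcl : ⁅A, K⁆ ≤ Ker := by
    rw [Subgroup.commutator_le]
    intro a ha k hk'
    have h1 := hk k hk' a⁻¹ (inv_mem ha)
    have e : ⁅a, k⁆ = a * (k * a⁻¹ * k⁻¹) := by rw [commutatorElement_def]; group
    rw [e]
    refine ⟨mul_mem ha h1.1, ?_⟩
    rw [hmul a ha _ h1.1, h1.2, ← hmul a ha _ (inv_mem ha), mul_inv_cancel, commutatorElement_one_right]
  have hAp : IsPGroup 2 A := c.two_group.to_le (hAU.trans le_sup_left)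
  have hcop : Nat.Coprime (Nat.card K) (Nat.card A) := by
    obtain ⟨n, hn⟩ := IsPGroup.iff_card.mp hAp
    rw [hn]
    exact (Nat.coprime_two_right.mpr c.k_odd).pow_right n
  obtain ⟨n, hn, d, hd, e⟩ := Coprime.le_commutator_sup_centralizer hKA hcop
    (Or.inr (haveI := hAp.isNilpotent; inferInstance)) (show m ∈ A from ⟨hm, hfix, hmg⟩)
  obtain ⟨hdA, hdC⟩ := mem_inf.mp hd
  have hdV : d ∈ V := c.k_fpf d hdA.1 fun k hk' => mem_centralizer_iff.mp hdC k hk'
  rw [e, hmul n (hcl hn).1 d hdA, (hcl hn).2, one_mul,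
    commutatorElement_eq_one_iff_commute.mpr (c.comm_e hdV hg).symm]

/-- The component of an element centralizing the commutators of `K` with `g`. -/
theorem exists_proj {g : G} (hg : g ∈ E) : ∃ π : G → G,
    (∀ a ∈ c.cent, π a ∈ c.cent ∧ Fix (K := K) g (π a) ∧ g * a * g⁻¹ * a = π a * π a) ∧
    (∀ a ∈ c.cent, Fix (K := K) g a → a⁻¹ * π a ∈ V) ∧
    (∀ a ∈ c.cent, ∀ b ∈ c.cent, (π a * π b)⁻¹ * π (a * b) ∈ V) ∧
    (∀ a ∈ c.cent, ∀ h ∈ E, Fix (K := K) h a → Fix (K := K) h (π a)) := by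
  classical
  have := c.vNormal
  have := c.uNormal
  set φ := QuotientGroup.mk' V with hφdef
  have hφ := QuotientGroup.mk'_surjective V
  set Y := U.map φ with hYdef
  haveI : Y.Normal := c.uNormal.map φ hφ
  letI : CommGroup Y := { (inferInstance : Group Y) with mul_comm := c.image_comm }
  set R := c.rad g hg with hRdef
  letI := Fintype.ofFinite R
  let act : R →* MulAut Y := MulAut.conjNormal.comp (φ.comp R.subtype)
  have hact : ∀ (r : R) (y : Y), ((act r y : Y) : G ⧸ V) = φ r * y * (φ r)⁻¹ := fun r y => rfl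
  have hexp : ∀ y : Y, y * y = 1 := by
    rintro ⟨_, x, hx, rfl⟩
    refine Subtype.ext ?_
    show φ x * φ x = 1
    rw [← map_mul]
    exact (QuotientGroup.eq_one_iff _).mpr (c.u_sq x hx)
  have hodd := c.rad_odd hg
  -- lifts of the average
  have hlift : ∀ y : Y, ∃ m ∈ U, φ m = y := fun y => y.2
  choose lift hlift1 hlift2 using hlift
  let π : G → G := fun a => if ha : a ∈ U then lift (avg act ⟨φ a, mem_map_of_mem φ ha⟩) else 1
  have hπU : ∀ a, π a ∈ U := fun a => by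
    by_cases ha : a ∈ U
    · simp only [π, dif_pos ha]; exact hlift1 _
    · simp only [π, dif_neg ha]; exact one_mem _
  have hπφ : ∀ a (ha : a ∈ U), φ (π a) = (avg act ⟨φ a, mem_map_of_mem φ ha⟩ : Y) := fun a ha => by
    simp only [π, dif_pos ha]; exact hlift2 _
  have heq : ∀ x y : G, φ x = φ y ↔ x⁻¹ * y ∈ V := fun x y => QuotientGroup.eq
  -- commutation with elements normalizing `R`
  have hnorm : ∀ (x : G) (σ : R ≃ R), (∀ r : R, (σ r : G) = x * r * x⁻¹) → ∀ a (ha : a ∈ U),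
      φ (x * π a * x⁻¹) = (avg act ⟨φ (x * a * x⁻¹), mem_map_of_mem φ (c.u_conj x ha)⟩ : Y) := by
    intro x σ hσ a ha
    have h := avg_comm act (MulAut.conjNormal (φ x)) σ (fun r y => Subtype.ext (by
      show φ x * (φ r * y * (φ r)⁻¹) * (φ x)⁻¹ = φ (σ r) * (φ x * y * (φ x)⁻¹) * (φ (σ r))⁻¹
      rw [hσ r, map_mul, map_mul, map_inv]; group)) ⟨φ a, mem_map_of_mem φ ha⟩
    rw [map_mul, map_mul, map_inv, hπφ a ha]
    exact (congrArg Subtype.val h).trans (congrArg (fun z : Y => ((avg act z : Y) : G ⧸ V))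
      (Subtype.ext (by show φ x * φ a * (φ x)⁻¹ = φ (x * a * x⁻¹); rw [map_mul, map_mul, map_inv])))
  have hfixR : ∀ a, a ∈ U → Fix (K := K) g (π a) := by
    intro a ha
    refine c.fix_of_mod hg (hπU a) fun r hr => ?_
    rw [← QuotientGroup.eq_one_iff]
    show φ ⁅π a, r⁆ = 1
    rw [map_commutatorElement, commutatorElement_eq_one_iff_mul_comm, hπφ a ha]
    have h := congrArg Subtype.val (act_avg act ⟨r, hr⟩ ⟨φ a, mem_map_of_mem φ ha⟩)
    rw [hact] at h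
    exact (mul_inv_eq_iff_eq_mul.mp h).symm
  refine ⟨π, fun a ha => ?_, fun a ha hfa => ?_, fun a ha b hb => ?_, fun a ha h hh hfa k hk => ?_⟩
  · have hC : π a ∈ c.cent := by
      refine ⟨hπU a, fun h hh => ?_⟩
      have hinv : ∀ (h : G), h ∈ E → ∀ r ∈ R, h * r * h⁻¹ ∈ R := by
        rintro h hh _ ⟨k, hk, rfl⟩
        refine ⟨h * k * h⁻¹, c.k_conj (c.e_norm hh) hk, ?_⟩
        calc ⁅h * k * h⁻¹, g⁆ = ⁅h * k * h⁻¹, g * ⁅g⁻¹, h⁆⁆ :=
              (c.rad_mul_v hg (c.e_commutator _ (inv_mem hg) _ hh) _ (c.k_conj (c.e_norm hh) hk)).symm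
          _ = h * ⁅k, g⁆ * h⁻¹ := by simp only [commutatorElement_def]; group
      let σ : R ≃ R :=
        { toFun := fun r => ⟨h * r * h⁻¹, hinv h hh r r.2⟩
          invFun := fun r => ⟨h⁻¹ * r * h⁻¹⁻¹, hinv h⁻¹ (inv_mem hh) r r.2⟩
          left_inv := fun r => Subtype.ext (by show h⁻¹ * (h * r * h⁻¹) * h⁻¹⁻¹ = (r : G); group)
          right_inv := fun r => Subtype.ext (by show h * (h⁻¹ * r * h⁻¹⁻¹) * h⁻¹ = (r : G); group) }
      have h1 := hnorm h σ (fun r => rfl) a ha.1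
      have h2 : φ (h * a * h⁻¹) = φ a := by
        rw [heq]
        have h3 := c.v_conj a⁻¹ (inv_mem (ha.2 h hh))
        rwa [show a⁻¹ * ⁅h, a⁆⁻¹ * a⁻¹⁻¹ = (h * a * h⁻¹)⁻¹ * a by
          rw [commutatorElement_def]; group] at h3
      have h3 : φ (h * π a * h⁻¹) = φ (π a) := by
        rw [h1, hπφ a ha.1]
        congr 2
        exact Subtype.ext h2
      rw [heq] at h3
      have h4 := c.v_conj (π a) (inv_mem h3)
      rwa [show π a * ((h * π a * h⁻¹)⁻¹ * π a)⁻¹ * (π a)⁻¹ = ⁅h, π a⁆ by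
        simp only [commutatorElement_def]; group] at h4
    refine ⟨hC, hfixR a ha.1, ?_⟩
    obtain ⟨b, hb⟩ := exists_avg_mul act hodd hexp (MulAut.conjNormal (φ g)) (fun r y => Subtype.ext (by
      show φ g * (φ r * y * (φ r)⁻¹) * (φ g)⁻¹ =
        φ (r⁻¹ : R) * (φ g * y * (φ g)⁻¹) * (φ (r⁻¹ : R))⁻¹
      rw [InvMemClass.coe_inv, ← c.rad_inverted hg r.2, map_mul, map_mul, map_inv]; group))
      (a := (⟨φ a, mem_map_of_mem φ ha.1⟩ : Y)) (Subtype.ext (by
        show φ g * φ a * (φ g)⁻¹ = φ a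
        rw [← map_inv, ← map_mul, ← map_mul, heq]
        have h3 := c.v_conj a⁻¹ (inv_mem (ha.2 g hg))
        rwa [show a⁻¹ * ⁅g, a⁆⁻¹ * a⁻¹⁻¹ = (g * a * g⁻¹)⁻¹ * a by
          rw [commutatorElement_def]; group] at h3))
    set b₀ := lift b
    have hb₀ : b₀ ∈ U := hlift1 b
    set m := π a with hm
    set b' := g * b₀ * g⁻¹ with hb'
    have hb'U : b' ∈ U := c.u_conj g hb₀
    have hm1 : m ∈ U := hπU a
    have hgm : g * m * g⁻¹ = m := by
      have h := c.commute_of_fix hg hm1 (hfixR a ha.1) (hC.2 g hg)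
      rwa [commutatorElement_def, mul_inv_eq_one] at h
    have hv : (m * (b₀ * b'))⁻¹ * a ∈ V := by
      rw [← heq, map_mul, map_mul, hm, hπφ a ha.1, hlift2, hb', map_mul, map_mul, map_inv, hlift2]
      exact (congrArg Subtype.val hb).symm
    set v := (m * (b₀ * b'))⁻¹ * a with hvdef
    have ha' : a = m * (b₀ * b') * v := by rw [hvdef, mul_inv_cancel_left]
    have hgb' : g * b' * g⁻¹ = b₀ := by
      calc g * b' * g⁻¹ = g * g * b₀ * (g * g)⁻¹ := by rw [hb']; group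
        _ = b₀ := by rw [(c.comm_u (c.e_sq g hg) hb₀).eq, mul_inv_cancel_right]
    have hga : g * a * g⁻¹ = m * (b' * b₀) * v := by
      rw [ha']
      calc g * (m * (b₀ * b') * v) * g⁻¹ = g * m * g⁻¹ * ((g * b₀ * g⁻¹) * (g * b' * g⁻¹)) * (g * v * g⁻¹) := by
            group
        _ = m * (b' * b₀) * v := by rw [hgm, hgb', c.conj_e hv hg, ← hb']
    have horth : ⁅m, b' * b₀⁆ = 1 := by
      rw [c.u_commutator_mul_right hm1 hb'U hb₀]
      have : ⁅m, b'⁆ = ⁅m, b₀⁆ := by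
        calc ⁅m, b'⁆ = g * ⁅g⁻¹ * (g * m * g⁻¹) * g, b₀⁆ * g⁻¹ := by
              rw [hgm, hb']; simp only [commutatorElement_def]; group
          _ = g * ⁅m, b₀⁆ * g⁻¹ := by congr 3; group
          _ = ⁅m, b₀⁆ := c.conj_e (c.u_commutator m hm1 b₀ hb₀) hg
      rw [this, c.v_exp _ (c.u_commutator m hm1 b₀ hb₀)]
    have hw : Commute m (b' * b₀) := commutatorElement_eq_one_iff_commute.mp horth
    have hbb : b' * b₀ * (b₀ * b') = 1 := by
      have hs := c.u_sq b₀ hb₀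
      calc b' * b₀ * (b₀ * b') = b' * (b₀ * b₀) * b' := by group
        _ = b₀ * b₀ * (b' * b') := by rw [← (c.comm_u hs hb'U).eq]; group
        _ = b₀ * b₀ * (g * (b₀ * b₀) * g⁻¹) := by rw [hb']; group
        _ = 1 := by rw [c.conj_e hs hg, c.v_exp _ hs]
    have hvv : ∀ u ∈ U, v * u = u * v := fun u hu => (c.comm_u hv hu).eq
    rw [hga]
    calc m * (b' * b₀) * v * a = m * (b' * b₀) * v * (m * (b₀ * b') * v) := by rw [← ha']
      _ = m * (b' * b₀) * (v * (m * (b₀ * b'))) * v := by group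
      _ = m * ((b' * b₀) * m) * (b₀ * b') * (v * v) := by
          rw [hvv _ (mul_mem hm1 (mul_mem hb₀ hb'U))]; group
      _ = m * (m * (b' * b₀)) * (b₀ * b') := by rw [c.v_exp v hv, mul_one, hw.eq]
      _ = m * m * (b' * b₀ * (b₀ * b')) := by group
      _ = m * m := by rw [hbb, mul_one]
  · rw [← heq, hπφ a ha.1]
    refine (congrArg Subtype.val (avg_of_fixed act hodd hexp (y := (⟨φ a, mem_map_of_mem φ ha.1⟩ : Y)) fun r => Subtype.ext ?_)).symm
    obtain ⟨k, hk, hkr⟩ := r.2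
    show φ (r : G) * φ a * (φ (r : G))⁻¹ = φ a
    rw [← hkr, ← map_mul, show ⁅k, g⁆ * a = a * ⁅k, g⁆ from hfa k hk, map_mul, mul_inv_cancel_right]
  · rw [← heq, map_mul, hπφ a ha.1, hπφ b hb.1, hπφ _ (mul_mem ha.1 hb.1)]
    exact (congrArg Subtype.val
      (((congrArg (avg act) (Subtype.ext (map_mul φ a b) :
        (⟨φ (a * b), mem_map_of_mem φ (mul_mem ha.1 hb.1)⟩ : Y) =
          ⟨φ a, mem_map_of_mem φ ha.1⟩ * ⟨φ b, mem_map_of_mem φ hb.1⟩)).trans (map_mul _ _ _)))).symm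
  · refine c.fix_of_mod hh (hπU a) (fun r hr => ?_) k hk
    obtain ⟨l, hl, rfl⟩ := hr
    have hs : ∀ r' : R, ((Equiv.refl R r' : R) : G) = ⁅l, h⁆ * r' * ⁅l, h⁆⁻¹ := fun r' => by
      show (r' : G) = _
      rw [(c.k_comm _ (c.commutator_k hh hl) _ (c.rad_le hg r'.2)).eq, mul_inv_cancel_right]
    have h1 := hnorm ⁅l, h⁆ (Equiv.refl R) hs a ha.1
    have h2 : ⁅l, h⁆ * a * ⁅l, h⁆⁻¹ = a := by
      rw [show ⁅l, h⁆ * a = a * ⁅l, h⁆ from hfa l hl, mul_inv_cancel_right]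
    have h3 : φ (⁅l, h⁆ * π a * ⁅l, h⁆⁻¹) = φ (π a) := by
      rw [h1, hπφ a ha.1]
      congr 2
      exact Subtype.ext (congrArg φ h2)
    rw [← QuotientGroup.eq_one_iff]
    show φ ⁅π a, ⁅l, h⁆⁆ = 1
    rw [map_mul, map_mul, map_inv, mul_inv_eq_iff_eq_mul] at h3
    rw [map_commutatorElement, commutatorElement_eq_one_iff_mul_comm, h3]

theorem cent_conj {x a : G} (hx : x ∈ X) (ha : a ∈ c.cent) : x * a * x⁻¹ ∈ c.cent := by
  refine ⟨c.u_conj x ha.1, fun g hg => ?_⟩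
  have h1 : x⁻¹ * g * x⁻¹⁻¹ ∈ E := (mem_normalizer_iff.mp (inv_mem (c.x_norm' hx)) g).mp hg
  have h := c.v_conj x (ha.2 _ h1)
  rwa [show x * ⁅x⁻¹ * g * x⁻¹⁻¹, a⁆ * x⁻¹ = ⁅g, x * a * x⁻¹⁆ by
    simp only [commutatorElement_def]; group] at h

theorem fix_conj {x g a : G} (hx : x ∈ X) (h : Fix (K := K) g a) :
    Fix (K := K) (x * g * x⁻¹) (x * a * x⁻¹) := by
  intro k hk
  have h2 := h _ (c.k_conj (inv_mem (c.x_norm hx)) hk)
  have e : ⁅k, x * g * x⁻¹⁆ = x * ⁅x⁻¹ * k * x⁻¹⁻¹, g⁆ * x⁻¹ := by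
    simp only [commutatorElement_def]; group
  rw [e]
  exact h2.map (MulAut.conj x).toMonoidHom

theorem exists_cent_not_mem : ∃ a ∈ c.cent, a ∉ V := by
  have := c.vNormal
  have := c.uNormal
  haveI : Fact (Nat.Prime 2) := ⟨Nat.prime_two⟩
  set φ := QuotientGroup.mk' V
  set Q := (U ⊔ E).map φ
  have hQ : IsPGroup 2 Q := c.two_group.map φ
  have hUQ : U.map φ ≤ Q := map_mono le_sup_left
  haveI : ((U.map φ).subgroupOf Q).Normal :=
    (c.uNormal.map φ (QuotientGroup.mk'_surjective V)).subgroupOf Q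
  obtain ⟨u, hu, huV⟩ := c.u_nontrivial
  have hne : (U.map φ).subgroupOf Q ≠ ⊥ := by
    intro h
    have h1 : (⟨φ u, hUQ (mem_map_of_mem φ hu)⟩ : Q) ∈ (U.map φ).subgroupOf Q :=
      mem_subgroupOf.mpr (mem_map_of_mem φ hu)
    rw [h, mem_bot] at h1
    exact huV ((QuotientGroup.eq_one_iff u).mp (congrArg Subtype.val h1))
  have hcen := Cfsg.Lib.PGroup.inf_center_ne_bot hQ (N := (U.map φ).subgroupOf Q) hne
  obtain ⟨⟨q, hqQ⟩, hq, hq1⟩ := (bot_or_exists_ne_one _).resolve_left hcen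
  obtain ⟨hqU, hqZ⟩ := mem_inf.mp hq
  obtain ⟨a, ha, rfl⟩ := mem_subgroupOf.mp hqU
  refine ⟨a, ⟨ha, fun g hg => ?_⟩, fun haV => hq1 (Subtype.ext ((QuotientGroup.eq_one_iff a).mpr haV))⟩
  rw [← QuotientGroup.eq_one_iff]
  show φ ⁅g, a⁆ = 1
  rw [map_commutatorElement, commutatorElement_eq_one_iff_mul_comm]
  exact congrArg Subtype.val (mem_center_iff.mp hqZ ⟨φ g, mem_map_of_mem φ (mem_sup_right hg)⟩)

theorem sq_ne_one {a : G} (ha : a ∈ c.cent) (haV : a ∉ V) : a * a ≠ 1 := fun h =>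
  haV (c.involution a (mem_sup_left ha.1) h)

theorem contradiction : False := by
  classical
  have := c.vNormal
  -- surjectivity of squaring on the centralizer
  obtain ⟨a₀, ha₀, ha₀V⟩ := c.exists_cent_not_mem
  have hsq : ∀ v ∈ V, v ≠ 1 → ∃ a ∈ c.cent, a ∉ V ∧ a * a = v := by
    intro v hv hv1
    obtain ⟨x, hx, he⟩ := c.transitive _ (c.u_sq a₀ ha₀.1) v hv (c.sq_ne_one ha₀ ha₀V) hv1
    refine ⟨x * a₀ * x⁻¹, c.cent_conj hx ha₀, fun h => ha₀V ?_, ?_⟩
    · have := c.v_conj x⁻¹ h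
      rwa [show x⁻¹ * (x * a₀ * x⁻¹) * x⁻¹⁻¹ = a₀ by group] at this
    · rw [← he]; group
  obtain ⟨g₀, hg₀, hg₀V⟩ := c.e_nontrivial
  have hg₀sq : g₀ * g₀ ≠ 1 := fun h => hg₀V (c.involution g₀ (mem_sup_right hg₀) h)
  -- nothing outside `V` is centralized by all the commutators
  have hC0 : ∀ a ∈ c.cent, (∀ g ∈ E, Fix (K := K) g a) → a ∈ V := by
    intro a ha hfix
    by_contra haV
    obtain ⟨x, hx, he⟩ := c.transitive _ (c.u_sq a ha.1) _ (c.e_sq g₀ hg₀) (c.sq_ne_one ha haV) hg₀sq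
    have hb := c.cent_conj hx ha
    have hfb : Fix (K := K) g₀ (x * a * x⁻¹) := by
      have h1 : x⁻¹ * g₀ * x⁻¹⁻¹ ∈ E := (mem_normalizer_iff.mp (inv_mem (c.x_norm' hx)) g₀).mp hg₀
      have h := c.fix_conj hx (hfix _ h1)
      rwa [show x * (x⁻¹ * g₀ * x⁻¹⁻¹) * x⁻¹ = g₀ by group] at h
    have hcomm := c.commute_of_fix hg₀ hb.1 hfb (hb.2 g₀ hg₀)
    rw [commutatorElement_def, mul_inv_eq_one] at hcomm
    refine c.sigma_ne hg₀ hg₀V hb.1 ?_
    rw [hcomm, ← he]; group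
  choose π hπ1 hπ2 hπ3 hπ4 using fun (g : G) (hg : g ∈ E) => c.exists_proj hg
  have hbeta : ∀ g (hg : g ∈ E), ∀ a ∈ c.cent, ∀ b ∈ c.cent, ⁅b, a⁆ = ⁅π g hg b, π g hg a⁆ := by
    intro g hg a ha b hb
    set ma := π g hg a
    set mb := π g hg b
    obtain ⟨hma, -, sa⟩ := hπ1 g hg a ha
    obtain ⟨hmb, -, sb⟩ := hπ1 g hg b hb
    obtain ⟨hmab, -, sab⟩ := hπ1 g hg (a * b) (mul_mem ha hb)
    have hv := hπ3 g hg a ha b hb
    set v := (ma * mb)⁻¹ * π g hg (a * b) with hvdef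
    have e1 : π g hg (a * b) = ma * mb * v := by rw [hvdef, mul_inv_cancel_left]
    have hmU : ma * mb ∈ U := mul_mem hma.1 hmb.1
    have e2 : π g hg (a * b) * π g hg (a * b) = ma * ma * (mb * mb) * ⁅mb, ma⁆ := by
      rw [e1, ← c.sq_mul hma.1 hmb.1]
      calc ma * mb * v * (ma * mb * v) = ma * mb * (v * (ma * mb)) * v := by group
        _ = ma * mb * (ma * mb) * (v * v) := by rw [(c.comm_u hv hmU).eq]; simp only [mul_assoc]
        _ = _ := by rw [c.v_exp v hv, mul_one]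
    have hsig : ∀ z ∈ c.cent, g * z * g⁻¹ * z = ⁅g, z⁆ * (z * z) := fun z _ => by
      rw [commutatorElement_def]; group
    rw [hsig _ (mul_mem ha hb), c.commutator_mul_right hg ha hb, e2, c.sq_mul ha.1 hb.1] at sab
    rw [hsig a ha] at sa
    rw [hsig b hb] at sb
    rw [← sa, ← sb] at sab
    have hc : Commute ⁅g, b⁆ (a * a) := c.comm_u (hb.2 g hg) (mul_mem ha.1 ha.1)
    have e3 : ⁅g, a⁆ * ⁅g, b⁆ * (a * a * (b * b) * ⁅b, a⁆) =
        ⁅g, a⁆ * (a * a) * (⁅g, b⁆ * (b * b)) * ⁅b, a⁆ := by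
      calc _ = ⁅g, a⁆ * (⁅g, b⁆ * (a * a)) * (b * b) * ⁅b, a⁆ := by group
        _ = _ := by rw [hc.eq]; group
    rw [e3] at sab
    exact mul_left_cancel sab
  have hcomm : ∀ a ∈ c.cent, ∀ b ∈ c.cent, ⁅b, a⁆ = 1 := by
    have key : ∀ L : Finset G, (∀ g ∈ L, g ∈ E) → ∀ a ∈ c.cent, ∀ b ∈ c.cent,
        ∃ a' ∈ c.cent, ∃ b' ∈ c.cent, ⁅b, a⁆ = ⁅b', a'⁆ ∧
          ∀ g ∈ L, Fix (K := K) g a' ∧ Fix (K := K) g b' := by
      intro L
      induction L using Finset.induction_on with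
      | empty => intro _ a ha b hb; exact ⟨a, ha, b, hb, rfl, by simp⟩
      | @insert g L _ ih =>
        intro hL a ha b hb
        obtain ⟨a', ha', b', hb', he, hf⟩ := ih (fun h hh => hL h (Finset.mem_insert_of_mem hh)) a ha b hb
        have hg := hL g (Finset.mem_insert_self g L)
        refine ⟨_, (hπ1 g hg a' ha').1, _, (hπ1 g hg b' hb').1, he.trans (hbeta g hg a' ha' b' hb'), ?_⟩
        intro h hh
        rcases Finset.mem_insert.mp hh with rfl | hh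
        · exact ⟨(hπ1 h hg a' ha').2.1, (hπ1 h hg b' hb').2.1⟩
        · exact ⟨hπ4 g hg a' ha' h (hL h (Finset.mem_insert_of_mem hh)) (hf h hh).1,
            hπ4 g hg b' hb' h (hL h (Finset.mem_insert_of_mem hh)) (hf h hh).2⟩
    intro a ha b hb
    haveI := Fintype.ofFinite E
    obtain ⟨a', ha', b', hb', he, hf⟩ :=
      key (Finset.univ.map ⟨fun g : E => (g : G), Subtype.val_injective⟩) (by simp) a ha b hb
    have haV := hC0 a' ha' fun g hg => (hf g (Finset.mem_map.mpr ⟨⟨g, hg⟩, Finset.mem_univ _, rfl⟩)).1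
    rw [he, commutatorElement_eq_one_iff_commute]
    exact (c.comm_u haV hb'.1).symm
  -- the number of elements of `E` fixing
  let Γ : G → ℕ := fun a => Nat.card {g : E // Fix (K := K) (g : G) a}
  have hΓconj : ∀ a ∈ c.cent, ∀ b ∈ c.cent, a ∉ V → b ∉ V → Γ a ≤ Γ b := by
    intro a ha b hb haV hbV
    obtain ⟨x, hx, he⟩ := c.transitive _ (c.u_sq a ha.1) _ (c.u_sq b hb.1) (c.sq_ne_one ha haV)
      (c.sq_ne_one hb hbV)
    set a' := x * a * x⁻¹
    have ha' := c.cent_conj hx ha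
    have hv : a'⁻¹ * b ∈ V := by
      refine c.involution _ (mem_sup_left (mul_mem (inv_mem ha'.1) hb.1)) ?_
      rw [c.sq_mul (inv_mem ha'.1) hb.1, hcomm _ (inv_mem ha') _ hb, mul_one, ← he,
        show a'⁻¹ * a'⁻¹ = (x * (a * a) * x⁻¹)⁻¹ by simp only [a']; group, inv_mul_cancel]
    refine Nat.card_le_card_of_injective
      (fun g => ⟨⟨x * g.1 * x⁻¹, (mem_normalizer_iff.mp (c.x_norm' hx) _).mp g.1.2⟩, fun k hk => ?_⟩) ?_
    · have h1 := c.fix_conj hx g.2 k hk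
      have hgE : x * (g.1 : G) * x⁻¹ ∈ E := (mem_normalizer_iff.mp (c.x_norm' hx) _).mp g.1.2
      have h2 := h1.mul_right (c.fix_v hgE hv k hk)
      rwa [mul_inv_cancel_left] at h2
    · intro g h e
      have e' : x * (g.1 : G) * x⁻¹ = x * (h.1 : G) * x⁻¹ :=
        congrArg (fun z : {g : E // Fix (K := K) (g : G) b} => ((z.1 : E) : G)) e
      exact Subtype.ext (Subtype.ext (mul_left_cancel (mul_right_cancel e')))
  have hatom : ∀ g (hg : g ∈ E), ∀ a ∈ c.cent, a ∉ V → π g hg a ∉ V → Fix (K := K) g a := by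
    intro g hg a ha haV hmV
    by_contra hna
    obtain ⟨hm, hmf, -⟩ := hπ1 g hg a ha
    have hlt : Γ a < Γ (π g hg a) := by
      let f : {h : E // Fix (K := K) (h : G) a} → {h : E // Fix (K := K) (h : G) (π g hg a)} :=
        fun h => ⟨h.1, hπ4 g hg a ha _ h.1.2 h.2⟩
      refine (Nat.card_le_card_of_injective f fun p q e => Subtype.ext (congrArg Subtype.val e :)).lt_of_ne
        fun hcard => ?_
      have hinj : Function.Injective f := fun p q e => Subtype.ext (congrArg Subtype.val e :)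
      obtain ⟨⟨h, hh⟩, he⟩ := (Nat.bijective_iff_injective_and_card f).mpr ⟨hinj, hcard⟩ |>.2 ⟨⟨g, hg⟩, hmf⟩
      have e : h = ⟨g, hg⟩ := congrArg Subtype.val he
      rw [e] at hh
      exact hna hh
    exact absurd (hΓconj _ hm a ha hmV haV) (not_le.mpr hlt)
  have hside : ∀ g (hg : g ∈ E), g ∉ V → ∀ a ∈ c.cent, g * a * g⁻¹ * a = 1 := by
    intro g hg hgV a ha
    by_cases haV : a ∈ V
    · rw [c.conj_e haV hg, c.v_exp a haV]
    obtain ⟨hm, -, hs⟩ := hπ1 g hg a ha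
    by_contra hne
    have hmV : π g hg a ∉ V := fun h => hne (hs.trans (c.v_exp _ h))
    have hfa := hatom g hg a ha haV hmV
    -- all elements are then centralized
    have hall : ∀ b ∈ c.cent, Fix (K := K) g b := by
      intro b hb
      by_cases hbV : b ∈ V
      · exact c.fix_v hg hbV
      by_contra hnb
      have hπb : π g hg b ∈ V := by_contra fun h => hnb (hatom g hg b hb hbV h)
      have hab : ¬ Fix (K := K) g (a * b) := fun h => hnb fun k hk => by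
        have := ((hfa k hk).inv_right).mul_right (h k hk)
        rwa [inv_mul_cancel_left] at this
      have habV : a * b ∉ V := fun h => hab (c.fix_v hg h)
      have hπab : π g hg (a * b) ∈ V := by_contra fun h => hab (hatom g hg _ (mul_mem ha hb) habV h)
      have h3 := hπ3 g hg a ha b hb
      refine hmV ?_
      have h4 : π g hg a * π g hg b ∈ V := by
        have h5 := mul_mem hπab (inv_mem h3)
        rwa [show π g hg (a * b) * ((π g hg a * π g hg b)⁻¹ * π g hg (a * b))⁻¹ =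
          π g hg a * π g hg b by group] at h5
      have h6 := mul_mem h4 (inv_mem hπb)
      rwa [mul_inv_cancel_right] at h6
    have hgsq : g * g ≠ 1 := fun h => hgV (c.involution g (mem_sup_right hg) h)
    obtain ⟨b, hb, -, hbb⟩ := hsq _ (c.e_sq g hg) hgsq
    have hcm := c.commute_of_fix hg hb.1 (hall b hb) (hb.2 g hg)
    rw [commutatorElement_def, mul_inv_eq_one] at hcm
    exact c.sigma_ne hg hgV hb.1 (by rw [hcm, hbb])
  -- two elements of `E` with distinct squares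
  obtain ⟨v, hv, w, hw, hv1, hw1, hvw⟩ := c.two_elements
  have hget : ∀ v ∈ V, v ≠ 1 → ∃ g ∈ E, g ∉ V ∧ g * g = v := by
    intro v hv hv1
    obtain ⟨x, hx, he⟩ := c.transitive _ (c.e_sq g₀ hg₀) v hv hg₀sq hv1
    refine ⟨x * g₀ * x⁻¹, (mem_normalizer_iff.mp (c.x_norm' hx) _).mp hg₀, fun h => hg₀V ?_, ?_⟩
    · have := c.v_conj x⁻¹ h
      rwa [show x⁻¹ * (x * g₀ * x⁻¹) * x⁻¹⁻¹ = g₀ by group] at this
    · rw [← he]; group
  obtain ⟨g, hg, hgV, hgv⟩ := hget v hv hv1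
  obtain ⟨h, hh, hhV, hhw⟩ := hget w hw hw1
  have hghV : g * h ∉ V := by
    intro hu
    apply hvw
    set u := g * h
    have hsq : h * h = (g * g)⁻¹ := by
      calc h * h = g⁻¹ * u * (g⁻¹ * u) := by simp [u]
        _ = g⁻¹ * (u * g⁻¹) * u := by group
        _ = g⁻¹ * (g⁻¹ * u) * u := by rw [(c.comm_e hu (inv_mem hg)).eq]
        _ = g⁻¹ * g⁻¹ * (u * u) := by group
        _ = (g * g)⁻¹ := by rw [c.v_exp u hu]; group
    rw [← hgv, ← hhw, hsq, c.inv_eq (c.e_sq g hg)]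
  have hlam : ∀ g ∈ E, g ∉ V → ⁅g, a₀⁆ = a₀ * a₀ := by
    intro g hg hgV
    have h1 := hside g hg hgV a₀ ha₀
    have h2 : ⁅g, a₀⁆ * (a₀ * a₀) = 1 := by rw [← h1, commutatorElement_def]; group
    exact (eq_inv_of_mul_eq_one_left h2).trans (c.inv_eq (c.u_sq a₀ ha₀.1))
  have h1 := c.commutator_mul_left hg hh ha₀
  rw [hlam g hg hgV, hlam h hh hhV, hlam _ (mul_mem hg hh) hghV, c.v_exp _ (c.u_sq a₀ ha₀.1)] at h1
  exact c.sq_ne_one ha₀ ha₀V h1

end Config

end Cfsg.Lib.TwoGroup.OneClass
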