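import Cfsg.Agent.Lib.TwoGroup.SuzukiBase
import Mathlib.Algebra.Field.IsField
import Mathlib.Algebra.CharP.Basic

/-!
# The involutions as a field

An abelian group of automorphisms transitive on the involutions gives the elementary abelian
group they form the structure of a field, the automorphisms acting by multiplications.
-/

set_option autoImplicit false
set_option linter.unusedSectionVars false

namespace Cfsg.Lib.Suzuki2

open Cfsg.Agent.S1137

universe u

variable {P : Type u} [Group P] [Finite P] {K : Subgroup (MulAut P)}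

theorem exists_field (hP : IsPGroup 2 P) (hK : IsTransOn K) (htwo : TwoInvol P) :
    ∃ (L : Type u) (_ : Field L) (_ : Fintype L) (_ : CharP L 2) (ι : L → P),
      Function.Injective ι ∧ (∀ x y, ι (x + y) = ι x * ι y) ∧ (∀ x, ι x * ι x = 1) ∧
      (∀ z : P, z * z = 1 → ∃ x, ι x = z) ∧
      (∀ k ∈ K, ∃ χ : L, χ ≠ 0 ∧ ∀ x, k (ι x) = ι (χ * x)) ∧
      (∀ χ : L, χ ≠ 0 → ∃ k ∈ K, ∀ x, k (ι x) = ι (χ * x)) := by
  classical
  haveI := Fintype.ofFinite P
  obtain ⟨z₀, -, -, hz₀1, hz₀, -, -⟩ := htwo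
  have cen : ∀ {z : P}, z * z = 1 → ∀ x : P, x * z = z * x := fun hz x =>
    Subgroup.mem_center_iff.1 (involution_central hP hK hz) x
  let L := {z : P // z * z = 1}
  have hmulsq : ∀ x y : L, (x.1 * y.1) * (x.1 * y.1) = 1 := fun x y => by
    rw [mul_assoc, ← mul_assoc y.1 x.1, cen x.2 y.1, mul_assoc x.1 y.1, y.2, mul_one, x.2]
  have hex : ∀ x : L, x.1 ≠ 1 → ∃ k ∈ K, k z₀ = x.1 := fun x hx => hK.2 z₀ x.1 hz₀1 hz₀ hx x.2
  choose kk hkK hkz using hex
  let m : L → L → L := fun x y => if hx : x.1 = 1 then ⟨1, one_mul 1⟩ else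
    ⟨kk x hx y.1, by rw [← map_mul, y.2, map_one]⟩
  -- multiplication is the action
  have hm1 : ∀ x y : L, x.1 = 1 → (m x y).1 = 1 := fun x y hx => by simp only [m, dif_pos hx]
  have hmk : ∀ (x y : L) (k : MulAut P), k ∈ K → k z₀ = x.1 → (m x y).1 = k y.1 := by
    intro x y k hk hkx
    have hx : x.1 ≠ 1 := fun h => hz₀1 (k.injective (by rw [hkx, h, map_one]))
    simp only [m, dif_neg hx]
    exact agree hK (hkK x hx) hk hz₀1 hz₀ (by rw [hkz x hx, hkx]) y.2
  have comm' : ∀ x y : L, (m x y).1 = (m y x).1 := by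
    intro x y
    by_cases hx : x.1 = 1
    · rw [hm1 x y hx]
      by_cases hy : y.1 = 1
      · rw [hm1 y x hy]
      · rw [hmk y x _ (hkK y hy) (hkz y hy), hx, map_one]
    by_cases hy : y.1 = 1
    · rw [hm1 y x hy, hmk x y _ (hkK x hx) (hkz x hx), hy, map_one]
    rw [hmk x y _ (hkK x hx) (hkz x hx), hmk y x _ (hkK y hy) (hkz y hy)]
    conv_lhs => rw [← hkz y hy]
    conv_rhs => rw [← hkz x hx]
    rw [← MulAut.mul_apply, ← MulAut.mul_apply, hK.1 _ (hkK x hx) _ (hkK y hy)]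
  letI : Add L := ⟨fun x y => ⟨x.1 * y.1, hmulsq x y⟩⟩
  letI : Zero L := ⟨⟨1, one_mul 1⟩⟩
  letI : Neg L := ⟨fun x => x⟩
  letI : One L := ⟨⟨z₀, hz₀⟩⟩
  letI : Mul L := ⟨m⟩
  have hdist : ∀ x y w : L, x * (y + w) = x * y + x * w := fun x y w => Subtype.ext (by
    show (m x _).1 = (m x y).1 * (m x w).1
    by_cases hx : x.1 = 1
    · rw [hm1 x _ hx, hm1 x _ hx, hm1 x _ hx, one_mul]
    · rw [hmk x _ _ (hkK x hx) (hkz x hx), hmk x y _ (hkK x hx) (hkz x hx),
        hmk x w _ (hkK x hx) (hkz x hx)]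
      exact map_mul _ _ _)
  have hcomm : ∀ x y : L, x * y = y * x := fun x y => Subtype.ext (comm' x y)
  have hone : ∀ x : L, 1 * x = x := fun x => Subtype.ext (by
    show (m _ x).1 = x.1
    rw [hmk _ x 1 (one_mem K) rfl]; rfl)
  have hzero : ∀ x : L, 0 * x = 0 := fun x => Subtype.ext (hm1 _ x rfl)
  have hassoc : ∀ x y w : L, x * y * w = x * (y * w) := fun x y w => Subtype.ext (by
    show (m (m x y) w).1 = (m x (m y w)).1
    by_cases hx : x.1 = 1
    · rw [hm1 x _ hx, hm1 _ w (hm1 x y hx)]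
    rw [hmk x (m y w) _ (hkK x hx) (hkz x hx)]
    by_cases hy : y.1 = 1
    · rw [hm1 y w hy, map_one, hm1 _ w (by rw [hmk x y _ (hkK x hx) (hkz x hx), hy, map_one])]
    rw [hmk y w _ (hkK y hy) (hkz y hy), hmk (m x y) w (kk x hx * kk y hy)
      (mul_mem (hkK x hx) (hkK y hy)) (by
        rw [hmk x y _ (hkK x hx) (hkz x hx), MulAut.mul_apply, hkz y hy])]
    rfl)
  letI : CommRing L :=
    { add_assoc := fun x y w => Subtype.ext (mul_assoc x.1 y.1 w.1)
      zero_add := fun x => Subtype.ext (one_mul x.1)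
      add_zero := fun x => Subtype.ext (mul_one x.1)
      nsmul := nsmulRec
      zsmul := zsmulRec
      neg_add_cancel := fun x => Subtype.ext x.2
      add_comm := fun x y => Subtype.ext (cen y.2 x.1)
      left_distrib := hdist
      right_distrib := fun x y w => by rw [hcomm, hdist, hcomm w x, hcomm w y]
      zero_mul := hzero
      mul_zero := fun x => by rw [hcomm, hzero]
      mul_assoc := hassoc
      one_mul := hone
      mul_one := fun x => by rw [hcomm, hone]
      mul_comm := hcomm }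
  have hF : IsField L :=
    { exists_pair_ne := ⟨0, 1, fun h => hz₀1 (congrArg Subtype.val h).symm⟩
      mul_comm := hcomm
      mul_inv_cancel := fun {a} ha => by
        have ha1 : a.1 ≠ 1 := fun h => ha (Subtype.ext h)
        refine ⟨⟨(kk a ha1)⁻¹ z₀, by rw [← map_mul, hz₀, map_one]⟩, Subtype.ext ?_⟩
        show (m a _).1 = z₀
        rw [hmk a _ _ (hkK a ha1) (hkz a ha1)]
        exact (kk a ha1).apply_symm_apply z₀ }
  letI : Field L := hF.toField
  have h2 : (2 : L) = 0 := by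
    rw [← one_add_one_eq_two]; exact Subtype.ext hz₀
  haveI : CharP L 2 := CharTwo.of_one_ne_zero_of_two_eq_zero one_ne_zero h2
  refine ⟨L, inferInstance, Fintype.ofFinite L, inferInstance, Subtype.val, Subtype.val_injective,
    fun _ _ => rfl, fun x => x.2, fun z hz => ⟨⟨z, hz⟩, rfl⟩, fun k hk => ?_, fun χ hχ => ?_⟩
  · refine ⟨⟨k z₀, by rw [← map_mul, hz₀, map_one]⟩, fun h => hz₀1 (k.injective ?_), fun x => ?_⟩
    · rw [map_one]; exact congrArg Subtype.val h
    · exact (hmk _ x k hk rfl).symm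
  · have hχ1 : χ.1 ≠ 1 := fun h => hχ (Subtype.ext h)
    exact ⟨kk χ hχ1, hkK χ hχ1, fun x => (hmk χ x _ (hkK χ hχ1) (hkz χ hχ1)).symm⟩

end Cfsg.Lib.Suzuki2
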