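import Cfsg.Agent.Lib.TwoGroup.SuzukiExp
import Cfsg.Agent.Lib.TwoGroup.SuzukiField
import Cfsg.Agent.Lib.TwoGroup.Linearized

/-!
# Suzuki two-groups have class two

A finite two-group with more than one involution and an abelian group of automorphisms transitive
on the involutions has all commutators and squares in its centre.
-/

set_option autoImplicit false
set_option linter.unusedSectionVars false
set_option maxHeartbeats 1600000

namespace Cfsg.Lib.Suzuki2

open Cfsg.Agent.S1137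
open scoped commutatorElement

universe u

variable {P : Type u} [Group P] [Finite P] {K : Subgroup (MulAut P)}

omit [Finite P] in
theorem mem_of_gen {T : Set P} (hT : Subgroup.closure T = ⊤) (Q : Subgroup P) (h : T ⊆ Q) (g : P) :
    g ∈ Q :=
  (Subgroup.closure_le Q).2 h (hT ▸ Subgroup.mem_top g)

omit [Finite P] in
theorem commutator_mem_center_of_gen {T : Set P} (hT : Subgroup.closure T = ⊤)
    (h : ∀ g ∈ T, ∀ h ∈ T, ⁅g, h⁆ ∈ Subgroup.center P) (g g' : P) : ⁅g, g'⁆ ∈ Subgroup.center P := by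
  have key : ∀ h : P, (∀ g ∈ T, ⁅g, h⁆ ∈ Subgroup.center P) → ∀ g : P, ⁅g, h⁆ ∈ Subgroup.center P := by
    intro h hh g
    let Q : Subgroup P :=
      { carrier := {g : P | ⁅g, h⁆ ∈ Subgroup.center P}
        one_mem' := by
          show ⁅(1 : P), h⁆ ∈ Subgroup.center P
          rw [commutatorElement_one_left]; exact one_mem _
        mul_mem' := fun {a b} ha hb => by
          show ⁅a * b, h⁆ ∈ Subgroup.center P
          rw [commutatorElement_mul_left_eq_conj_mul]
          exact mul_mem ((inferInstance : (Subgroup.center P).Normal).conj_mem _ hb a) ha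
        inv_mem' := fun {a} ha => by
          show ⁅a⁻¹, h⁆ ∈ Subgroup.center P
          have h1 : ⁅a⁻¹, h⁆ = a⁻¹ * ⁅a, h⁆⁻¹ * a⁻¹⁻¹ := by
            rw [commutatorElement_def, commutatorElement_def]; group
          rw [h1]
          exact (inferInstance : (Subgroup.center P).Normal).conj_mem _ (inv_mem ha) a⁻¹ }
    exact mem_of_gen hT Q hh g
  refine key g' (fun g hg => ?_) g
  rw [← commutatorElement_inv g' g]
  refine inv_mem (key g (fun h' hh' => ?_) g')
  exact h h' hh' g hg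

theorem class_two (hP : IsPGroup 2 P) (hK : IsTransOn K) (htwo : TwoInvol P) :
    ∀ a b : P, ⁅a, b⁆ ∈ Subgroup.center P := by
  classical
  by_contra hc
  obtain ⟨A, hA⟩ := exists_good hP hK hc
  have hne : A ≠ ⊤ := fun h => hc fun a b => by
    rw [commutatorElement_eq_one_iff_commute.2
      (hA.comm a (h ▸ Subgroup.mem_top a) b (h ▸ Subgroup.mem_top b))]
    exact one_mem _
  have hA4 := hA.pow_four hP hK htwo hne
  have hsq4 : ∀ a ∈ A, (a * a) * (a * a) = 1 := fun a ha => by
    have := hA4 a ha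
    simpa [pow_succ, mul_assoc] using this
  have cen : ∀ {z : P}, z * z = 1 → ∀ x : P, x * z = z * x := fun hz x => Good.central hP hK hz x
  have hcm := fun (g : P) {a : P} (ha : a ∈ A) => hA.comm_mem g ha
  obtain ⟨k₀, hk₀, r, r', hr, hr2, hkn, hfree⟩ := exists_free hP hK htwo
  -- square roots
  obtain ⟨a₀, ha₀, ha₀1⟩ := hA.big
  have hroot : ∀ z : P, z * z = 1 → ∃ y ∈ A, y * y = z := by
    intro z hz
    by_cases hz1 : z = 1
    · exact ⟨1, one_mem _, by rw [hz1, one_mul]⟩
    obtain ⟨k, hk, hkz⟩ := hK.2 (a₀ * a₀) z ha₀1 (hsq4 a₀ ha₀) hz1 hz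
    exact ⟨k a₀, hA.inv k hk a₀ ha₀, by rw [← map_mul, hkz]⟩
  choose! rt hrtA hrt using hroot
  let θ : P → P → P := fun g z => ⁅g, rt z⁆
  have hmulsq : ∀ {x y : P}, x * x = 1 → y * y = 1 → (x * y) * (x * y) = 1 := fun {x y} hx hy => by
    rw [mul_assoc, ← mul_assoc y x y, cen hx y, mul_assoc x y y, hy, mul_one, hx]
  have hval : ∀ (g : P) {a : P}, a ∈ A → ⁅g, a⁆ * ⁅g, a⁆ = 1 := fun g a ha => by
    rw [← hA.comm_mul g ha ha, commutatorElement_eq_one_iff_commute.2 (cen (hsq4 a ha) g)]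
  have θval : ∀ g {z : P}, z * z = 1 → θ g z * θ g z = 1 := fun g z hz => hval g (hrtA z hz)
  have θspec : ∀ g {y : P}, y ∈ A → θ g (y * y) = ⁅g, y⁆ := by
    intro g y hy
    have hz := hsq4 y hy
    set w := rt (y * y) with hw
    have hwA : w ∈ A := hrtA _ hz
    have h1 : (w * y⁻¹) * (w * y⁻¹) = 1 := by
      rw [mul_assoc, ← mul_assoc y⁻¹ w, hA.comm _ (inv_mem hy) w hwA, mul_assoc w y⁻¹ y⁻¹,
        ← mul_assoc, hrt _ hz, ← mul_inv_rev, mul_inv_cancel]
    show ⁅g, w⁆ = ⁅g, y⁆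
    conv_lhs => rw [← inv_mul_cancel_right w y, hA.comm_mul g (mul_mem hwA (inv_mem hy)) hy,
      commutatorElement_eq_one_iff_commute.2 (cen h1 g), one_mul]
  -- the field
  obtain ⟨L, _, _, _, ι, hιinj, hιadd, hιsq, hιsur, hKχ, hχK⟩ := exists_field hP hK htwo
  choose! ii hii using hιsur
  have hι0 : ι 0 = 1 := by
    have := hιadd 0 0
    rwa [add_zero, left_eq_mul] at this
  obtain ⟨n, hn⟩ : ∃ n, Fintype.card L = 2 ^ n := by
    obtain ⟨n, -, h⟩ := FiniteField.card L 2
    exact ⟨n, h⟩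
  obtain ⟨l, hl0, hl⟩ := exists_gen L
  have hiim : ∀ z w, z * z = 1 → w * w = 1 → ii (z * w) = ii z + ii w := fun z w hz hw =>
    hιinj (by rw [hιadd, hii z hz, hii w hw, hii _ (hmulsq hz hw)])
  have θmul : ∀ g {z w : P}, z * z = 1 → w * w = 1 → θ g (z * w) = θ g z * θ g w := by
    intro g z w hz hw
    have h : (rt z * rt w) * (rt z * rt w) = z * w := by
      conv_rhs => rw [← hrt z hz, ← hrt w hw]
      rw [mul_assoc, ← mul_assoc (rt w) (rt z), hA.comm _ (hrtA w hw) _ (hrtA z hz)]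
      group
    conv_lhs => rw [← h]
    rw [θspec g (mul_mem (hrtA z hz) (hrtA w hw)), hA.comm_mul g (hrtA z hz) (hrtA w hw)]
  have θgh : ∀ g h {z : P}, z * z = 1 → θ (g * h) z = θ g z * θ h z := fun g h z hz => by
    show ⁅g * h, rt z⁆ = _
    rw [commutatorElement_mul_left_eq_conj_mul]
    show g * θ h z * g⁻¹ * θ g z = _
    rw [cen (θval h hz) g, mul_inv_cancel_right, cen (θval h hz) (θ g z)]
  have hF : ∀ g, ∃ c : Fin n → L, ∀ x, ii (θ g (ι x)) = ∑ i : Fin n, c i * x ^ 2 ^ (i : ℕ) := fun g =>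
    exists_coeff hn (fun x => ii (θ g (ι x))) fun x y => by
      show ii (θ g (ι (x + y))) = _
      rw [hιadd, θmul g (hιsq x) (hιsq y), hiim _ _ (θval g (hιsq x)) (θval g (hιsq y))]
  choose c hcF using hF
  have cuniq : ∀ g (d : Fin n → L), (∀ x, ii (θ g (ι x)) = ∑ i : Fin n, d i * x ^ 2 ^ (i : ℕ)) →
      c g = d := fun g d hd => sub_eq_zero.1 (coeff_unique hn (c g - d) fun x => by
    simp only [Pi.sub_apply, sub_mul, Finset.sum_sub_distrib]
    rw [← hcF g x, ← hd x, sub_self])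
  have cadd : ∀ g h, c (g * h) = c g + c h := fun g h => cuniq _ _ fun x => by
    simp only [Pi.add_apply, add_mul, Finset.sum_add_distrib]
    rw [← hcF g x, ← hcF h x, θgh g h (hιsq x), hiim _ _ (θval g (hιsq x)) (θval h (hιsq x))]
  have ii1 : ii (1 : P) = 0 := hιinj (by rw [hii 1 (one_mul 1), hι0])
  have cker : ∀ g, c g = 0 ↔ g ∈ A := by
    intro g
    constructor
    · intro h
      refine hA.selfc g fun a ha => (commutatorElement_eq_one_iff_commute.1 ?_).eq
      rw [← θspec g ha, ← hii (a * a) (hsq4 a ha), ← hii (θ g _) (θval g (hιsq _)), hcF, h]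
      simp [hι0]
    · intro hg
      refine cuniq g 0 fun x => ?_
      have h1 : θ g (ι x) = 1 :=
        commutatorElement_eq_one_iff_commute.2 (hA.comm g hg _ (hrtA _ (hιsq x)))
      rw [h1, ii1]
      simp
  have c1 : c 1 = 0 := (cker 1).2 (one_mem A)
  have cinv : ∀ g, c g⁻¹ = c g := fun g => by
    have h := cadd g g⁻¹
    rw [mul_inv_cancel, c1] at h
    funext i
    exact (CharTwo.add_eq_zero.1 (congrFun h i).symm).symm
  have hcomA : ∀ g h, ⁅g, h⁆ ∈ A := fun g h => (cker _).1 (by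
    rw [commutatorElement_def, cadd, cadd, cadd, cinv, cinv]
    funext i
    simp only [Pi.add_apply, Pi.zero_apply]
    rw [add_assoc (c g i) (c h i), add_comm (c h i) (c g i), ← add_assoc (c g i) (c g i),
      CharTwo.add_self_eq_zero, zero_add, CharTwo.add_self_eq_zero])
  have hsqA : ∀ g, g * g ∈ A := fun g => (cker _).1 (by
    rw [cadd]; funext i; exact CharTwo.add_self_eq_zero _)
  have cequ : ∀ k ∈ K, ∀ χ : L, χ ≠ 0 → (∀ x, k (ι x) = ι (χ * x)) → ∀ g,
      c (k g) = fun i : Fin n => weight χ i * c g i := by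
    intro k hk χ hχ hkχ g
    refine cuniq _ _ fun x => ?_
    have hx : ι x = k (ι (χ⁻¹ * x)) := by rw [hkχ, mul_inv_cancel_left₀ hχ]
    set y := χ⁻¹ * x with hy
    have h1 : θ (k g) (k (ι y)) = k (θ g (ι y)) := by
      conv_lhs => rw [← hrt (ι y) (hιsq y), map_mul, θspec (k g) (hA.inv k hk _ (hrtA _ (hιsq y)))]
      exact (map_commutatorElement k g _).symm
    have h2 : ii (k (θ g (ι y))) = χ * ii (θ g (ι y)) := hιinj (by
      rw [hii _ (by rw [← map_mul, θval g (hιsq y), map_one]), ← hkχ, hii _ (θval g (hιsq y))])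
    rw [hx, h1, h2, hcF, Finset.mul_sum]
    refine Finset.sum_congr rfl fun i _ => ?_
    rw [hy, mul_pow, inv_pow, weight]
    field_simp
  let W : AddSubgroup (Fin n → L) :=
    { carrier := Set.range c
      zero_mem' := ⟨1, c1⟩
      add_mem' := fun {a b} ⟨g, hg⟩ ⟨h, hh⟩ => ⟨g * h, by rw [cadd, hg, hh]⟩
      neg_mem' := fun {a} ⟨g, hg⟩ => ⟨g, by rw [hg]; funext i; exact (CharTwo.neg_eq _).symm⟩ }
  obtain ⟨kl, hkl, hklχ⟩ := hχK l hl0
  have hW : ∀ a ∈ W, (fun i : Fin n => weight l i * a i) ∈ W := by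
    rintro _ ⟨g, rfl⟩
    exact ⟨kl g, cequ kl hkl l hl0 hklχ g⟩
  -- no component of index zero
  have hzero : ∀ g (i : Fin n), (i : ℕ) = 0 → c g = Pi.single i (c g i) → g ∈ A := by
    intro g i hi hg
    refine mem_of_fixed_coset hP hr hr2 hkn hfree A (fun x hx => hA.inv k₀ hk₀ x hx) ((cker _).1 ?_)
    obtain ⟨χ, hχ, hkχ⟩ := hKχ k₀ hk₀
    rw [cadd, cinv, cequ k₀ hk₀ χ hχ hkχ]
    funext j
    simp only [Pi.add_apply, Pi.zero_apply]
    by_cases hj : j = i
    · rw [hj, weight, hi, pow_zero, pow_one, div_self hχ, one_mul, CharTwo.add_self_eq_zero]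
    · rw [hg, Pi.single_eq_of_ne hj, mul_zero, add_zero]
  let T : Set P := {g | g ∈ A ∨ ∃ i : Fin n, (i : ℕ) ≠ 0 ∧ c g i ≠ 0 ∧ c g = Pi.single i (c g i)}
  have hfull : ∀ g (i : Fin n), (i : ℕ) ≠ 0 → c g i ≠ 0 → c g = Pi.single i (c g i) →
      ∀ u : L, ∃ g', c g' = Pi.single i u := by
    intro g i hi hgi hg u
    let S : AddSubgroup L :=
      { carrier := {u | Pi.single i u ∈ W}
        zero_mem' := by show Pi.single i (0 : L) ∈ W; rw [Pi.single_zero]; exact W.zero_mem
        add_mem' := fun {a b} ha hb => by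
          show Pi.single i (a + b) ∈ W
          rw [Pi.single_add]; exact W.add_mem ha hb
        neg_mem' := fun {a} ha => by
          show Pi.single i (-a) ∈ W
          rw [Pi.single_neg]; exact W.neg_mem ha }
    have hS : ∀ x ∈ S, weight l i * x ∈ S := fun x hx => by
      show Pi.single i (weight l i * x) ∈ W
      convert hW _ hx using 1
      funext j
      by_cases hj : j = i
      · subst hj; simp
      · simp [Pi.single_eq_of_ne hj]
    exact full_of_weight hn hl0 hl i.2 hi S hS (u := c g i) ⟨g, hg⟩ hgi u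
  -- elements of a component have order at most four
  have hmono : ∀ g (i : Fin n), c g = Pi.single i (c g i) → ∀ x, ii (θ g (ι x)) = c g i * x ^ 2 ^ (i : ℕ) :=
    fun g i hg x => by
    rw [hcF, Finset.sum_eq_single i (fun j _ hj => by rw [hg, Pi.single_eq_of_ne hj, zero_mul]) (by simp)]
  have hfour : ∀ g (i : Fin n), c g i ≠ 0 → c g = Pi.single i (c g i) → (g * g) * (g * g) = 1 := by
    intro g i hgi hg
    have hz := hsq4 _ (hsqA g)
    have h1 : θ g ((g * g) * (g * g)) = 1 := by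
      rw [θspec g (hsqA g), commutatorElement_eq_one_iff_commute]
      exact (Commute.refl g).mul_right (Commute.refl g)
    have h2 := hmono g i hg (ii ((g * g) * (g * g)))
    rw [hii _ hz, h1, ii1] at h2
    have h3 := (pow_eq_zero_iff (by positivity)).1 ((mul_eq_zero.1 h2.symm).resolve_left hgi)
    rw [← hii _ hz, h3, hι0]
  -- a commutator fixed by the monomial of either entry
  have hid : ∀ (g h : P) (j : Fin n), c h j ≠ 0 → c h = Pi.single j (c h j) →
      ii (⁅g, h⁆ * ⁅g, h⁆) = c h j * ii (⁅g, h⁆ * ⁅g, h⁆) ^ 2 ^ (j : ℕ) := by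
    intro g h j hj hh
    set d := ⁅g, h⁆ with hd
    have hdA : d ∈ A := hcomA g h
    have h1 : ⁅g, h * h⁆ = 1 := by
      rw [← θspec g (hsqA h), hfour h j hj hh]
      show ⁅g, rt 1⁆ = 1
      exact commutatorElement_eq_one_iff_commute.2 ((cen (z := rt 1) (hrt 1 (one_mul 1)) g))
    have h2 : ⁅g, h * h⁆ = (d * d) * ⁅h, d⁆ := by
      have h3 : ⁅g, h * h⁆ = d * (h * d * h⁻¹) := by
        rw [hd, commutatorElement_def, commutatorElement_def]; group
      rw [h3, show h * d * h⁻¹ = ⁅h, d⁆ * d by rw [commutatorElement_def]; group, mul_assoc d d,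
        hA.comm d hdA _ (hcm h hdA)]
    rw [h2, ← θspec h hdA] at h1
    have h4 := congrArg ii h1
    rw [hiim _ _ (hsq4 d hdA) (θval h (hsq4 d hdA)), ii1] at h4
    conv_lhs at h4 => arg 2; rw [← hii (d * d) (hsq4 d hdA), hmono h j hh]
    exact CharTwo.add_eq_zero.1 h4
  have hTZ : ∀ g ∈ T, ∀ h ∈ T, ⁅g, h⁆ ∈ Subgroup.center P := by
    have hinvol : ∀ z : P, z * z = 1 → z ∈ Subgroup.center P := fun z hz => involution_central hP hK hz
    rintro g (hg | ⟨i, hi, hgi, hg⟩) h hh
    · refine hinvol _ ?_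
      rw [← commutatorElement_inv h g, ← mul_inv_rev, hval h hg, inv_one]
    rcases hh with hh | ⟨j, hj, hhj, hh⟩
    · exact hinvol _ (hval g hh)
    refine hinvol _ ?_
    choose G hG using fun u => hfull g i hi hgi hg u
    let Φ : L → L := fun u => ii (⁅G u, h⁆ * ⁅G u, h⁆)
    have hwd : ∀ g' g'', c g' = c g'' → ⁅g', h⁆ * ⁅g', h⁆ = ⁅g'', h⁆ * ⁅g'', h⁆ := by
      intro g' g'' he
      have ha : g'⁻¹ * g'' ∈ A := (cker _).1 (by
        rw [cadd, cinv, he]; funext i; exact CharTwo.add_self_eq_zero _)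
      conv_rhs => rw [← mul_inv_cancel_left g' g'', commutatorElement_mul_left_eq_conj_mul]
      have hinvA : ⁅g'⁻¹ * g'', h⁆ * ⁅g'⁻¹ * g'', h⁆ = 1 := by
        rw [← commutatorElement_inv h (g'⁻¹ * g''), ← mul_inv_rev, hval h ha, inv_one]
      rw [cen hinvA g', mul_inv_cancel_right]
      have hcom : Commute ⁅g'⁻¹ * g'', h⁆ ⁅g', h⁆ := hA.comm _ (hcomA _ _) _ (hcomA _ _)
      rw [hcom.symm.mul_mul_mul_comm, hinvA, one_mul]
    have hΦadd : ∀ u v, Φ (u + v) = Φ u + Φ v := by
      intro u v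
      show ii _ = ii _ + ii _
      rw [hwd (G (u + v)) (G u * G v) (by rw [cadd, hG, hG, hG, Pi.single_add]),
        commutatorElement_mul_left_eq_conj_mul]
      set a := ⁅G v, h⁆
      set b := ⁅G u, h⁆
      have haA : a ∈ A := hcomA _ _
      have hbA : b ∈ A := hcomA _ _
      have h3 : G u * a * (G u)⁻¹ = ⁅G u, a⁆ * a := by rw [commutatorElement_def]; group
      have hv := hval (G u) haA
      have hcom1 : Commute (⁅G u, a⁆ * a) b :=
        hA.comm _ (mul_mem (hcm _ haA) haA) _ hbA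
      have hcom2 : Commute ⁅G u, a⁆ a := hA.comm _ (hcm _ haA) _ haA
      rw [h3, hcom1.symm.mul_mul_mul_comm, hcom2.symm.mul_mul_mul_comm, hv, one_mul,
        hiim _ _ (hsq4 a haA) (hsq4 b hbA), add_comm]
    have hsol : ∀ u, u ≠ 0 → Φ u = u * Φ u ^ 2 ^ (i : ℕ) ∧ Φ u = c h j * Φ u ^ 2 ^ (j : ℕ) := by
      intro u hu
      refine ⟨?_, hid (G u) h j hhj hh⟩
      have hcu : c (G u) i = u := by rw [hG, Pi.single_eq_same]
      have h1 := hid h (G u) i (by rw [hcu]; exact hu) (by rw [hcu, hG])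
      have h2 : ⁅h, G u⁆ * ⁅h, G u⁆ = ⁅G u, h⁆ * ⁅G u, h⁆ := by
        rw [← commutatorElement_inv (G u) h, ← mul_inv_rev,
          inv_eq_of_mul_eq_one_right (hsq4 _ (hcomA (G u) h))]
      rwa [h2, hcu] at h1
    have hΦ0 : Φ 0 = 0 := by
      have := hΦadd 0 0
      rwa [add_zero, left_eq_add] at this
    have hall : ∀ u, Φ u = 0 := by
      by_contra hne'
      push Not at hne'
      obtain ⟨u₁, hu₁⟩ := hne'
      have hinj : Function.Injective Φ := by
        intro u v huv
        by_contra hne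
        -- two arguments with the same nonzero value coincide
        have hval2 : ∀ u, Φ u ≠ 0 → u = Φ u / Φ u ^ 2 ^ (i : ℕ) := fun u hu => by
          have hu0 : u ≠ 0 := fun h => hu (by rw [h, hΦ0])
          rw [eq_div_iff (pow_ne_zero _ hu)]
          exact (hsol u hu0).1.symm
        have hd : Φ (u - v) = 0 := by
          rw [CharTwo.sub_eq_add, hΦadd, huv, CharTwo.add_self_eq_zero]
        have h2 : Φ (u₁ + (u - v)) = Φ u₁ := by rw [hΦadd, hd, add_zero]
        have h3 := hval2 _ (by rw [h2]; exact hu₁)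
        rw [h2, ← hval2 u₁ hu₁] at h3
        exact hne (sub_eq_zero.1 (add_eq_left.1 h3))
      have hsurj := Finite.injective_iff_surjective.1 hinj
      have hx : ∀ x : L, x ≠ 0 → x = c h j * x ^ 2 ^ (j : ℕ) := fun x hx => by
        obtain ⟨u, rfl⟩ := hsurj x
        exact (hsol u fun h => hx (by rw [h, hΦ0])).2
      have hv : c h j = 1 := by simpa using (hx 1 one_ne_zero).symm
      have hfix := hx l hl0
      rw [hv, one_mul] at hfix
      have hw : weight l j = weight l 0 ^ 2 ^ 0 := by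
        rw [weight, weight, ← hfix, pow_zero, pow_one, pow_one, div_self hl0]
      exact hj ((weight_inj hn hl0 hl j.2 (Fin.pos j) (Fin.pos j) hw).1)
    rw [← hii _ (hsq4 _ (hcomA g h))]
    have h2 : ii (⁅g, h⁆ * ⁅g, h⁆) = 0 := by
      rw [hwd g (G (c g i)) (by rw [hG, ← hg])]; exact hall _
    rw [h2, hι0]
  have hgen : Subgroup.closure T = ⊤ := by
    refine eq_top_iff.2 fun g _ => ?_
    have key : ∀ s : Finset (Fin n), ∃ h ∈ Subgroup.closure T, c h = ∑ i ∈ s, Pi.single i (c g i) := by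
      intro s
      induction s using Finset.induction with
      | empty => exact ⟨1, one_mem _, by simpa using c1⟩
      | insert i s hi ih =>
        obtain ⟨h, hh, hhc⟩ := ih
        obtain ⟨g', hg'⟩ := proj_mem hn hl0 hl W hW (a := c g) ⟨g, rfl⟩ i
        refine ⟨g' * h, mul_mem ?_ hh, by rw [cadd, hg', hhc, Finset.sum_insert hi]⟩
        have hg'i : c g' = Pi.single i (c g' i) := by rw [hg', Pi.single_eq_same]
        by_cases h0 : c g' i = 0
        · exact Subgroup.subset_closure (Or.inl ((cker g').1 (by rw [hg'i, h0, Pi.single_zero])))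
        by_cases hi0 : (i : ℕ) = 0
        · exact Subgroup.subset_closure (Or.inl (hzero g' i hi0 hg'i))
        · exact Subgroup.subset_closure (Or.inr ⟨i, hi0, h0, hg'i⟩)
    obtain ⟨h, hh, hhc⟩ := key Finset.univ
    rw [Finset.univ_sum_single] at hhc
    have hd : h⁻¹ * g ∈ Subgroup.closure T := Subgroup.subset_closure (Or.inl ((cker _).1 (by
      rw [cadd, cinv, hhc]; funext i; exact CharTwo.add_self_eq_zero _)))
    simpa using mul_mem hh hd
  exact hc (commutator_mem_center_of_gen hgen hTZ)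

end Cfsg.Lib.Suzuki2
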