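import Cfsg.Agent.Lib.TwoGroup.SuzukiBase

/-!
# The invariant abelian normal subgroup has exponent four

Let `A` be self-centralizing, invariant, abelian and normal in a two-group with an abelian group
of automorphisms transitive on its involutions.  If the exponent of `A` exceeded four, the map
`g ↦ (g²)^(2^(e-1))` would turn the action on `A` into an equivariant alternating form.
-/

set_option autoImplicit false
set_option linter.unusedSectionVars false
set_option maxHeartbeats 1600000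

namespace Cfsg.Lib.Suzuki2

open Cfsg.Agent.S1137
open scoped commutatorElement

universe u

variable {P : Type u} [Group P] [Finite P] {K : Subgroup (MulAut P)} {A : Subgroup P}

theorem Good.comm_mem (hA : Good K A) (g : P) {a : P} (ha : a ∈ A) : ⁅g, a⁆ ∈ A := by
  rw [commutatorElement_def]
  exact mul_mem (hA.normal.conj_mem a ha g) (inv_mem ha)

theorem Good.comm_mul (hA : Good K A) (g : P) {a b : P} (ha : a ∈ A) (hb : b ∈ A) :
    ⁅g, a * b⁆ = ⁅g, a⁆ * ⁅g, b⁆ := by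
  rw [commutatorElement_mul_right_eq_mul_conj, mul_assoc _ a,
    hA.comm a ha _ (hA.comm_mem g hb), ← mul_assoc, mul_inv_cancel_right]

theorem Good.comm_pow (hA : Good K A) (g : P) {a : P} (ha : a ∈ A) :
    ∀ m : ℕ, ⁅g, a ^ m⁆ = ⁅g, a⁆ ^ m
  | 0 => by rw [pow_zero, pow_zero, commutatorElement_one_right]
  | m + 1 => by
    rw [pow_succ, hA.comm_mul g (pow_mem ha m) ha, hA.comm_pow g ha m, ← pow_succ]

theorem Good.comm_inv (hA : Good K A) (g : P) {a : P} (ha : a ∈ A) : ⁅g, a⁻¹⁆ = ⁅g, a⁆⁻¹ := by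
  refine (inv_eq_of_mul_eq_one_right ?_).symm
  rw [← hA.comm_mul g ha (inv_mem ha), mul_inv_cancel, commutatorElement_one_right]

theorem Good.central (hP : IsPGroup 2 P) (hK : IsTransOn K) {z : P} (hz : z * z = 1) (x : P) :
    x * z = z * x :=
  Subgroup.mem_center_iff.1 (involution_central hP hK hz) x

/-- Involutions of `A` are powers. -/
theorem Good.roots (hP : IsPGroup 2 P) (hK : IsTransOn K) (hA : Good K A) {e : ℕ}
    (he : ∀ a ∈ A, a ^ 2 ^ e = 1) {t : P} (ht : t ∈ A) (ht1 : t ^ 2 ^ (e - 1) ≠ 1) :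
    ∀ j, j ≤ e → ∀ a ∈ A, a ^ 2 ^ j = 1 → ∃ b ∈ A, b ^ 2 ^ (e - j) = a := by
  intro j
  induction j with
  | zero =>
    intro _ a _ ha
    exact ⟨1, one_mem _, by rw [one_pow]; simpa using ha.symm⟩
  | succ j ih =>
    intro hj a ha h
    by_cases h0 : a ^ 2 ^ j = 1
    · obtain ⟨b, hb, hba⟩ := ih (by omega) a ha h0
      refine ⟨b * b, mul_mem hb hb, ?_⟩
      rw [← pow_two, ← pow_mul, ← pow_succ', ← hba]
      congr 2
      omega
    have htw : t ^ 2 ^ (e - 1) * t ^ 2 ^ (e - 1) = 1 :=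
      pow_root (by rw [Nat.sub_add_cancel (by omega)]; exact he t ht)
    obtain ⟨k, hk, hkt⟩ := hK.2 _ (a ^ 2 ^ j) ht1 htw h0 (pow_root h)
    set s := k t with hs
    have hsA : s ∈ A := hA.inv k hk t ht
    set u := s ^ 2 ^ (e - j - 1) with hu
    have hup : u ^ 2 ^ j = a ^ 2 ^ j := by
      rw [hu, ← pow_mul, ← pow_add, show e - j - 1 + j = e - 1 by omega, ← hkt, hs, map_pow]
    obtain ⟨b, hb, hba⟩ := ih (by omega) (a * u⁻¹) (mul_mem ha (inv_mem (pow_mem hsA _))) (by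
      rw [Commute.mul_pow (hA.comm a ha _ (inv_mem (pow_mem hsA _))), inv_pow, hup, mul_inv_cancel])
    refine ⟨b * b * s, mul_mem (mul_mem hb hb) hsA, ?_⟩
    rw [show e - (j + 1) = e - j - 1 by omega,
      Commute.mul_pow (hA.comm _ (mul_mem hb hb) s hsA), ← pow_two, ← pow_mul, ← pow_succ',
      show e - j - 1 + 1 = e - j by omega, hba, ← hu, inv_mul_cancel_right]

/-- Every element of `A` has order at most four. -/
theorem Good.pow_four (hP : IsPGroup 2 P) (hK : IsTransOn K) (htwo : TwoInvol P) (hA : Good K A)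
    (hne : A ≠ ⊤) : ∀ a ∈ A, a ^ 4 = 1 := by
  classical
  have hex : ∃ e, ∀ a ∈ A, a ^ 2 ^ e = 1 := by
    obtain ⟨T, hT⟩ := IsPGroup.iff_card.1 hP
    exact ⟨T, fun a _ => hT ▸ pow_card_eq_one'⟩
  set e := Nat.find hex with he_def
  have he : ∀ a ∈ A, a ^ 2 ^ e = 1 := Nat.find_spec hex
  by_contra hcon
  have he3 : 3 ≤ e := by
    by_contra h
    refine hcon fun a ha => ?_
    have h1 := he a ha
    obtain ⟨d, hd⟩ : 2 ^ e ∣ 4 := by
      rw [show 4 = 2 ^ 2 by norm_num]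
      exact pow_dvd_pow 2 (by omega)
    rw [hd, pow_mul, h1, one_pow]
  obtain ⟨t, ht, ht1⟩ : ∃ t ∈ A, t ^ 2 ^ (e - 1) ≠ 1 := by
    have := Nat.find_min hex (show e - 1 < e by omega)
    push Not at this
    exact this
  have roots := hA.roots hP hK he ht ht1
  have hcm := fun (g : P) {a : P} (ha : a ∈ A) => hA.comm_mem g ha
  have cen : ∀ {z : P}, z * z = 1 → ∀ x : P, x * z = z * x := fun hz x => Good.central hP hK hz x
  obtain ⟨k₀, hk₀, r, n, hr, hr2, hkn, hfree⟩ := exists_free hP hK htwo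
  -- the subgroup `B`
  let B : Subgroup P := omegaMod A hA.normal ⊤
  have hBsq : ∀ {g}, g ∈ B → g * g ∈ A := fun hg => hg.2.1
  have hBcm : ∀ {g}, g ∈ B → ∀ p, ⁅g, p⁆ ∈ A := fun hg => hg.2.2
  obtain ⟨g₁, -, hg₁A, hg₁2, hg₁c⟩ := @exists_mod P _ _ hP A ⊤ hA.normal _ (fun h => hne (top_le_iff.1 h))
  have hg₁B : g₁ ∈ B := ⟨Subgroup.mem_top _, hg₁2, hg₁c⟩
  have hBk : ∀ k ∈ K, ∀ g ∈ B, k g ∈ B := fun k hk g hg => by
    refine ⟨Subgroup.mem_top _, by rw [← map_mul]; exact hA.inv k hk _ hg.2.1, fun p => ?_⟩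
    obtain ⟨p, rfl⟩ := k.surjective p
    rw [← map_commutatorElement]
    exact hA.inv k hk _ (hg.2.2 p)
  -- inverted commutators
  have hinv : ∀ g ∈ B, ∀ y ∈ A, g * ⁅g, y⁆ * g⁻¹ = ⁅g, y⁆⁻¹ := by
    intro g hg y hy
    have h1 : g * g * y * (g * g)⁻¹ = y := by
      rw [hA.comm _ (hBsq hg) y hy, mul_inv_cancel_right]
    have h2 : g * ⁅g, y⁆ * g⁻¹ = (g * g * y * (g * g)⁻¹) * y⁻¹ * (y * (g * y * g⁻¹)⁻¹) := by
      rw [commutatorElement_def]; group
    rw [h2, h1, commutatorElement_def]; group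
  -- square roots of involutions
  have hroot : ∀ z : P, z * z = 1 → ∃ x ∈ A, (x * x) * (x * x) = z := fun z hz => by
    obtain ⟨b, hb, hbz⟩ := roots 1 (by omega) z (hA.invol z hz) (by rw [pow_one, pow_two, hz])
    refine ⟨b ^ 2 ^ (e - 3), pow_mem hb _, ?_⟩
    rw [← pow_add, ← pow_add, ← hbz]
    congr 1
    rw [show e - 1 = e - 3 + 2 by omega, pow_add]; ring
  choose! rt hrtA hrt using hroot
  let θ : P → P → P := fun g z => ⁅g, rt z * rt z⁆
  have θval : ∀ g {z : P}, z * z = 1 → θ g z * θ g z = 1 := fun g z hz => by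
    show ⁅g, rt z * rt z⁆ * ⁅g, rt z * rt z⁆ = 1
    rw [← hA.comm_mul g (mul_mem (hrtA z hz) (hrtA z hz)) (mul_mem (hrtA z hz) (hrtA z hz)), hrt z hz,
      commutatorElement_eq_one_iff_commute.2 (cen hz g)]
  have θspec : ∀ g {z y : P}, z * z = 1 → y ∈ A → y * y = z → θ g z = ⁅g, y⁆ := by
    intro g z y hz hy hyz
    set w := rt z * rt z with hw
    have hwA : w ∈ A := mul_mem (hrtA z hz) (hrtA z hz)
    have h1 : (y * w⁻¹) * (y * w⁻¹) = 1 := by
      rw [mul_assoc, ← mul_assoc w⁻¹ y, hA.comm _ (inv_mem hwA) y hy, mul_assoc y w⁻¹ w⁻¹,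
        ← mul_assoc, hyz, ← mul_inv_rev, hw, hrt z hz, mul_inv_cancel]
    have h2 : ⁅g, y * w⁻¹⁆ = 1 := commutatorElement_eq_one_iff_commute.2 (cen h1 g)
    conv_rhs => rw [← inv_mul_cancel_right y w]
    rw [hA.comm_mul g (mul_mem hy (inv_mem hwA)) hwA, h2, one_mul]
  have θgh : ∀ g h {z : P}, z * z = 1 → θ (g * h) z = θ g z * θ h z := fun g h z hz => by
    show ⁅g * h, rt z * rt z⁆ = _
    rw [commutatorElement_mul_left_eq_conj_mul]
    show g * θ h z * g⁻¹ * θ g z = _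
    rw [cen (θval h hz) g, mul_inv_cancel_right, cen (θval h hz) (θ g z)]
  have hmulsq : ∀ {x y : P}, x * x = 1 → y * y = 1 → (x * y) * (x * y) = 1 := fun {x y} hx hy => by
    rw [mul_assoc, ← mul_assoc y x y, cen hx y, mul_assoc x y y, hy, mul_one, hx]
  have θmul : ∀ g {z w : P}, z * z = 1 → w * w = 1 → θ g (z * w) = θ g z * θ g w := by
    intro g z w hz hw
    have hA1 : rt z * rt z ∈ A := mul_mem (hrtA z hz) (hrtA z hz)
    have hA2 : rt w * rt w ∈ A := mul_mem (hrtA w hw) (hrtA w hw)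
    rw [θspec g (hmulsq hz hw) (mul_mem hA1 hA2), hA.comm_mul g hA1 hA2]
    conv_rhs => rw [← hrt z hz, ← hrt w hw]
    rw [mul_assoc, ← mul_assoc (rt w * rt w) (rt z * rt z), hA.comm _ hA2 _ hA1]
    group
  have θk : ∀ k ∈ K, ∀ g z, z * z = 1 → θ (k g) (k z) = k (θ g z) := by
    intro k hk g z hz
    show _ = k ⁅g, rt z * rt z⁆
    rw [map_commutatorElement]
    exact θspec (k g) (by rw [← map_mul, hz, map_one])
      (hA.inv k hk _ (mul_mem (hrtA z hz) (hrtA z hz))) (by rw [← map_mul, hrt z hz])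
  have θidem : ∀ g ∈ B, ∀ z, z * z = 1 → θ g (θ g z) = θ g z := by
    intro g hg z hz
    set d := ⁅g, rt z⁆ with hd
    have hdA : d ∈ A := hcm g (hrtA z hz)
    have hθ : θ g z = d * d := hA.comm_mul g (hrtA z hz) (hrtA z hz)
    have hi : ⁅g, d⁆ = d⁻¹ * d⁻¹ := by
      rw [commutatorElement_def, hinv g hg (rt z) (hrtA z hz)]
    rw [θspec g (θval g hz) hdA hθ.symm, hi, ← mul_inv_rev, ← hθ,
      inv_eq_of_mul_eq_one_right (θval g hz)]
  have θone : ∀ g, θ g 1 = 1 := fun g => by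
    rw [θspec g (one_mul 1) (one_mem A) (one_mul 1), commutatorElement_one_right]
  have θcomm : ∀ g ∈ B, ∀ h ∈ B, ∀ z, z * z = 1 → θ g (θ h z) = θ h (θ g z) := by
    intro g hg h hh z hz
    have h1 := θidem (g * h) (mul_mem hg hh) z hz
    rw [θgh g h hz, θgh g h (hmulsq (θval g hz) (θval h hz)), θmul g (θval g hz) (θval h hz),
      θmul h (θval g hz) (θval h hz), θidem g hg z hz, θidem h hh z hz] at h1
    set a := θ g z
    set b := θ h z
    set c := θ g b
    set d := θ h a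
    have hb : b * b = 1 := θval h hz
    have hd : d * d = 1 := θval h (θval g hz)
    have h2 : c * d = 1 := by
      rw [mul_assoc a c, ← mul_assoc c d b] at h1
      have h3 := mul_left_cancel h1
      conv_rhs at h3 => rw [← one_mul b]
      exact mul_right_cancel h3
    rw [← mul_right_cancel (h2.trans hd.symm)]
  -- a minimal common fixed set
  let U : Finset P → Set P := fun T => {z | z * z = 1 ∧ ∀ g ∈ T, g ∈ B → θ g z = z}
  obtain ⟨T, ⟨z₀, hz₀, hz₀1⟩, hT⟩ : ∃ T : Finset P, (∃ z ∈ U T, z ≠ 1) ∧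
      ∀ T' : Finset P, T ⊆ T' → (∃ z ∈ U T', z ≠ 1) → U T' = U T := by
    haveI := Fintype.ofFinite P
    let 𝒯 : Finset (Finset P) := Finset.univ.filter fun T => ∃ z ∈ U T, z ≠ 1
    obtain ⟨x, -, -, hx1, hx2, -, -⟩ := id htwo
    have hne' : 𝒯.Nonempty :=
      ⟨∅, Finset.mem_filter.2 ⟨Finset.mem_univ _, x, ⟨hx2, by simp⟩, hx1⟩⟩
    obtain ⟨T, hT, hmin⟩ := 𝒯.exists_min_image (fun T => (U T).ncard) hne'
    refine ⟨T, (Finset.mem_filter.1 hT).2, fun T' hTT hT' => ?_⟩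
    exact Set.eq_of_subset_of_ncard_le (fun z hz => ⟨hz.1, fun g hg => hz.2 g (hTT hg)⟩)
      (hmin T' (Finset.mem_filter.2 ⟨Finset.mem_univ _, hT'⟩)) (Set.toFinite _)
  have hUθ : ∀ g ∈ B, ∀ z ∈ U T, θ g z ∈ U T := fun g hg z hz => ⟨θval g hz.1, fun h hh hhB => by
    rw [θcomm h hhB g hg z hz.1, hz.2 h hh hhB]⟩
  have hUdic : ∀ g ∈ B, (∀ z ∈ U T, θ g z = z) ∨ (∀ z ∈ U T, θ g z = 1) := by
    intro g hg
    by_cases h : ∀ z ∈ U T, θ g z = 1
    · exact Or.inr h
    push Not at h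
    obtain ⟨z, hz, hz1⟩ := h
    refine Or.inl fun w hw => ?_
    have hw' : w ∈ U (insert g T) := by
      rw [hT (insert g T) (Finset.subset_insert g T) ⟨θ g z, ⟨θval g hz.1, fun h hh hhB => by
        rcases Finset.mem_insert.1 hh with rfl | hh
        · exact θidem _ hg z hz.1
        · exact (hUθ g hg z hz).2 h hh hhB⟩, hz1⟩]
      exact hw
    exact hw'.2 g (Finset.mem_insert_self g T) hg
  have hdic : ∀ g ∈ B, ∀ z, z * z = 1 → θ g z = z ∨ θ g z = 1 := by
    intro g hg z hz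
    by_cases hz1 : z = 1
    · exact Or.inr (hz1 ▸ θone g)
    obtain ⟨k, hk, rfl⟩ := hK.2 z₀ z hz₀1 hz₀.1 hz1 hz
    obtain ⟨h, hh⟩ := k.surjective g
    have hhB : h ∈ B := by
      have h1 := hBk k⁻¹ (inv_mem hk) g hg
      rwa [← hh, MulAut.inv_apply_self] at h1
    rw [← hh, θk k hk h z₀ hz₀.1]
    rcases hUdic h hhB with h1 | h1 <;> rw [h1 z₀ hz₀]
    · exact Or.inl rfl
    · exact Or.inr (map_one k)
  -- every element of `B` centralizes the fourth roots
  let N : Subgroup P :=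
    { carrier := {g | g ∈ B ∧ ∀ z, z * z = 1 → θ g z = 1}
      one_mem' := ⟨one_mem _, fun z hz => by
        show ⁅(1 : P), rt z * rt z⁆ = 1
        exact commutatorElement_one_left _⟩
      mul_mem' := fun {a b} ha hb => ⟨mul_mem ha.1 hb.1, fun z hz => by
        rw [θgh a b hz, ha.2 z hz, hb.2 z hz, one_mul]⟩
      inv_mem' := fun {a} ha => ⟨inv_mem ha.1, fun z hz => by
        have h1 := θgh a⁻¹ a hz
        rw [inv_mul_cancel, ha.2 z hz, mul_one] at h1
        rw [← h1]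
        exact commutatorElement_one_left _⟩ }
  have hB0 : ∀ g ∈ B, ∀ z, z * z = 1 → θ g z = 1 := by
    intro g hg
    by_contra h
    push Not at h
    obtain ⟨z, hz, hθz⟩ := h
    have hid : ∀ w, w * w = 1 → θ g w = w := by
      intro w hw
      rcases hdic g hg w hw with h1 | h1
      · exact h1
      have h2 : θ g z = z := (hdic g hg z hz).resolve_right hθz
      rcases hdic g hg (z * w) (hmulsq hz hw) with h3 | h3
      · rw [θmul g hz hw, h1, h2, mul_one] at h3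
        have hw1 : w = 1 := by simpa using h3.symm
        rw [hw1, θone g]
      · rw [θmul g hz hw, h1, mul_one] at h3
        exact absurd h3 hθz
    refine hθz ((mem_of_fixed_coset hP hr hr2 hkn hfree N ?_ (g := g) ?_).2 z hz)
    · rintro x ⟨hx, hx'⟩
      refine ⟨hBk k₀ hk₀ x hx, fun w hw => ?_⟩
      obtain ⟨w, rfl⟩ := k₀.surjective w
      have hw' : w * w = 1 := k₀.injective (by rw [map_mul, hw, map_one])
      rw [θk k₀ hk₀ x w hw', hx' w hw', map_one]
    · refine ⟨mul_mem (inv_mem hg) (hBk k₀ hk₀ g hg), fun w hw => ?_⟩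
      obtain ⟨v, rfl⟩ := k₀.surjective w
      have hv' : v * v = 1 := k₀.injective (by rw [map_mul, hw, map_one])
      have h1 := θgh g (g⁻¹ * k₀ g) hw
      rw [mul_inv_cancel_left, θk k₀ hk₀ g v hv', hid v hv', hid _ hw] at h1
      exact mul_eq_left.1 h1.symm
  -- commutators with `A` are involutions
  have hE : ∀ g ∈ B, ∀ y ∈ A, ⁅g, y⁆ * ⁅g, y⁆ = 1 := by
    intro g hg y hy
    by_contra hd
    set d := ⁅g, y⁆ with hd'
    obtain ⟨j, hj1, hj2⟩ := exists_pow_invol hP (g := d * d) hd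
    set d' := d ^ 2 ^ j with hd''
    have hdd : d' * d' = (d * d) ^ 2 ^ j := (Commute.mul_pow rfl _).symm
    have hq : (d' * d') * (d' * d') = 1 := by rw [hdd]; exact hj2
    have hc : ⁅g, d'⁆ = 1 := (θspec g hq (pow_mem (hcm g hy) _) rfl).symm.trans (hB0 g hg _ hq)
    have h1 : g * d' * g⁻¹ = d'⁻¹ := by
      rw [hd'', ← conj_pow, hinv g hg y hy, inv_pow]
    rw [commutatorElement_def, h1, ← mul_inv_rev, inv_eq_one] at hc
    exact hj1 (hdd ▸ hc)
  have hCsq : ∀ g ∈ B, ∀ a ∈ A, ⁅g, a * a⁆ = 1 := fun g hg a ha => by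
    rw [hA.comm_mul g ha ha, hE g hg a ha]
  -- the form
  have hroot' : ∀ z : P, z * z = 1 → ∃ b ∈ A, b ^ 2 ^ (e - 1) = z := fun z hz =>
    roots 1 (by omega) z (hA.invol z hz) (by rw [pow_one, pow_two, hz])
  choose! rb hrbA hrb using hroot'
  have hsquare : ∀ a ∈ A, a ^ 2 ^ (e - 1) = 1 → ∃ c ∈ A, c * c = a := fun a ha h => by
    obtain ⟨c, hc, hca⟩ := roots (e - 1) (by omega) a ha h
    refine ⟨c, hc, ?_⟩
    rw [show e - (e - 1) = 1 by omega, pow_one, pow_two] at hca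
    exact hca
  let φ : P → P → P := fun g z => ⁅g, rb z⁆
  have φspec : ∀ g ∈ B, ∀ {z b : P}, z * z = 1 → b ∈ A → b ^ 2 ^ (e - 1) = z → φ g z = ⁅g, b⁆ := by
    intro g hg z b hz hb hbz
    obtain ⟨c, hc, hcb⟩ := hsquare ((rb z)⁻¹ * b) (mul_mem (inv_mem (hrbA z hz)) hb) (by
      rw [Commute.mul_pow (hA.comm _ (inv_mem (hrbA z hz)) b hb), inv_pow, hrb z hz, hbz,
        inv_mul_cancel])
    conv_rhs => rw [← mul_inv_cancel_left (rb z) b, ← hcb, hA.comm_mul g (hrbA z hz) (mul_mem hc hc),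
      hCsq g hg c hc, mul_one]
  let σ : P → P := fun g => (g * g) ^ 2 ^ (e - 1)
  have σval : ∀ g ∈ B, σ g * σ g = 1 := fun g hg =>
    pow_root (by rw [Nat.sub_add_cancel (by omega)]; exact he _ (hBsq hg))
  have hσA : ∀ g ∈ B, σ g = 1 → g ∈ A := by
    intro g hg h
    obtain ⟨c, hc, hcg⟩ := hsquare _ (hBsq hg) h
    -- the map `b ↦ g⁻¹ b g b`
    let M : A →* A :=
      { toFun := fun b => ⟨g⁻¹ * (b : P) * g * b,
          mul_mem (by simpa using hA.normal.conj_mem _ b.2 g⁻¹) b.2⟩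
        map_one' := Subtype.ext (by simp)
        map_mul' := fun a b => Subtype.ext (by
          show g⁻¹ * ((a : P) * b) * g * (a * b) = g⁻¹ * (a : P) * g * a * (g⁻¹ * (b : P) * g * b)
          have hb : g⁻¹ * (b : P) * g ∈ A := by simpa using hA.normal.conj_mem _ b.2 g⁻¹
          calc g⁻¹ * ((a : P) * b) * g * (a * b) = g⁻¹ * (a : P) * g * ((g⁻¹ * b * g) * a) * b := by
                group
            _ = _ := by rw [hA.comm _ hb _ a.2]; group) }
    let Sq : A →* A :=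
      { toFun := fun b => b * b
        map_one' := one_mul 1
        map_mul' := fun a b => Subtype.ext (by
          show (a : P) * b * (a * b) = a * a * (b * b)
          rw [mul_assoc (a : P) b, ← mul_assoc (b : P) a, hA.comm _ b.2 _ a.2]; group) }
    have hgi : g⁻¹ ∈ B := inv_mem hg
    have hMeq : ∀ b : A, (M b : P) = ⁅g⁻¹, (b : P)⁆ * (b * b) := fun b => by
      show g⁻¹ * (b : P) * g * b = _
      rw [commutatorElement_def]; group
    have hle : M.range ≤ Sq.range := by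
      rintro _ ⟨b, rfl⟩
      obtain ⟨x, hxA, hx⟩ := hsquare ⁅g⁻¹, (b : P)⁆ (hcm _ b.2) (by
        obtain ⟨d, hd⟩ : 2 ∣ 2 ^ (e - 1) := dvd_pow_self 2 (by omega)
        rw [hd, pow_mul, pow_two, hE _ hgi b b.2, one_pow])
      refine ⟨⟨x, hxA⟩ * b, Subtype.ext ?_⟩
      rw [hMeq b, ← hx]
      show x * b * (x * b) = x * x * (b * b)
      rw [mul_assoc x b, ← mul_assoc (b : P) x, hA.comm _ b.2 _ hxA]; group
    have hker : M.ker = Sq.ker := by
      ext b
      rw [MonoidHom.mem_ker, MonoidHom.mem_ker]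
      constructor
      · intro hb
        have h1 : ⁅g⁻¹, (b : P)⁆ * ((b : P) * b) = 1 := (hMeq b).symm.trans (congrArg Subtype.val hb)
        have h2 : ((b : P) * b) * (b * b) = 1 := by
          rw [← inv_eq_of_mul_eq_one_right h1, ← mul_inv_rev, hE _ hgi b b.2, inv_one]
        have h3 : ⁅g⁻¹, (b : P)⁆ = 1 := (θspec _ h2 b.2 rfl).symm.trans (hB0 _ hgi _ h2)
        rw [h3, one_mul] at h1
        exact Subtype.ext h1
      · intro hb
        have h1 : (b : P) * b = 1 := congrArg Subtype.val hb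
        refine Subtype.ext ((hMeq b).trans ?_)
        rw [h1, mul_one]
        exact commutatorElement_eq_one_iff_commute.2 (cen h1 _)
    have heq : M.range = Sq.range := by
      refine Subgroup.eq_of_le_of_card_ge hle (le_of_eq ?_)
      have h1 := Subgroup.card_eq_card_quotient_mul_card_subgroup M.ker
      have h2 := Subgroup.card_eq_card_quotient_mul_card_subgroup Sq.ker
      rw [Nat.card_congr (QuotientGroup.quotientKerEquivRange M).toEquiv] at h1
      rw [Nat.card_congr (QuotientGroup.quotientKerEquivRange Sq).toEquiv, ← hker] at h2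
      exact Nat.eq_of_mul_eq_mul_right Nat.card_pos (h2.symm.trans h1)
    obtain ⟨b, hb⟩ : (⟨c⁻¹ * c⁻¹, mul_mem (inv_mem hc) (inv_mem hc)⟩ : A) ∈ M.range :=
      heq ▸ ⟨⟨c⁻¹, inv_mem hc⟩, rfl⟩
    have h1 : g⁻¹ * (b : P) * g * b = c⁻¹ * c⁻¹ := congrArg Subtype.val hb
    have h2 : (g * b) * (g * b) = 1 := by
      calc (g * (b : P)) * (g * b) = g * g * (g⁻¹ * (b : P) * g * b) := by group
        _ = 1 := by rw [h1, ← hcg]; group
    simpa using mul_mem (hA.invol _ h2) (inv_mem b.2)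
  have hc4 : ∀ g ∈ B, ∀ h ∈ B, ⁅g, h⁆ ^ 2 ^ (e - 1) = 1 := by
    intro g hg h hh
    set c := ⁅g, h⁆ with hc
    have hcA : c ∈ A := hBcm hg h
    have h1 := hE g hg _ (hBsq hh)
    have h2 : ⁅g, h * h⁆ = (c * c) * ⁅h, c⁆ := by
      have h3 : ⁅g, h * h⁆ = c * (h * c * h⁻¹) := by
        rw [hc, commutatorElement_def, commutatorElement_def]; group
      rw [h3, show h * c * h⁻¹ = ⁅h, c⁆ * c by rw [commutatorElement_def]; group, ← mul_assoc,
        hA.comm c hcA _ (hcm h hcA), mul_assoc, hA.comm _ (hcm h hcA) _ (mul_mem hcA hcA)]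
    rw [h2] at h1
    have h4 : c * c * (c * c) = 1 := by
      have h5 := hE h hh c hcA
      have hcom : Commute (c * c) ⁅h, c⁆ := hA.comm _ (mul_mem hcA hcA) _ (hcm h hcA)
      calc c * c * (c * c) = c * c * (c * c) * (⁅h, c⁆ * ⁅h, c⁆) := by rw [h5, mul_one]
        _ = (c * c * ⁅h, c⁆) * (c * c * ⁅h, c⁆) := hcom.mul_mul_mul_comm _ _
        _ = 1 := h1
    obtain ⟨m, hm⟩ : 4 ∣ 2 ^ (e - 1) := by
      rw [show 4 = 2 ^ 2 by norm_num]
      exact pow_dvd_pow 2 (by omega)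
    rw [hm, pow_mul, show c ^ 4 = c * c * (c * c) by simp [pow_succ, mul_assoc], h4, one_pow]
  have σmul : ∀ g ∈ B, ∀ h ∈ B, σ (g * h) = σ g * σ h := by
    intro g hg h hh
    show ((g * h) * (g * h)) ^ 2 ^ (e - 1) = _
    have hcA : ⁅g⁻¹, h⁆ ∈ A := hBcm (inv_mem hg) h
    rw [show (g * h) * (g * h) = g * g * ⁅g⁻¹, h⁆ * (h * h) by rw [commutatorElement_def]; group,
      Commute.mul_pow (hA.comm _ (mul_mem (hBsq hg) hcA) _ (hBsq hh)),
      Commute.mul_pow (hA.comm _ (hBsq hg) _ hcA), hc4 _ (inv_mem hg) h hh, mul_one]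
  have σk : ∀ k ∈ K, ∀ g, σ (k g) = k (σ g) := fun k _ g => by
    show (k g * k g) ^ _ = k ((g * g) ^ _)
    rw [map_pow, map_mul]
  have hsur : ∀ z, z * z = 1 → ∃ g ∈ B, σ g = z := by
    intro z hz
    by_cases hz1 : z = 1
    · exact ⟨1, one_mem _, by rw [hz1]; show ((1 : P) * 1) ^ _ = 1; rw [one_mul, one_pow]⟩
    obtain ⟨k, hk, hkz⟩ := hK.2 (σ g₁) z (fun h => hg₁A (hσA g₁ hg₁B h)) (σval g₁ hg₁B) hz1 hz
    exact ⟨k g₁, hBk k hk g₁ hg₁B, by rw [σk k hk, hkz]⟩
  choose! s hsB hs using hsur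
  have φwd : ∀ g ∈ B, ∀ g' ∈ B, σ g = σ g' → ∀ z, z * z = 1 → φ g z = φ g' z := by
    intro g hg g' hg' h z hz
    have h1 : σ (g⁻¹ * g') = 1 := by
      rw [σmul _ (inv_mem hg) _ hg', ← h, ← σmul _ (inv_mem hg) _ hg, inv_mul_cancel]
      show ((1 : P) * 1) ^ _ = 1
      rw [one_mul, one_pow]
    have h2 := hσA _ (mul_mem (inv_mem hg) hg') h1
    show ⁅g, rb z⁆ = ⁅g', rb z⁆
    conv_rhs => rw [← mul_inv_cancel_left g g', commutatorElement_mul_left_eq_conj_mul,
      commutatorElement_eq_one_iff_commute.2 (hA.comm _ h2 _ (hrbA z hz)), mul_one, mul_inv_cancel,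
      one_mul]
  have φval : ∀ g ∈ B, ∀ z, z * z = 1 → φ g z * φ g z = 1 := fun g hg z hz => hE g hg _ (hrbA z hz)
  have φgh : ∀ g ∈ B, ∀ h ∈ B, ∀ z, z * z = 1 → φ (g * h) z = φ g z * φ h z := fun g hg h hh z hz => by
    show ⁅g * h, rb z⁆ = _
    rw [commutatorElement_mul_left_eq_conj_mul]
    show g * φ h z * g⁻¹ * φ g z = _
    rw [cen (φval h hh z hz) g, mul_inv_cancel_right, cen (φval h hh z hz) (φ g z)]
  have φmul : ∀ g ∈ B, ∀ z w, z * z = 1 → w * w = 1 → φ g (z * w) = φ g z * φ g w := by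
    intro g hg z w hz hw
    rw [φspec g hg (hmulsq hz hw) (mul_mem (hrbA z hz) (hrbA w hw)) (by
      rw [Commute.mul_pow (hA.comm _ (hrbA z hz) _ (hrbA w hw)), hrb z hz, hrb w hw]),
      hA.comm_mul g (hrbA z hz) (hrbA w hw)]
  have φalt : ∀ g ∈ B, φ g (σ g) = 1 := fun g hg => by
    rw [φspec g hg (σval g hg) (hBsq hg) rfl, commutatorElement_eq_one_iff_commute]
    exact ((Commute.refl g).mul_right (Commute.refl g))
  have φsym : ∀ g ∈ B, ∀ h ∈ B, φ g (σ h) = φ h (σ g) := by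
    intro g hg h hh
    have h1 := φalt (g * h) (mul_mem hg hh)
    rw [σmul g hg h hh, φgh g hg h hh _ (hmulsq (σval g hg) (σval h hh)),
      φmul g hg _ _ (σval g hg) (σval h hh), φmul h hh _ _ (σval g hg) (σval h hh), φalt g hg,
      φalt h hh, one_mul, mul_one] at h1
    exact mul_right_cancel (h1.trans (φval h hh _ (σval g hg)).symm)
  have hzero : ∀ u v, u * u = 1 → v * v = 1 → φ (s u) v = 1 := fun u v hu hv =>
    form_eq_one hP hK (fun u v => φ (s u) v) (fun a b ha hb => φval _ (hsB a ha) b hb)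
      (fun a b c ha hb hc => φmul _ (hsB a ha) b c hb hc)
      (fun a ha => by
        show φ (s a) a = 1
        conv_lhs => arg 2; rw [← hs a ha]
        exact φalt _ (hsB a ha))
      (fun a b ha hb => by
        show φ (s a) b = φ (s b) a
        conv_lhs => rw [← hs b hb]
        rw [φsym _ (hsB a ha) _ (hsB b hb), hs a ha])
      (fun k hk a b ha hb => by
        show φ (s (k a)) (k b) = k ⁅s a, rb b⁆
        have hka : k a * k a = 1 := by rw [← map_mul, ha, map_one]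
        have hkb : k b * k b = 1 := by rw [← map_mul, hb, map_one]
        rw [φwd _ (hsB _ hka) _ (hBk k hk _ (hsB a ha)) (by rw [hs _ hka, σk k hk, hs a ha]) _ hkb,
          φspec _ (hBk k hk _ (hsB a ha)) hkb (hA.inv k hk _ (hrbA b hb))
            (by rw [← map_pow, hrb b hb]), map_commutatorElement])
      hu hv
  refine hg₁A (hA.selfc g₁ fun a ha => ?_)
  have hz : a ^ 2 ^ (e - 1) * a ^ 2 ^ (e - 1) = 1 :=
    pow_root (by rw [Nat.sub_add_cancel (by omega)]; exact he a ha)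
  refine (commutatorElement_eq_one_iff_commute.1 ?_).eq
  rw [← φspec g₁ hg₁B hz ha rfl,
    φwd g₁ hg₁B _ (hsB _ (σval g₁ hg₁B)) (hs _ (σval g₁ hg₁B)).symm _ hz]
  exact hzero _ _ (σval g₁ hg₁B) hz

end Cfsg.Lib.Suzuki2
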