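import Cfsg.Agent.S1137
import Cfsg.Agent.Lib.PGroup.Basic

/-!
# Two-groups with an abelian group of automorphisms transitive on involutions

A fixed-point-free automorphism of prime power order, and the self-centralizing invariant
abelian normal subgroup present when the class exceeds two.
-/

set_option autoImplicit false
set_option linter.unusedSectionVars false

namespace Cfsg.Lib.Suzuki2

open Cfsg.Agent.S1137
open scoped commutatorElement

universe u

variable {P : Type u} [Group P] [Finite P] {K : Subgroup (MulAut P)}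

/-- There are two involutions. -/
def TwoInvol (P : Type u) [Group P] : Prop :=
  ∃ x y : P, x ≠ y ∧ x ≠ 1 ∧ x * x = 1 ∧ y ≠ 1 ∧ y * y = 1

omit [Finite P] in
theorem exists_pow_invol (hP : IsPGroup 2 P) {g : P} (hg : g ≠ 1) :
    ∃ j : ℕ, g ^ 2 ^ j ≠ 1 ∧ g ^ 2 ^ j * g ^ 2 ^ j = 1 := by
  classical
  obtain ⟨m, hm⟩ := hP g
  have hex : ∃ m, g ^ 2 ^ m = 1 := ⟨m, hm⟩
  obtain ⟨j, hj⟩ := Nat.exists_eq_succ_of_ne_zero (n := Nat.find hex) fun h => hg (by
    have := Nat.find_spec hex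
    rwa [h, pow_zero, pow_one] at this)
  refine ⟨j, Nat.find_min hex (by omega), pow_root ?_⟩
  have := Nat.find_spec hex
  rwa [hj] at this

/-- An element of `K` of odd prime power order moving every involution. -/
theorem exists_free (hP : IsPGroup 2 P) (hK : IsTransOn K) (htwo : TwoInvol P) :
    ∃ k ∈ K, ∃ r n : ℕ, r.Prime ∧ r ≠ 2 ∧ k ^ r ^ n = 1 ∧ ∀ g : P, k g = g → g = 1 := by
  classical
  haveI : Finite (MulAut P) := Finite.of_injective (fun a : MulAut P => (a : P → P))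
    DFunLike.coe_injective
  obtain ⟨x, y, hxy, hx1, hx2, hy1, hy2⟩ := htwo
  have hiv : ∀ z : P, z * z = 1 → z ∈ Subgroup.center P := fun z hz => involution_central hP hK hz
  let E := invSubgroup hiv
  let St : Subgroup K :=
    { carrier := {k | (k : MulAut P) x = x}
      one_mem' := rfl
      mul_mem' := fun {a b} ha hb => by
        show (a : MulAut P) ((b : MulAut P) x) = x
        rw [show (b : MulAut P) x = x from hb]; exact ha
      inv_mem' := fun {a} ha => (MulEquiv.symm_apply_eq _).2 (Eq.symm ha) }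
  have hSt : ∀ k : K, k ∈ St ↔ (k : MulAut P) x = x := fun k => Iff.rfl
  letI : MulAction K P := MulAction.compHom P K.subtype
  have horb : MulAction.orbit K x = {z : P | z ≠ 1 ∧ z * z = 1} := by
    ext z
    constructor
    · rintro ⟨k, rfl⟩
      refine ⟨fun h => hx1 ((k : MulAut P).injective (h.trans (map_one _).symm)), ?_⟩
      show (k : MulAut P) x * (k : MulAut P) x = 1
      rw [← map_mul, hx2, map_one]
    · rintro ⟨h1, h2⟩
      obtain ⟨k, hk, hkx⟩ := hK.2 x z hx1 hx2 h1 h2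
      exact ⟨⟨k, hk⟩, hkx⟩
  have hidx : St.index = (MulAction.orbit K x).ncard := by
    rw [← MulAction.index_stabilizer]
    rfl
  have hodd : ¬ 2 ∣ St.index := by
    rw [hidx, horb]
    have hset : {z : P | z ≠ 1 ∧ z * z = 1} = (E : Set P) \ {1} := by
      ext z; exact ⟨fun h => ⟨h.2, h.1⟩, fun h => ⟨h.2, h.1⟩⟩
    rw [hset, Set.ncard_sdiff_singleton_of_mem E.one_mem, ← Nat.card_coe_set_eq]
    obtain ⟨m, hm⟩ := IsPGroup.iff_card.1 (hP.to_subgroup E)
    have h1 : 1 < Nat.card E :=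
      (Subgroup.one_lt_card_iff_ne_bot E).2 fun h => hx1 (Subgroup.mem_bot.1 (h ▸ (hx2 : x ∈ E)))
    have hc : Nat.card (E : Set P) = Nat.card E := rfl
    rw [hc, hm]
    obtain ⟨m', rfl⟩ := Nat.exists_eq_succ_of_ne_zero (n := m) fun h => by rw [hm, h] at h1; simp at h1
    have := Nat.one_le_two_pow (n := m')
    rw [pow_succ']; omega
  have hne : St.index ≠ 1 := by
    rw [hidx, horb]
    intro h
    obtain ⟨z, hz⟩ := Set.ncard_eq_one.1 h
    have h1 : x ∈ ({z} : Set P) := hz ▸ (⟨hx1, hx2⟩ : x ∈ {z : P | z ≠ 1 ∧ z * z = 1})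
    have h2 : y ∈ ({z} : Set P) := hz ▸ (⟨hy1, hy2⟩ : y ∈ {z : P | z ≠ 1 ∧ z * z = 1})
    exact hxy (h1.trans h2.symm)
  obtain ⟨r, hr, hrd⟩ := Nat.exists_prime_and_dvd hne
  haveI := Fact.mk hr
  obtain ⟨R⟩ : Nonempty (Sylow r K) := inferInstance
  obtain ⟨k, hkR, hk⟩ : ∃ k ∈ (R : Subgroup K), k ∉ St := by
    by_contra h
    push Not at h
    exact R.not_dvd_index (hrd.trans (Subgroup.index_dvd_of_le h))
  obtain ⟨n, hn⟩ := R.2 ⟨k, hkR⟩
  refine ⟨k, k.2, r, n, hr, fun h => hodd (h ▸ hrd), ?_, fun g hg => ?_⟩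
  · exact congrArg (Subtype.val ∘ Subtype.val) hn
  · by_contra hg1
    obtain ⟨j, hj1, hj2⟩ := exists_pow_invol hP hg1
    refine hk ((hSt k).2 ?_)
    refine agree hK k.2 (one_mem _) hj1 hj2 ?_ hx2
    rw [map_pow, hg]; rfl

/-- A free element of prime power order fixes no proper coset of an invariant subgroup. -/
theorem mem_of_fixed_coset (hP : IsPGroup 2 P) {k : MulAut P} {r n : ℕ} (hr : r.Prime) (hr2 : r ≠ 2)
    (hkn : k ^ r ^ n = 1) (hfree : ∀ g : P, k g = g → g = 1) (N : Subgroup P)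
    (hN : ∀ x ∈ N, k x ∈ N) {g : P} (hg : g⁻¹ * k g ∈ N) : g ∈ N := by
  classical
  haveI := Fact.mk hr
  haveI := Fintype.ofFinite P
  let C := {h : P // g⁻¹ * h ∈ N}
  have hcl : ∀ h : P, g⁻¹ * h ∈ N → g⁻¹ * k h ∈ N := fun h hh => by
    have h1 := N.mul_mem hg (hN _ hh)
    rwa [map_mul, map_inv, mul_assoc, mul_inv_cancel_left] at h1
  let f : C → C := fun h => ⟨k h.1, hcl h.1 h.2⟩
  have hinj : Function.Injective f := fun a b h =>
    Subtype.ext (k.injective (congrArg Subtype.val h))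
  let σ : Equiv.Perm C := Equiv.ofBijective f (Finite.injective_iff_bijective.1 hinj)
  have hσ : ∀ (m : ℕ) (h : C), ((σ ^ m) h : P) = (k ^ m) h.1 := by
    intro m
    induction m with
    | zero => intro h; rfl
    | succ m ih =>
      intro h
      rw [pow_succ', pow_succ', Equiv.Perm.mul_apply, MulAut.mul_apply, ← ih h]
      rfl
  have hcard : Fintype.card C = Nat.card N := by
    rw [← Nat.card_eq_fintype_card]
    exact Nat.card_congr ((Equiv.mulLeft g⁻¹).subtypeEquiv fun _ => Iff.rfl)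
  obtain ⟨⟨h, hh⟩, hfix⟩ := Equiv.Perm.exists_fixed_point_of_prime (p := r) (n := n) (σ := σ)
    (by
      obtain ⟨m, hm⟩ := IsPGroup.iff_card.1 (hP.to_subgroup N)
      rw [hcard, hm]
      exact fun h => hr2 ((Nat.prime_dvd_prime_iff_eq hr Nat.prime_two).1 (hr.dvd_of_dvd_pow h)))
    (Equiv.ext fun h => Subtype.ext (by rw [hσ, hkn]; rfl))
  have h1 : h = 1 := hfree h (congrArg Subtype.val hfix)
  rw [h1, mul_one] at hh
  exact (N.inv_mem_iff).1 hh

/-- A normal subgroup outside `N` has an element central of order two modulo `N`. -/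
theorem exists_mod (hP : IsPGroup 2 P) (N W : Subgroup P) [N.Normal] [hWn : W.Normal] (h : ¬ W ≤ N) :
    ∃ x ∈ W, x ∉ N ∧ x * x ∈ N ∧ ∀ g : P, ⁅x, g⁆ ∈ N := by
  haveI : Fact (Nat.Prime 2) := ⟨Nat.prime_two⟩
  haveI : (W.map (QuotientGroup.mk' N)).Normal :=
    hWn.map _ (QuotientGroup.mk'_surjective N)
  obtain ⟨q, hqW, hqc, hq⟩ := Cfsg.Lib.PGroup.exists_mem_center_orderOf_eq (hP.to_quotient N)
    (N := W.map (QuotientGroup.mk' N)) (by rwa [ne_eq, Subgroup.map_eq_bot_iff, QuotientGroup.ker_mk'])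
  obtain ⟨x, hxW, rfl⟩ := hqW
  refine ⟨x, hxW, fun hx => ?_, ?_, fun g => ?_⟩
  · rw [show QuotientGroup.mk' N x = 1 from (QuotientGroup.eq_one_iff _).2 hx, orderOf_one] at hq
    exact absurd hq (by norm_num)
  · refine (QuotientGroup.eq_one_iff _).1 ?_
    have := hq ▸ pow_orderOf_eq_one (QuotientGroup.mk' N x)
    rw [pow_two, ← map_mul] at this
    exact this
  · rw [← QuotientGroup.eq_one_iff, ← QuotientGroup.mk'_apply, map_commutatorElement,
      commutatorElement_eq_one_iff_commute]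
    exact (Subgroup.mem_center_iff.1 hqc _).symm

/-- The properties of the invariant abelian subgroup used below. -/
structure Good (K : Subgroup (MulAut P)) (A : Subgroup P) : Prop where
  normal : A.Normal
  inv : ∀ k ∈ K, ∀ a ∈ A, k a ∈ A
  comm : ∀ a ∈ A, ∀ b ∈ A, a * b = b * a
  invol : ∀ x : P, x * x = 1 → x ∈ A
  selfc : ∀ g : P, (∀ a ∈ A, g * a = a * g) → g ∈ A
  big : ∃ a ∈ A, a * a ≠ 1

/-- The elements of `C` central of order at most two modulo `A`. -/
def omegaMod (A : Subgroup P) (hAn : A.Normal) (C : Subgroup P) : Subgroup P where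
  carrier := {x | x ∈ C ∧ x * x ∈ A ∧ ∀ g, ⁅x, g⁆ ∈ A}
  one_mem' := ⟨one_mem _, by rw [one_mul]; exact one_mem _, fun g => by
    rw [commutatorElement_one_left]; exact one_mem _⟩
  mul_mem' := fun {a b} ha hb => by
    refine ⟨mul_mem ha.1 hb.1, ?_, fun g => ?_⟩
    · have h1 : (a * b) * (a * b) = a * a * (a⁻¹ * ⁅a, b⁆⁻¹ * a⁻¹⁻¹) * (b * b) := by
        rw [commutatorElement_def]; group
      rw [h1]
      exact mul_mem (mul_mem ha.2.1 (hAn.conj_mem _ (A.inv_mem (ha.2.2 b)) a⁻¹)) hb.2.1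
    · rw [commutatorElement_mul_left_eq_conj_mul]
      exact mul_mem (hAn.conj_mem _ (hb.2.2 g) a) (ha.2.2 g)
  inv_mem' := fun {a} ha => by
    refine ⟨inv_mem ha.1, ?_, fun g => ?_⟩
    · rw [← mul_inv_rev]; exact inv_mem ha.2.1
    · have h1 : ⁅a⁻¹, g⁆ = a⁻¹ * ⁅a, g⁆⁻¹ * a⁻¹⁻¹ := by
        rw [commutatorElement_def, commutatorElement_def]; group
      rw [h1]
      exact hAn.conj_mem _ (A.inv_mem (ha.2.2 g)) a⁻¹

theorem exists_good (hP : IsPGroup 2 P) (hK : IsTransOn K)
    (hc : ¬ ∀ a b : P, ⁅a, b⁆ ∈ Subgroup.center P) : ∃ A : Subgroup P, Good K A := by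
  classical
  have hna : ∃ x y : P, x * y ≠ y * x := by
    by_contra h
    push Not at h
    refine hc fun a b => ?_
    rw [commutatorElement_eq_one_iff_commute.2 (h a b)]
    exact one_mem _
  have hiv : ∀ z : P, z * z = 1 → z ∈ Subgroup.center P := fun z hz => involution_central hP hK hz
  have hZ : ∀ z ∈ Subgroup.center P, z * z = 1 :=
    center_sq (Nat.card P) P le_rfl hP hna K hK
  let S : Set (Subgroup P) := {A | A.Normal ∧ (∀ k ∈ K, ∀ a ∈ A, k a ∈ A) ∧
    (∀ a ∈ A, ∀ b ∈ A, a * b = b * a) ∧ Subgroup.center P ≤ A}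
  -- the starting subgroup
  let Z2 := Subgroup.upperCentralSeries P 2
  have hZ2 : ∀ x : P, x ∈ Z2 ↔ ∀ g : P, ⁅x, g⁆ ∈ Subgroup.center P := fun x => by
    rw [show Z2 = Subgroup.upperCentralSeries P (1 + 1) from rfl,
      Subgroup.mem_upperCentralSeries_succ_iff, Subgroup.upperCentralSeries_one]
  let A₀ := Z2 ⊓ Subgroup.centralizer (Z2 : Set P)
  haveI hZ2n : Z2.Normal := inferInstance
  have hA₀ : A₀ ∈ S := by
    refine ⟨inferInstance, fun k _ a ha => ?_, fun a ha b hb =>
      Subgroup.mem_centralizer_iff.1 hb.2 a ha.1, fun z hz => ⟨?_, ?_⟩⟩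
    · have hk : ∀ b : P, b ∈ Z2 → k b ∈ Z2 := fun b hb => by
        refine (hZ2 _).2 fun g => ?_
        obtain ⟨g, rfl⟩ := k.surjective g
        rw [← map_commutatorElement]
        exact auto_center k ((hZ2 b).1 hb g)
      refine ⟨hk a ha.1, Subgroup.mem_centralizer_iff.2 fun b hb => ?_⟩
      obtain ⟨b, rfl⟩ := k.surjective b
      have hb' : b ∈ Z2 := (hZ2 b).2 fun g => by
        have h1 := auto_center k⁻¹ ((hZ2 _).1 hb (k g))
        rwa [map_commutatorElement, MulAut.inv_apply_self, MulAut.inv_apply_self] at h1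
      rw [← map_mul, ← map_mul, Subgroup.mem_centralizer_iff.1 ha.2 b hb']
    · exact (hZ2 z).2 fun g => by
        rw [commutatorElement_eq_one_iff_commute.2 (Subgroup.mem_center_iff.1 hz g).symm]
        exact one_mem _
    · exact Subgroup.mem_centralizer_iff.2 fun b _ => Subgroup.mem_center_iff.1 hz b
  obtain ⟨A, hA₀A, hAmax⟩ := (Set.toFinite S).exists_le_maximal hA₀
  obtain ⟨hAn, hAi, hAc, hAZ⟩ := hAmax.prop
  have hbig : ∃ a ∈ A, a * a ≠ 1 := by
    have hnle : ¬ commutator P ≤ Subgroup.center P := fun h => hc fun a b =>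
      h (Subgroup.commutator_mem_commutator (Subgroup.mem_top a) (Subgroup.mem_top b))
    obtain ⟨x, hxW, hxN, -, hx⟩ := exists_mod hP (Subgroup.center P) (commutator P) hnle
    refine ⟨x, hA₀A ⟨(hZ2 x).2 hx, Subgroup.mem_centralizer_iff.2 fun b hb => ?_⟩,
      fun h => hxN (hiv x h)⟩
    -- elements of the second centre commute with commutators
    have hb' : ∀ g : P, ⁅b, g⁆ ∈ Subgroup.center P := (hZ2 b).1 hb
    let f : P →* P :=
      { toFun := fun g => ⁅b, g⁆
        map_one' := commutatorElement_one_right b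
        map_mul' := fun g h => by
          rw [commutatorElement_mul_right_eq_mul_conj, mul_assoc _ g,
            Subgroup.mem_center_iff.1 (hb' h) g, ← mul_assoc, mul_inv_cancel_right] }
    have hle : commutator P ≤ f.ker := by
      rw [commutator_def, Subgroup.commutator_le]
      intro g _ h _
      rw [MonoidHom.mem_ker, map_commutatorElement, commutatorElement_eq_one_iff_commute]
      exact Subgroup.mem_center_iff.1 (hb' h) _
    have h1 : ⁅b, x⁆ = 1 := hle hxW
    exact (commutatorElement_eq_one_iff_commute.1 h1).eq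
  refine ⟨A, hAn, hAi, hAc, fun x hx => hAZ (hiv x hx), ?_, hbig⟩
  -- self-centralizing
  haveI := hAn
  let C := Subgroup.centralizer (A : Set P)
  have hCi : ∀ k ∈ K, ∀ c ∈ C, k c ∈ C := fun k hk c hc' => Subgroup.mem_centralizer_iff.2 fun a ha => by
    obtain ⟨a, rfl⟩ := k.surjective a
    have ha' : a ∈ A := by
      have h1 := hAi k⁻¹ (inv_mem hk) _ ha
      rwa [MulAut.inv_apply_self] at h1
    rw [← map_mul, ← map_mul, Subgroup.mem_centralizer_iff.1 hc' a ha']
  intro g hg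
  by_contra hgA
  obtain ⟨x, hxC, hxA, hx2, hxg⟩ := exists_mod hP A C fun h =>
    hgA (h (Subgroup.mem_centralizer_iff.2 fun a ha => (hg a ha).symm))
  let Ω : Subgroup P := omegaMod A hAn C
  have hAΩ : A ≤ Ω := fun a ha => ⟨Subgroup.mem_centralizer_iff.2 fun b hb => hAc b hb a ha,
    mul_mem ha ha, fun g => by
      have := mul_mem ha (hAn.conj_mem _ (A.inv_mem ha) g)
      rw [commutatorElement_def]
      simpa [mul_assoc] using this⟩
  have hΩn : Ω.Normal := ⟨fun a ha g => by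
    refine ⟨(inferInstance : C.Normal).conj_mem a ha.1 g, ?_, fun h => ?_⟩
    · have := hAn.conj_mem _ ha.2.1 g
      convert this using 1
      group
    · have := hAn.conj_mem _ (ha.2.2 (g⁻¹ * h * g)) g
      convert this using 1
      rw [commutatorElement_def, commutatorElement_def]; group⟩
  have hΩi : ∀ k ∈ K, ∀ a ∈ Ω, k a ∈ Ω := fun k hk a ha => by
    refine ⟨hCi k hk a ha.1, by rw [← map_mul]; exact hAi k hk _ ha.2.1, fun h => ?_⟩
    obtain ⟨h, rfl⟩ := k.surjective h
    rw [← map_commutatorElement]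
    exact hAi k hk _ (ha.2.2 h)
  by_cases hΩc : ∀ a ∈ Ω, ∀ b ∈ Ω, a * b = b * a
  · have := hAmax.le_of_ge (y := Ω) ⟨hΩn, hΩi, hΩc, hAZ.trans hAΩ⟩ hAΩ
    exact hxA (this ⟨hxC, hx2, hxg⟩)
  · push Not at hΩc
    obtain ⟨a, ha, b, hb, hab⟩ := hΩc
    let ρ : K →* MulAut Ω :=
      { toFun := fun k =>
          { toFun := fun x => ⟨(k : MulAut P) x, hΩi k k.2 x x.2⟩
            invFun := fun x => ⟨((k⁻¹ : K) : MulAut P) x, hΩi _ (inv_mem k.2) x x.2⟩
            left_inv := fun x => Subtype.ext ((k : MulAut P).symm_apply_apply x)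
            right_inv := fun x => Subtype.ext ((k : MulAut P).apply_symm_apply x)
            map_mul' := fun x y => Subtype.ext (map_mul (k : MulAut P) (x : P) (y : P)) }
        map_one' := MulEquiv.ext fun _ => rfl
        map_mul' := fun _ _ => MulEquiv.ext fun _ => rfl }
    have hK' : IsTransOn ρ.range := by
      refine ⟨?_, fun x y hx hx2 hy hy2 => ?_⟩
      · rintro _ ⟨k, rfl⟩ _ ⟨l, rfl⟩
        rw [← map_mul, ← map_mul, show k * l = l * k from Subtype.ext (hK.1 k k.2 l l.2)]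
      · obtain ⟨k, hk, hkx⟩ := hK.2 (x : P) y (fun h => hx (Subtype.ext h))
          (congrArg Subtype.val hx2) (fun h => hy (Subtype.ext h)) (congrArg Subtype.val hy2)
        exact ⟨ρ ⟨k, hk⟩, ⟨_, rfl⟩, Subtype.ext hkx⟩
    obtain ⟨c, hc', hc2⟩ := hbig
    refine hc2 (congrArg Subtype.val (center_sq (Nat.card Ω) Ω le_rfl (hP.to_subgroup Ω)
      ⟨⟨a, ha⟩, ⟨b, hb⟩, fun h => hab (congrArg Subtype.val h)⟩ ρ.range hK' ⟨c, hAΩ hc'⟩
      (Subgroup.mem_center_iff.2 fun y => Subtype.ext ?_)))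
    exact (Subgroup.mem_centralizer_iff.1 y.2.1 c hc').symm

end Cfsg.Lib.Suzuki2
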