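import Cfsg.Agent.Lib.TwoGroup.Wreathed
import Cfsg.Agent.Lib.TwoGroup.AutChain

/-!
Self-centralizing subgroups of wreathed groups with automorphisms of odd order.
-/

set_option autoImplicit false
set_option linter.unusedSectionVars false

namespace Cfsg.Lib.TwoGroup

open Subgroup

variable {S : Type*} [Group S] [Finite S]

namespace W

variable {n : ℕ} (d : W S n)
include d

theorem N_eq : N n = (2 : ℤ) ^ n := rfl

theorem e_exp {a b : ℤ} : d.e a b ^ (2 ^ n) = 1 := by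
  rw [← zpow_natCast, d.e_zpow, d.e_eq_one, N]
  push_cast
  exact ⟨dvd_mul_right _ _, dvd_mul_right _ _⟩

/-- The subgroups `⟨Q, Z(S)⟩` with `Q` quaternion of order 8. -/
def IsX (c : ℤ) (X : Subgroup S) : Prop :=
  ∀ p r : ℤ, (d.e p r ∈ X ↔ H n ∣ p - r) ∧ (d.e p r * d.z ∈ X ↔ H n ∣ p - r - 2 * c)

/-- The Boolean structure of a subgroup not contained in `A`, containing the centre. -/
theorem structure_of_not_le {X : Subgroup S} (hZ : center S ≤ X) {a b : ℤ}
    (ht : d.e a b * d.z ∈ X) :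
    ∃ k ≤ n, ∀ p r : ℤ, (d.e p r ∈ X ↔ (2 : ℤ) ^ k ∣ p - r) ∧
      (d.e p r * d.z ∈ X ↔ (2 : ℤ) ^ k ∣ p - r - (a - b)) := by
  have hzc : ∀ p, d.e p p ∈ X := fun p => hZ (d.mem_center_e.mpr (by simp))
  let D : AddSubgroup ℤ :=
    { carrier := {δ | d.e δ 0 ∈ X}
      zero_mem' := by show d.e 0 0 ∈ X; rw [d.e_zero]; exact one_mem _
      add_mem' := by
        intro i j (hi : d.e i 0 ∈ X) (hj : d.e j 0 ∈ X)
        show d.e (i + j) 0 ∈ X
        have := mul_mem hi hj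
        rwa [d.e_mul, add_zero] at this
      neg_mem' := by
        intro i (hi : d.e i 0 ∈ X)
        show d.e (-i) 0 ∈ X
        have := inv_mem hi
        rwa [d.e_inv, neg_zero] at this }
  have hN : N n ∈ D := by
    show d.e (N n) 0 ∈ X
    rw [d.e_eq_one.mpr ⟨dvd_rfl, dvd_zero _⟩]; exact one_mem _
  obtain ⟨δ, hδ⟩ := Int.subgroup_cyclic D
  have hmem : ∀ i, i ∈ D ↔ δ ∣ i := fun i => by
    rw [hδ, ← AddSubgroup.zmultiples_eq_closure, Int.mem_zmultiples_iff]
  have h1 : δ.natAbs ∣ 2 ^ n := by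
    have := Int.natAbs_dvd_natAbs.mpr ((hmem _).mp hN)
    rwa [N, Int.natAbs_pow] at this
  obtain ⟨k, hk, hk'⟩ := (Nat.dvd_prime_pow Nat.prime_two).mp h1
  have hd : ∀ i, i ∈ D ↔ (2 : ℤ) ^ k ∣ i := fun i => by
    rw [hmem, ← Int.natAbs_dvd, hk']; push_cast; rfl
  have hA : ∀ p r : ℤ, d.e p r ∈ X ↔ (2 : ℤ) ^ k ∣ p - r := fun p r => by
    rw [← hd]
    show d.e p r ∈ X ↔ d.e (p - r) 0 ∈ X
    rw [show d.e p r = d.e (p - r) 0 * d.e r r by rw [d.e_mul, sub_add_cancel, zero_add]]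
    exact X.mul_mem_cancel_right (hzc r)
  refine ⟨k, hk, fun p r => ⟨hA p r, ?_⟩⟩
  rw [show d.e p r * d.z = d.e (p - a) (r - b) * (d.e a b * d.z) by
      rw [d.e_ez, sub_add_cancel, sub_add_cancel], X.mul_mem_cancel_right ht, hA,
    show p - a - (r - b) = p - r - (a - b) by ring]

/-- The form of a nonabelian self-centralizing subgroup with automorphisms of odd order. -/
theorem aut_cases {X : Subgroup S} (hC : centralizer (X : Set S) ≤ X)
    (hA : ¬ IsPGroup 2 (MulAut X)) :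
    X = d.A ∨ (¬ IsMulCommutative X ∧ ∃ c, d.IsX c X) := by
  have hZ : center S ≤ X := fun g hg => hC (mem_centralizer_iff.mpr fun k _ => mem_center_iff.mp hg k)
  by_cases hle : X ≤ d.A
  · refine Or.inl (le_antisymm hle fun g hg => hC (mem_centralizer_iff.mpr fun k hk => ?_))
    exact congrArg Subtype.val (d.A_comm.is_comm.comm ⟨k, hle hk⟩ ⟨g, hg⟩)
  right
  obtain ⟨hN, hH, hQpos⟩ := d.pow_facts
  have htwo := d.two_le
  obtain ⟨t₀, ht₀, ht₀'⟩ := SetLike.not_le_iff_exists.mp hle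
  obtain ⟨a, b, rfl | rfl⟩ := d.normal_form t₀
  · exact absurd (d.mem_A.mpr ⟨a, b, rfl⟩) ht₀'
  obtain ⟨k, hk, hX⟩ := d.structure_of_not_le hZ ht₀
  have hA' := fun p r => (hX p r).1
  have hZX : ∀ p, d.e p p ∈ X := fun p => (hA' p p).mpr (by simp)
  -- the part in `A`
  set B := d.A.subgroupOf X with hB
  have hBi : B.index = 2 := by
    rw [index_eq_two_iff_exists_notMem_and]
    refine ⟨⟨_, ht₀⟩, fun h => d.ez_notMem a b (mem_subgroupOf.mp h), fun x => ?_⟩
    by_cases hx : (x : S) ∈ d.A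
    · exact Or.inr (mem_subgroupOf.mpr hx)
    · exact Or.inl (mem_subgroupOf.mpr
        ((mul_mem_iff_of_index_two d.index_A).mpr (iff_of_false hx (d.ez_notMem a b))))
  have hexp : ∀ x ∈ B, x ^ (2 ^ n) = 1 := fun x hx => by
    obtain ⟨p, r, hpr⟩ := d.mem_A.mp (mem_subgroupOf.mp hx)
    exact Subtype.ext (by rw [SubmonoidClass.coe_pow, hpr, d.e_exp]; rfl)
  have hgX : d.e ((2 : ℤ) ^ k) 0 ∈ X := (hA' _ _).mpr (by simp)
  set g : X := ⟨_, hgX⟩ with hg
  set c : X := ⟨_, hZX 1⟩ with hc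
  have hgB : g ∈ B := mem_subgroupOf.mpr (d.mem_A.mpr ⟨_, _, rfl⟩)
  have hcB : c ∈ B := mem_subgroupOf.mpr (d.mem_A.mpr ⟨_, _, rfl⟩)
  have hgc : Commute g c := Subtype.ext (d.e_comm _ _ _ _).eq
  have hdec : ∀ x ∈ B, ∃ i j : ℤ, x = g ^ i * c ^ j := fun x hx => by
    obtain ⟨p, r, hpr⟩ := d.mem_A.mp (mem_subgroupOf.mp hx)
    obtain ⟨i, hi⟩ := (hA' p r).mp (hpr ▸ x.2)
    refine ⟨i, r, Subtype.ext ?_⟩
    simp only [Subgroup.coe_mul, SubgroupClass.coe_zpow, hg, hc, hpr, d.e_zpow, d.e_mul, mul_zero,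
      mul_one, zero_add]
    congr 1
    linarith
  have houtsq : ∀ x : X, x ∉ B → ∃ p r : ℤ, (x : S) = d.e p r * d.z ∧
      (2 : ℤ) ^ k ∣ p - r - (a - b) := fun x hx => by
    obtain ⟨p, r, h | h⟩ := d.normal_form (x : S)
    · exact absurd (mem_subgroupOf.mpr (d.mem_A.mpr ⟨p, r, h⟩)) hx
    · exact ⟨p, r, h, (hX p r).2.mp (h ▸ x.2)⟩
  by_cases hodd : 1 ≤ k ∧ Odd (a + b)
  · -- elements outside `A` have order `2^(n+1)`
    exfalso; apply hA
    have hBchar : ∀ x : X, x ∈ B ↔ x ^ (2 ^ n) = 1 := fun x => by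
      refine ⟨hexp x, fun h => ?_⟩
      by_contra hx
      obtain ⟨p, r, hpr, hd⟩ := houtsq x hx
      have h1 : (d.e (p + r) (r + p)) ^ (2 ^ (n - 1)) = 1 := by
        rw [← d.ez_ez p r p r, ← pow_two, ← pow_mul, ← pow_succ',
          Nat.sub_add_cancel (by omega), ← hpr]
        exact_mod_cast congrArg Subtype.val h
      rw [← zpow_natCast, d.e_zpow, d.e_eq_one, hN] at h1
      push_cast at h1
      have h2 : (2 : ℤ) ∣ p + r := by
        obtain ⟨⟨s, hs⟩, _⟩ := h1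
        have hH0 := d.H_pos
        refine ⟨s, ?_⟩
        have : H n * (p + r) = H n * (2 * s) := by rw [H] at hs ⊢; linarith
        exact mul_left_cancel₀ hH0.ne' this
      have h3 : (2 : ℤ) ∣ p - r - (a - b) :=
        (dvd_pow_self 2 (by omega : k ≠ 0)).trans hd
      obtain ⟨s, hs⟩ := hodd.2
      omega
    refine isPGroup_aut hBi (fun φ x hx => ?_) hgB hcB hexp hgc hdec fun φ => ?_
    · rw [hBchar, ← map_pow, (hBchar x).mp hx, map_one]
    · -- `c` is a power of the square of an element outside `B`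
      set T : X := ⟨_, ht₀⟩ with hT
      have hTB : T ∉ B := fun h => d.ez_notMem a b (mem_subgroupOf.mp h)
      obtain ⟨u, v, huv⟩ : IsCoprime (a + b) (N n) := by
        obtain ⟨s, hs⟩ := hodd.2
        exact IsCoprime.pow_right ⟨1, -s, by linarith⟩
      have hTc : c = (T * T) ^ u := Subtype.ext (by
        simp only [SubgroupClass.coe_zpow, Subgroup.coe_mul, hT, hc]
        rw [d.ez_ez, d.e_zpow, d.e_eq]
        exact ⟨⟨v, by linarith⟩, ⟨v, by linarith⟩⟩)
      obtain ⟨p, r, hpr, _⟩ := houtsq (φ T) fun h => hTB (by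
        rw [hBchar] at h ⊢
        exact φ.injective (by rw [map_pow, h, map_one]))
      refine mem_zpowers_iff.mpr ⟨u * (p + r), ?_⟩
      rw [hTc, map_zpow, map_mul, ← hTc]
      apply Subtype.ext
      simp only [SubgroupClass.coe_zpow, Subgroup.coe_mul, hpr, hc]
      rw [d.ez_ez, d.e_zpow, d.e_zpow, add_comm r p, mul_one]
  by_cases hk2 : k + 2 ≤ n
  · -- the quotient by the centre is dihedral of order at least 8
    exfalso; apply hA
    have hncomm : ¬ IsMulCommutative X := fun hcomm => by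
      have h1 : N n ∣ (2 : ℤ) ^ k - 0 :=
        d.commute_ez.mp (congrArg Subtype.val (hcomm.is_comm.comm g ⟨_, ht₀⟩))
      rw [sub_zero, N] at h1
      have := Int.le_of_dvd (by positivity) h1
      have h2 : (2 : ℤ) ^ k < 2 ^ n := pow_lt_pow_right₀ one_lt_two (by omega)
      linarith
    have hcen : ∀ x : X, x ∈ center X ↔ (x : S) ∈ center S := fun x =>
      ⟨fun h => d.center_of_nonabelian hncomm ⟨x, h, rfl⟩,
        fun h => mem_center_iff.mpr fun y => Subtype.ext (mem_center_iff.mp h y)⟩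
    have houtc : ∀ x : X, x ∉ B → (((x * x : X)) : S) ∈ center S := fun x hx => by
      obtain ⟨p, r, hpr, _⟩ := houtsq x hx
      rw [Subgroup.coe_mul, hpr, d.ez_ez, d.mem_center_e]
      simp [add_comm]
    have hpres : ∀ (φ : MulAut X) (x : X), x ∈ center X → φ x ∈ center X := fun φ x hx =>
      mem_center_iff.mpr fun y => φ.symm.injective (by
        rw [map_mul, map_mul, φ.symm_apply_apply]; exact mem_center_iff.mp hx _)
    have hgsq : ((g * g : X) : S) ∉ center S := by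
      rw [Subgroup.coe_mul, hg, d.e_mul, d.mem_center_e, N]
      intro h
      have h1 : (2 : ℤ) ^ k + 2 ^ k - (0 + 0) = 2 ^ (k + 1) := by ring
      rw [h1] at h
      have := Int.le_of_dvd (by positivity) h
      have h2 : (2 : ℤ) ^ (k + 1) < 2 ^ n := pow_lt_pow_right₀ one_lt_two (by omega)
      linarith
    have key : ∀ (φ : MulAut X) (x : X), ((x * x : X) : S) ∉ center S → φ x ∈ B := fun φ x hx => by
      by_contra hh
      refine hx ((hcen _).mp ?_)
      have h1 := hpres φ⁻¹ _ ((hcen _).mpr (houtc _ hh))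
      rwa [map_mul, show φ⁻¹ (φ x) = x from φ.symm_apply_apply x] at h1
    refine isPGroup_aut hBi (fun φ x hx => ?_) hgB hcB hexp hgc hdec fun φ => ?_
    · by_cases h : ((x * x : X) : S) ∈ center S
      · have hxg : (((x * g) * (x * g) : X) : S) ∉ center S := by
          intro hh
          apply hgsq
          obtain ⟨p, r, hpr⟩ := d.mem_A.mp (mem_subgroupOf.mp hx)
          have e1 : (((x * g) * (x * g) : X) : S) = ((x * x : X) : S) * ((g * g : X) : S) := by
            simp only [Subgroup.coe_mul, hg, hpr, d.e_mul]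
            congr 1 <;> ring
          rw [e1] at hh
          exact ((center S).mul_mem_cancel_left h).mp hh
        have := mul_mem (key φ _ hxg) (inv_mem (key φ g hgsq))
        rwa [map_mul, mul_inv_cancel_right] at this
      · exact key φ x h
    · have h1 := (hcen _).mp (hpres φ c ((hcen c).mpr (d.mem_center_e.mpr (by simp))))
      rw [d.center_eq, mem_zpowers_iff] at h1
      obtain ⟨i, hi⟩ := h1
      exact mem_zpowers_iff.mpr ⟨i, Subtype.ext (by rw [SubgroupClass.coe_zpow, ← hi])⟩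
  -- now `a + b` is even
  have hk1 : 1 ≤ k := by omega
  obtain ⟨σ, hσ⟩ : Even (a + b) := Int.not_odd_iff_even.mp fun h => hodd ⟨hk1, h⟩
  rcases Nat.lt_or_ge k n with hlt | hge
  · have hkn : (2 : ℤ) ^ k = H n := by rw [H, show k = n - 1 by omega]
    refine ⟨fun hcomm => ?_, a - σ, fun p r => ?_⟩
    · have h1 : N n ∣ (2 : ℤ) ^ k - 0 :=
        d.commute_ez.mp (congrArg Subtype.val (hcomm.is_comm.comm g ⟨_, ht₀⟩))
      rw [sub_zero, hkn] at h1
      exact d.not_N_dvd_H h1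
    · rw [← hkn, show p - r - 2 * (a - σ) = p - r - (a - b) by linarith]
      exact hX p r
  · -- the abelian case
    exfalso; apply hA
    obtain rfl : k = n := le_antisymm hk hge
    have hH0 := d.H_pos
    have hXcomm : ∀ x y : X, Commute x y := fun x y => by
      apply Subtype.ext
      show (x : S) * y = y * x
      obtain ⟨p, r, h1 | h1⟩ := d.normal_form (x : S) <;>
        obtain ⟨p', r', h2 | h2⟩ := d.normal_form (y : S) <;> rw [h1, h2]
      · exact d.e_comm _ _ _ _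
      · exact d.commute_ez.mpr ((hA' p r).mp (h1 ▸ x.2))
      · exact (d.commute_ez.mpr ((hA' p' r').mp (h2 ▸ y.2))).symm
      · rw [d.ez_ez, d.ez_ez, d.e_eq, N]
        obtain ⟨i, hi⟩ := (hX p r).2.mp (h1 ▸ x.2)
        obtain ⟨j, hj⟩ := (hX p' r').2.mp (h2 ▸ y.2)
        exact ⟨⟨i - j, by linarith⟩, ⟨j - i, by linarith⟩⟩
    let M : Subgroup X :=
      { carrier := {x | x ^ (2 ^ (k - 1)) = 1}
        one_mem' := one_pow _
        mul_mem' := fun {x y} (hx : x ^ _ = 1) (hy : y ^ _ = 1) => by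
          show (x * y) ^ _ = 1
          rw [(hXcomm x y).mul_pow, hx, hy, one_mul]
        inv_mem' := fun {x} (hx : x ^ _ = 1) => by
          show x⁻¹ ^ _ = 1
          rw [inv_pow, hx, inv_one] }
    have hMmem : ∀ x, x ∈ M ↔ x ^ (2 ^ (k - 1)) = 1 := fun x => Iff.rfl
    -- the involution outside `A`
    have hwX : d.e (a - σ) (b - σ) * d.z ∈ X := (hX _ _).2.mpr (by simp)
    set w : X := ⟨_, hwX⟩ with hwdef
    have hw2 : w * w = 1 := Subtype.ext (by
      rw [Subgroup.coe_mul, hwdef, d.ez_ez, Subgroup.coe_one, d.e_eq_one,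
        show a - σ + (b - σ) = 0 by linarith, show b - σ + (a - σ) = 0 by linarith]
      exact ⟨dvd_zero _, dvd_zero _⟩)
    have hpw : ∀ i : ℤ, (c ^ i) ^ (2 ^ (k - 1)) = 1 ↔ (2 : ℤ) ∣ i := fun i => by
      rw [← zpow_natCast, ← zpow_mul, Subtype.ext_iff]
      simp only [SubgroupClass.coe_zpow, Subgroup.coe_one, hc, d.e_zpow, d.e_eq_one, mul_one,
        and_self, hN]
      push_cast
      rw [H, mul_dvd_mul_iff_right (by positivity)]
    have hwH : w ^ (2 ^ (k - 1)) = 1 := by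
      rw [show 2 ^ (k - 1) = 2 * 2 ^ (k - 2) by rw [← pow_succ']; congr 1; omega, pow_mul, pow_two,
        hw2, one_pow]
    have hXdec : ∀ x : X, ∃ ε i : ℤ, x = w ^ ε * c ^ i := fun x => by
      by_cases hx : x ∈ B
      · obtain ⟨p, r, hpr⟩ := d.mem_A.mp (mem_subgroupOf.mp hx)
        refine ⟨0, p, Subtype.ext ?_⟩
        simp only [zpow_zero, one_mul, SubgroupClass.coe_zpow, hc, hpr, d.e_zpow, mul_one, d.e_eq,
          sub_self, dvd_zero, true_and, N]
        obtain ⟨i, hi⟩ := (hA' p r).mp (hpr ▸ x.2)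
        exact ⟨-i, by linarith⟩
      · obtain ⟨p, r, hpr, i, hi⟩ := houtsq x hx
        refine ⟨1, p - (a - σ), Subtype.ext ?_⟩
        simp only [zpow_one, Subgroup.coe_mul, SubgroupClass.coe_zpow, hc, hpr, hwdef, d.e_zpow,
          mul_one, d.ez_e, mul_left_inj, d.e_eq, N]
        exact ⟨⟨0, by linarith⟩, ⟨-i, by linarith⟩⟩
    have hMiff : ∀ ε i : ℤ, w ^ ε * c ^ i ∈ M ↔ (2 : ℤ) ∣ i := fun ε i => by
      rw [hMmem, ((hXcomm w c).zpow_zpow ε i).mul_pow,
        show (w ^ ε) ^ (2 ^ (k - 1)) = 1 by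
          rw [← zpow_natCast, ← zpow_mul, mul_comm, zpow_mul, zpow_natCast, hwH, one_zpow],
        one_mul, hpw]
    have hMi : M.index = 2 := by
      rw [index_eq_two_iff_exists_notMem_and]
      refine ⟨c, ?_, fun x => ?_⟩
      · rw [hMmem, ← zpow_one c, hpw]; norm_num
      · obtain ⟨ε, i, rfl⟩ := hXdec x
        rw [hMiff, mul_assoc, ← zpow_add_one, hMiff]
        omega
    have hsq : ∀ x : X, x * x ∈ zpowers (c ^ (2 : ℤ)) := fun x => by
      obtain ⟨ε, i, rfl⟩ := hXdec x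
      refine mem_zpowers_iff.mpr ⟨i, ?_⟩
      rw [← zpow_mul, ← pow_two, ((hXcomm w c).zpow_zpow ε i).mul_pow, pow_two, pow_two,
        ← zpow_add, ← zpow_add, ← two_mul, ← two_mul, zpow_mul w, zpow_two w, hw2, one_zpow, one_mul]
    refine isPGroup_aut (B := M) hMi (fun φ x hx => ?_) (g := w) (c := c ^ (2 : ℤ)) hwH
      ((hMmem _).mpr ((hpw 2).mpr dvd_rfl)) (m := k - 1) (fun x hx => hx) (hXcomm _ _)
      (fun x hx => ?_) fun φ => ?_
    · rw [hMmem, ← map_pow, (hMmem x).mp hx, map_one]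
    · obtain ⟨ε, i, rfl⟩ := hXdec x
      obtain ⟨j, rfl⟩ := (hMiff ε i).mp hx
      exact ⟨ε, j, by rw [zpow_mul]⟩
    · rw [map_zpow, zpow_two (φ c)]; exact hsq (φ c)

theorem IsX.relIndex {c : ℤ} {X : Subgroup S} (h : d.IsX c X) :
    X.relIndex (normalizer (X : Set S)) = 2 := by
  obtain ⟨hN, hH, hQpos⟩ := d.pow_facts
  have hw : d.e c (-c) * d.z ∈ X := (h _ _).2.mpr (by simp [two_mul])
  have hnorm : ∀ p r : ℤ, d.e p r ∈ normalizer (X : Set S) ↔ Q n ∣ p - r := by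
    intro p r
    constructor
    · intro hp
      have h1 := (mem_normalizer_iff.mp hp _).mp hw
      rw [d.conj_e_ez, (h _ _).2] at h1
      obtain ⟨t, ht⟩ := h1
      exact ⟨t, by rw [hH] at ht; linarith⟩
    · rintro ⟨t, ht⟩
      refine mem_normalizer_fintype fun s hs => ?_
      obtain ⟨u, v, rfl | rfl⟩ := d.normal_form s
      · rwa [d.conj_e_e]
      · obtain ⟨j, hj⟩ := (h _ _).2.mp hs
        rw [d.conj_e_ez]
        exact (h _ _).2.mpr ⟨j + t, by rw [hH] at hj ⊢; linarith⟩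
  rw [relIndex_eq_two_iff_exists_notMem_and']
  refine ⟨d.e (Q n) 0, (hnorm _ _).mpr (by simp), fun hh => ?_, fun g hg => ?_⟩
  · have := (h _ _).1.mp hh
    rw [sub_zero] at this
    have := Int.le_of_dvd hQpos this
    linarith
  -- split off a part in `X`
  obtain ⟨p, r, u, hu, rfl⟩ : ∃ p r : ℤ, ∃ u ∈ X, g = d.e p r * u := by
    obtain ⟨p, r, rfl | rfl⟩ := d.normal_form g
    · exact ⟨p, r, 1, one_mem _, (mul_one _).symm⟩
    · exact ⟨p - c, r + c, _, hw, by rw [d.e_ez]; congr 2 <;> ring⟩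
  obtain ⟨t, ht⟩ := (hnorm p r).mp (by
    have := mul_mem hg (inv_mem (le_normalizer hu))
    rwa [mul_inv_cancel_right] at this)
  rcases Int.even_or_odd' t with ⟨s, rfl | rfl⟩
  · exact Or.inr (mul_mem ((h p r).1.mpr ⟨s, by rw [hH]; linarith⟩) hu)
  · left
    rw [← mul_assoc, d.e_mul]
    exact mul_mem ((h _ _).1.mpr ⟨s + 1, by rw [hH]; linarith⟩) hu

theorem IsX.quaternion {c : ℤ} {X : Subgroup S} (h : d.IsX c X) :
    ∃ Q' : Subgroup S, Nonempty (Q' ≃* QuaternionGroup 2) ∧ X = Q' ⊔ center S := by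
  obtain ⟨hN, hH, hQpos⟩ := d.pow_facts
  set α := d.e (Q n) (-Q n) with hα
  set β := d.e (c + H n) (-c) * d.z with hβ
  have hα2 : α * α = d.e (H n) (H n) := by
    rw [hα, d.e_mul, d.e_eq, hN, hH]
    exact ⟨⟨0, by ring⟩, ⟨-1, by ring⟩⟩
  refine ⟨closure {α, β}, ?_, le_antisymm (fun g hg => ?_) (sup_le ((closure_le _).mpr ?_) ?_)⟩
  · haveI : Fact (Nat.Prime 2) := ⟨Nat.prime_two⟩
    refine equiv_quaternion ?_ ?_ ?_ ?_
    · refine orderOf_eq_prime_pow (p := 2) (n := 1) ?_ ?_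
      · rw [pow_one, pow_two, hα2]; exact Cfsg.Lib.Invol.ne_one d.orderOf_HH
      · rw [show (2 : ℕ) ^ (1 + 1) = 2 * 2 by norm_num, pow_mul, pow_two α, hα2, pow_two,
          Cfsg.Lib.Invol.inv_mul_self d.orderOf_HH]
    · rw [pow_two, hα2, hβ, d.ez_ez, d.e_eq]
      exact ⟨by simp, by simp⟩
    · rw [hβ, hα, d.conj_ez_e, d.e_inv, neg_neg]
    · intro hh
      exact d.ez_notMem _ _ ((zpowers_le.mpr (d.mem_A.mpr ⟨_, _, rfl⟩)) hh)
  · have hmemA : ∀ p r, H n ∣ p - r → d.e p r ∈ closure {α, β} ⊔ center S := fun p r hd => by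
      obtain ⟨t, ht⟩ := hd
      have e1 : d.e p r = α ^ t * d.e (p - t * Q n) (r + t * Q n) := by
        rw [hα, d.e_zpow, d.e_mul]; congr 1 <;> ring
      rw [e1]
      refine mul_mem (zpow_mem (mem_sup_left (mem_closure_left _ _)) t)
        (mem_sup_right (d.mem_center_e.mpr ?_))
      rw [hH] at ht
      exact ⟨0, by linarith⟩
    obtain ⟨p, r, rfl | rfl⟩ := d.normal_form g
    · exact hmemA p r ((h p r).1.mp hg)
    · have e1 : d.e p r * d.z = d.e (p - (c + H n)) (r + c) * β := by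
        rw [hβ, d.e_ez]; congr 2 <;> ring
      rw [e1]
      obtain ⟨t, ht⟩ := (h p r).2.mp hg
      exact mul_mem (hmemA _ _ ⟨t - 1, by linarith⟩) (mem_sup_left (mem_closure_right _ _))
  · refine Set.insert_subset ((h _ _).1.mpr ⟨1, by rw [hH]; ring⟩)
      (Set.singleton_subset_iff.mpr ((h _ _).2.mpr ⟨1, by ring⟩))
  · rw [d.center_eq]
    exact zpowers_le.mpr ((h _ _).1.mpr (by simp))

theorem IsX.conj {c c' : ℤ} {X X' : Subgroup S} (h : d.IsX c X) (h' : d.IsX c' X') :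
    ∃ s : S, X.map (MulAut.conj s).toMonoidHom = X' := by
  refine ⟨d.e (c' - c) 0, le_antisymm ?_ fun g hg => ?_⟩
  · rintro _ ⟨g, hg, rfl⟩
    simp only [MulEquiv.coe_toMonoidHom, MulAut.conj_apply]
    obtain ⟨p, r, rfl | rfl⟩ := d.normal_form g
    · rw [d.conj_e_e]; exact (h' p r).1.mpr ((h p r).1.mp hg)
    · rw [d.conj_e_ez]
      obtain ⟨t, ht⟩ := (h p r).2.mp hg
      exact (h' _ _).2.mpr ⟨t, by linarith⟩
  · refine ⟨(d.e (c' - c) 0)⁻¹ * g * d.e (c' - c) 0, ?_, by simp [mul_assoc]⟩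
    rw [d.e_inv]
    obtain ⟨p, r, rfl | rfl⟩ := d.normal_form g
    · rw [d.e_mul, d.e_mul]
      obtain ⟨t, ht⟩ := (h' p r).1.mp hg
      exact (h _ _).1.mpr ⟨t, by linarith⟩
    · rw [d.e_ez, d.ez_e]
      obtain ⟨t, ht⟩ := (h' p r).2.mp hg
      exact (h _ _).2.mpr ⟨t, by linarith⟩

end W

end Cfsg.Lib.TwoGroup
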